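import Groth.Agent.Lib.Helper55.FL.Core

set_option autoImplicit false
universe u

namespace Groth.Agent.Lib.Helper55.FL

open AlgebraicGeometry CategoryTheory

theorem flat_localRingHom_iff {R A : Type u} [CommRing R] [CommRing A] [Algebra R A]
    (p : Ideal R) [p.IsPrime] (q : Ideal A) [q.IsPrime] {h : p = q.comap (algebraMap R A)} :
    (Localization.localRingHom p q (algebraMap R A) h).Flat ↔
      Module.Flat R (Localization.AtPrime q) := by
  let := (Localization.localRingHom p q (algebraMap R A) h).toAlgebra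
  have : IsScalarTower R (Localization.AtPrime p) (Localization.AtPrime q) :=
    .of_algebraMap_eq fun x => by
      simp [RingHom.algebraMap_toAlgebra, Localization.localRingHom_to_map,
        ← IsScalarTower.algebraMap_apply]
  exact Module.flat_iff_of_isLocalization (Localization.AtPrime p) p.primeCompl _

variable {Y S : Scheme.{u}}

theorem stalkMap_flat_iff (f : Y ⟶ S) {U : S.Opens} (hU : IsAffineOpen U)
    {V : Y.Opens} (hV : IsAffineOpen V) (e : V ≤ f ⁻¹ᵁ U) (y : Y) (hy : y ∈ V) :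
    (f.stalkMap y).hom.Flat ↔
      (letI := (f.appLE U V e).hom.toAlgebra
       Module.Flat Γ(S, U) (Localization.AtPrime (hV.primeIdealOf ⟨y, hy⟩).asIdeal)) := by
  letI := (f.appLE U V e).hom.toAlgebra
  rw [RingHom.Flat.respectsIso.arrow_mk_iso_iff
    (IsAffineOpen.arrowStalkMapIso f U hU V hV e hy), CommRingCat.hom_ofHom]
  exact flat_localRingHom_iff _ _

theorem isOpen_stalkMap_flat (f : Y ⟶ S) [LocallyOfFinitePresentation f] :
    IsOpen {x : Y | (f.stalkMap x).hom.Flat} := by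
  rw [isOpen_iff_mem_nhds]
  intro x hx
  obtain ⟨_, ⟨U, hU, rfl⟩, hfxU, -⟩ :=
    S.isBasis_affineOpens.exists_subset_of_mem_open (Set.mem_univ (f x)) isOpen_univ
  obtain ⟨_, ⟨V, hV, rfl⟩, hxV, hVU⟩ :=
    Y.isBasis_affineOpens.exists_subset_of_mem_open (show x ∈ (f ⁻¹ᵁ U : Set Y) from hfxU)
      (f ⁻¹ᵁ U).isOpen
  have hVU' : V ≤ f ⁻¹ᵁ U := hVU
  letI := (f.appLE U V hVU').hom.toAlgebra
  haveI : Algebra.FinitePresentation Γ(S, U) Γ(Y, V) := f.finitePresentation_appLE hU hV hVU'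
  have hopen := isOpen_FL_fp (R := Γ(S, U)) (A := Γ(Y, V))
  have hW' : IsOpen ((fun y : V => hV.primeIdealOf y) ⁻¹' (FL Γ(S, U) Γ(Y, V))) :=
    hopen.preimage hV.isoSpec.hom.continuous
  have hW : IsOpen (Subtype.val '' ((fun y : V => hV.primeIdealOf y) ⁻¹' (FL Γ(S, U) Γ(Y, V)))) :=
    V.isOpen.isOpenMap_subtype_val _ hW'
  refine Filter.mem_of_superset (hW.mem_nhds ⟨⟨x, hxV⟩, ?_, rfl⟩) ?_
  · exact (stalkMap_flat_iff f hU hV hVU' x hxV).1 hx
  · rintro _ ⟨⟨y, hy⟩, hyW, rfl⟩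
    exact (stalkMap_flat_iff f hU hV hVU' y hy).2 hyW

end Groth.Agent.Lib.Helper55.FL
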