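import Groth.Agent.Lib.Helper55.FL.Descent

set_option autoImplicit false
universe u v

namespace Groth.Agent.Lib.Helper55.FL

open TensorProduct

section

variable {k : Type u} [CommRing k] {r : ℕ} (x : Fin r → k)
  (R : Type u) [CommRing R] [Algebra k R] (N : Type u) [CommRing N] [Algebra k N]

def sigN : (Fin r → N) →ₗ[N] N := ∑ i, algebraMap k N (x i) • LinearMap.proj i

lemma sigN_apply (ν : Fin r → N) : sigN x N ν = sig x N ν := by
  simp [sigN, sig_apply, Algebra.smul_def]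

variable {R N}

lemma exists_good_finset (q : Ideal (R ⊗[k] N)) [q.IsPrime]
    (hq : Module.Flat R (Localization.AtPrime q)) (s : Finset (Fin r → N))
    (hs : ∀ ν ∈ s, sig x N ν = 0) :
    ∃ R₁ : Subalgebra k R, R₁.FG ∧ ∀ ν ∈ s, Good x R N q R₁ ν := by
  classical
  induction s using Finset.induction_on with
  | empty => exact ⟨⊥, Subalgebra.fg_bot, by simp⟩
  | insert ν s _ ih =>
    obtain ⟨R₁, h₁, hg⟩ := ih (fun ν' h => hs ν' (Finset.mem_insert_of_mem h))
    obtain ⟨R₂, h₂, hν⟩ := exists_good x q hq ν (hs ν (Finset.mem_insert_self _ _))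
    refine ⟨R₁ ⊔ R₂, h₁.sup h₂, ?_⟩
    intro ν' hν'
    rcases Finset.mem_insert.1 hν' with rfl | hν'
    · exact hν.mono x le_sup_right
    · exact (hg ν' hν').mono x le_sup_left

end

section main

variable {k : Type u} [CommRing k] [IsNoetherianRing k] (p : Ideal k)
  (R : Type u) [CommRing R] [Algebra k R]
  (N : Type u) [CommRing N] [Algebra k N] [Algebra.FiniteType k N]

theorem exists_fg_flat_localization
    (hflat : Module.Flat (k ⧸ p) ((k ⧸ p) ⊗[k] N))
    (q : Ideal (R ⊗[k] N)) [q.IsPrime] (hpq : p.map (algebraMap k (R ⊗[k] N)) ≤ q)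
    (hq : Module.Flat R (Localization.AtPrime q)) :
    ∃ R₁ : Subalgebra k R, R₁.FG ∧
      Module.Flat ↥R₁ (Localization.AtPrime (q.comap (phi R N R₁))) := by
  classical
  obtain ⟨r, x, hx⟩ := Submodule.fg_iff_exists_fin_generating_family.1
    (IsNoetherian.noetherian p)
  have hx : Ideal.span (Set.range x) = p := hx
  have : IsNoetherianRing N := Algebra.FiniteType.isNoetherianRing k N
  obtain ⟨s, hs⟩ := IsNoetherian.noetherian (LinearMap.ker (sigN x N))
  have hs0 : ∀ ν ∈ s, sig x N ν = 0 := by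
    intro ν hν
    have : ν ∈ LinearMap.ker (sigN x N) := hs ▸ Submodule.subset_span hν
    rw [← sigN_apply]
    exact this
  obtain ⟨R₁, hR₁, hgood⟩ := exists_good_finset x q hq s hs0
  refine ⟨R₁, hR₁, ?_⟩
  have : Algebra.FiniteType k ↥R₁ := (Subalgebra.fg_iff_finiteType R₁).1 hR₁
  have : IsNoetherianRing ↥R₁ := Algebra.FiniteType.isNoetherianRing k ↥R₁
  have : IsNoetherianRing (↥R₁ ⊗[k] N) := Algebra.FiniteType.isNoetherianRing ↥R₁ _
  let A₁ := ↥R₁ ⊗[k] N
  let q₁ : Ideal A₁ := q.comap (phi R N R₁)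
  let x₁ : Fin r → ↥R₁ := fun i => algebraMap k ↥R₁ (x i)
  let I₁ : Ideal ↥R₁ := p.map (algebraMap k ↥R₁)
  have hx₁ : Ideal.span (Set.range x₁) = I₁ := by
    show Ideal.span (Set.range x₁) = Ideal.map (algebraMap k ↥R₁) p
    rw [← hx, Ideal.map_span, ← Set.range_comp]
    rfl
  choose! τ hτ hmem using hgood
  let σ : A₁ := ∏ ν ∈ s, τ ν
  have hσ : σ ∈ q₁.primeCompl := by
    intro hmemσ
    have h1 : phi R N R₁ σ ∈ q := hmemσ
    rw [map_prod, Ideal.IsPrime.prod_mem_iff] at h1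
    obtain ⟨ν, hν, h2⟩ := h1
    exact hτ ν hν h2
  have hrel : ∀ ν ∈ LinearMap.ker (sigN x N),
      σ • (fun i => (1 : ↥R₁) ⊗ₜ[k] (ν : Fin r → N) i) ∈ trivRel (S := A₁) x₁ := by
    intro ν hν
    rw [← hs] at hν
    refine Submodule.span_induction ?_ ?_ ?_ ?_ hν
    · intro ν hν
      have h1 : σ = (∏ ν' ∈ s.erase ν, τ ν') * τ ν := by
        rw [mul_comm]
        exact (Finset.mul_prod_erase s τ hν).symm
      rw [h1]
      have h2 : ((∏ ν' ∈ s.erase ν, τ ν') * τ ν) • (fun i => (1 : ↥R₁) ⊗ₜ[k] (ν : Fin r → N) i) =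
          (∏ ν' ∈ s.erase ν, τ ν') • (τ ν • (fun i => (1 : ↥R₁) ⊗ₜ[k] (ν : Fin r → N) i) :
            Fin r → A₁) := by
        funext i
        simp only [Pi.smul_apply, smul_eq_mul, mul_assoc]
      rw [h2]
      exact Submodule.smul_mem _ _ (hmem ν hν)
    · have : (fun i => (1 : ↥R₁) ⊗ₜ[k] (0 : Fin r → N) i) = (0 : Fin r → A₁) := by
        ext i
        simp
      rw [this, smul_zero]
      exact zero_mem _
    · intro a b _ _ ha hb
      have : (fun i => (1 : ↥R₁) ⊗ₜ[k] (a + b) i) =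
          (fun i => (1 : ↥R₁) ⊗ₜ[k] a i) + (fun i => (1 : ↥R₁) ⊗ₜ[k] b i) := by
        ext i
        simp [TensorProduct.tmul_add]
      rw [this, smul_add]
      exact add_mem ha hb
    · intro n a _ ha
      have : (fun i => (1 : ↥R₁) ⊗ₜ[k] (n • a) i) =
          ((1 : ↥R₁) ⊗ₜ[k] n : A₁) • (fun i => (1 : ↥R₁) ⊗ₜ[k] a i) := by
        ext i
        simp
      rw [this, smul_comm]
      exact Submodule.smul_mem _ _ ha
  have hgen : ∀ c ∈ relGenSpan x N ↥R₁, σ • c ∈ trivRel (S := A₁) x₁ := by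
    intro c hc
    refine Submodule.span_induction ?_ ?_ ?_ ?_ hc
    · rintro _ ⟨ν, hν, rfl⟩
      exact hrel ν (by rw [LinearMap.mem_ker, sigN_apply]; exact hν)
    · rw [smul_zero]
      exact zero_mem _
    · intro a b _ _ ha hb
      rw [smul_add]
      exact add_mem ha hb
    · intro t a _ ha
      rw [smul_comm]
      exact Submodule.smul_mem _ _ ha
  have hV : ∀ c : Fin r → A₁, ∑ i, x₁ i • c i = 0 →
      ∃ s' ∈ q₁.primeCompl, s' • c ∈ trivRel (S := A₁) x₁ := by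
    intro c hc
    have hc' : ∑ i, x i • c i = 0 := by
      rw [← hc]
      exact Finset.sum_congr rfl fun i _ => (algebraMap_smul ↥R₁ (x i) (c i)).symm
    have := rel_le x N ↥R₁ p hx c hc'
    obtain ⟨c₁, hc₁, c₂, hc₂, rfl⟩ := Submodule.mem_sup.1 this
    refine ⟨σ, hσ, ?_⟩
    rw [smul_add]
    exact add_mem (hgen c₁ hc₁) (Submodule.smul_mem _ _ hc₂)
  have hIq : I₁.map (algebraMap ↥R₁ A₁) ≤ q₁ := by
    show Ideal.map (algebraMap ↥R₁ A₁) (Ideal.map (algebraMap k ↥R₁) p) ≤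
      Ideal.comap (phi R N R₁) q
    rw [Ideal.map_map, ← IsScalarTower.algebraMap_eq, Ideal.map_le_iff_le_comap]
    intro a ha
    show phi R N R₁ (algebraMap k A₁ a) ∈ q
    rw [AlgHom.commutes]
    exact hpq (Ideal.mem_map_of_mem _ ha)
  exact flat_localization_of_ker_killed I₁ q₁ hIq (hflat_baseChange p N ↥R₁ hflat)
    (ker_killed_of_vform x₁ I₁ hx₁ q₁ hV)

end main

end Groth.Agent.Lib.Helper55.FL
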