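import Groth.Agent.Lib.Helper55.FL.Transport
import Groth.Agent.Lib.Helper55.FL.Pointwise

set_option autoImplicit false
universe u v

namespace Groth.Agent.Lib.Helper55.FL

open TensorProduct

section congr

variable {R A : Type u} [CommRing R] [CommRing A] [Algebra R A]

lemma flat_atPrime_congr {I J : Ideal A} [I.IsPrime] [J.IsPrime] (h : I = J)
    (hI : Module.Flat R (Localization.AtPrime I)) : Module.Flat R (Localization.AtPrime J) := by
  subst h
  exact hI

end congr

section tensor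

variable (k : Type u) [CommRing k] [IsNoetherianRing k] (R : Type u) [CommRing R] [Algebra k R]
  (N : Type u) [CommRing N] [Algebra k N] [Algebra.FiniteType k N]

lemma cancelBaseChange_includeRight (R₁ : Subalgebra k R) (z : ↥R₁ ⊗[k] N) :
    Algebra.TensorProduct.cancelBaseChange k ↥R₁ R R N ((1 : R) ⊗ₜ[↥R₁] z) = phi R N R₁ z := by
  induction z using TensorProduct.induction_on with
  | zero => simp
  | tmul a n =>
    rw [Algebra.TensorProduct.cancelBaseChange_tmul, phi_tmul, Algebra.smul_def, mul_one]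
    rfl
  | add x y hx hy => rw [TensorProduct.tmul_add, map_add, map_add, hx, hy]

theorem FL_mem_nhds_tensor_of_hflat (Q : PrimeSpectrum (R ⊗[k] N)) (p : Ideal k)
    (hpQ : p.map (algebraMap k (R ⊗[k] N)) ≤ Q.asIdeal)
    (hflat : Module.Flat (k ⧸ p) ((k ⧸ p) ⊗[k] N))
    (hQ : Q ∈ FL R (R ⊗[k] N)) : FL R (R ⊗[k] N) ∈ nhds Q := by
  obtain ⟨R₁, hR₁, h₁⟩ := exists_fg_flat_localization p R N hflat Q.asIdeal hpQ hQ
  have : Algebra.FiniteType k ↥R₁ := (Subalgebra.fg_iff_finiteType R₁).1 hR₁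
  have : IsNoetherianRing ↥R₁ := Algebra.FiniteType.isNoetherianRing k ↥R₁
  have hopen := isOpen_flatLocus ↥R₁ (↥R₁ ⊗[k] N)
  have hW : IsOpen (PrimeSpectrum.comap (phi R N R₁ : ↥R₁ ⊗[k] N →+* R ⊗[k] N) ⁻¹'
      {q : PrimeSpectrum (↥R₁ ⊗[k] N) | Module.Flat ↥R₁ (Localization.AtPrime q.asIdeal)}) :=
    hopen.preimage (PrimeSpectrum.continuous_comap _)
  refine Filter.mem_of_superset (hW.mem_nhds h₁) ?_
  intro Q' hQ'
  rw [mem_FL_equiv_iff (Algebra.TensorProduct.cancelBaseChange k ↥R₁ R R N) Q']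
  apply flat_atPrime_tensor_of_flat
  refine flat_atPrime_congr ?_ hQ'
  ext z
  show phi R N R₁ z ∈ Q'.asIdeal ↔
    (Algebra.TensorProduct.cancelBaseChange k ↥R₁ R R N) ((1 : R) ⊗ₜ[↥R₁] z) ∈ Q'.asIdeal
  rw [cancelBaseChange_includeRight]

end tensor

section fp

variable {R A : Type u} [CommRing R] [CommRing A] [Algebra R A]

theorem FL_mem_nhds_of_model (k N : Type u) [CommRing k] [IsNoetherianRing k] [CommRing N]
    [Algebra k N] [Algebra.FiniteType k N] [Algebra k R] (e : R ⊗[k] N ≃ₐ[R] A)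
    (q : PrimeSpectrum A) (hq : q ∈ FL R A) : FL R A ∈ nhds q := by
  rw [FL_mem_nhds_equiv_iff e q]
  have hq₀ := (mem_FL_equiv_iff e q).1 hq
  obtain ⟨q₀, hq₀def⟩ : ∃ q₀, q₀ = PrimeSpectrum.comap (e : R ⊗[k] N →+* A) q := ⟨_, rfl⟩
  rw [← hq₀def] at hq₀ ⊢
  obtain ⟨a, hap, hfa⟩ := exists_flat_quot_tensor_away k N
    (q₀.asIdeal.comap (algebraMap k (R ⊗[k] N)))
  have hg : (1 : R) ⊗ₜ[k] (algebraMap k N a) = algebraMap k (R ⊗[k] N) a := by
    rw [Algebra.algebraMap_eq_smul_one, TensorProduct.tmul_smul, Algebra.algebraMap_eq_smul_one]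
    rfl
  have hgq : (1 : R) ⊗ₜ[k] (algebraMap k N a) ∉ q₀.asIdeal := by
    rw [hg]
    exact hap
  have hrange : q₀ ∈ Set.range (PrimeSpectrum.comap (algebraMap (R ⊗[k] N)
      (Localization.Away ((1 : R) ⊗ₜ[k] (algebraMap k N a))))) := by
    rw [PrimeSpectrum.localization_away_comap_range _ ((1 : R) ⊗ₜ[k] (algebraMap k N a))]
    exact hgq
  obtain ⟨Q, hQ⟩ := hrange
  rw [← hQ, ← FL_mem_nhds_away_iff _ ((1 : R) ⊗ₜ[k] (algebraMap k N a)) Q]
  have hQfl : Q ∈ FL R (Localization.Away ((1 : R) ⊗ₜ[k] (algebraMap k N a))) := by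
    rw [FL_away_eq_preimage _ ((1 : R) ⊗ₜ[k] (algebraMap k N a)), Set.mem_preimage, hQ]
    exact hq₀
  have : Algebra.FiniteType k (Localization.Away (algebraMap k N a)) :=
    Algebra.FiniteType.trans (S := N) inferInstance inferInstance
  let e₂ : R ⊗[k] Localization.Away (algebraMap k N a) ≃ₐ[R]
      Localization.Away ((1 : R) ⊗ₜ[k] (algebraMap k N a)) :=
    IsLocalization.Away.tensorProductEquivTMulRight k R (algebraMap k N a) _
  rw [FL_mem_nhds_equiv_iff e₂ Q]
  have hQ₂ := (mem_FL_equiv_iff e₂ Q).1 hQfl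
  refine FL_mem_nhds_tensor_of_hflat k R (Localization.Away (algebraMap k N a)) _
    (q₀.asIdeal.comap (algebraMap k (R ⊗[k] N))) ?_ hfa hQ₂
  rw [Ideal.map_le_iff_le_comap]
  intro x hx
  simp only [Ideal.mem_comap, PrimeSpectrum.comap_asIdeal]
  have h1 : (e₂ : R ⊗[k] Localization.Away (algebraMap k N a) →+* _)
      (algebraMap k (R ⊗[k] Localization.Away (algebraMap k N a)) x) =
      algebraMap (R ⊗[k] N) (Localization.Away ((1 : R) ⊗ₜ[k] (algebraMap k N a)))
        (algebraMap k (R ⊗[k] N) x) := by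
    rw [IsScalarTower.algebraMap_apply k R (R ⊗[k] Localization.Away (algebraMap k N a)),
      IsScalarTower.algebraMap_apply k R (R ⊗[k] N),
      ← IsScalarTower.algebraMap_apply R (R ⊗[k] N)]
    exact e₂.commutes (algebraMap k R x)
  rw [h1]
  have h2 : algebraMap k (R ⊗[k] N) x ∈ (PrimeSpectrum.comap (algebraMap (R ⊗[k] N)
      (Localization.Away ((1 : R) ⊗ₜ[k] (algebraMap k N a)))) Q).asIdeal := by
    rw [hQ]
    exact hx
  exact h2

variable [Algebra.FinitePresentation R A]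

theorem FL_mem_nhds_fp (q : PrimeSpectrum A) (hq : q ∈ FL R A) : FL R A ∈ nhds q := by
  have : IsNoetherianRing (Algebra.Presentation.ofFinitePresentation R A).Core :=
    Algebra.FiniteType.isNoetherianRing ℤ _
  exact FL_mem_nhds_of_model (Algebra.Presentation.ofFinitePresentation R A).Core
    ((Algebra.Presentation.ofFinitePresentation R A).ModelOfHasCoeffs
      (Algebra.Presentation.ofFinitePresentation R A).Core)
    ((Algebra.Presentation.ofFinitePresentation R A).tensorModelOfHasCoeffsEquiv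
      (Algebra.Presentation.ofFinitePresentation R A).Core) q hq

theorem isOpen_FL_fp : IsOpen (FL R A) :=
  isOpen_iff_mem_nhds.2 fun q hq => FL_mem_nhds_fp q hq

end fp

end Groth.Agent.Lib.Helper55.FL
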