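import Groth.Agent.Lib.Helper55.FL.GenFreeIrred

set_option autoImplicit false

universe u v

namespace Groth.Agent.Lib.Helper55.FL

open TensorProduct

attribute [local instance] Algebra.TensorProduct.rightAlgebra

section transport

/-- Freeness of `C ⊗[k] M₁` is inherited by any `C`-algebra `C'`. -/
theorem free_tensor_of_tower (k C C' : Type u) [CommRing k] [CommRing C] [CommRing C']
    [Algebra k C] [Algebra k C'] [Algebra C C'] [IsScalarTower k C C']
    (M₁ : Type u) [AddCommGroup M₁] [Module k M₁]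
    (h : Module.Free C (C ⊗[k] M₁)) : Module.Free C' (C' ⊗[k] M₁) := by
  have : Module.Free C' (C' ⊗[C] (C ⊗[k] M₁)) := inferInstance
  exact Module.Free.of_equiv (AlgebraTensorModule.cancelBaseChange k C C' C' M₁)

theorem free_tensor_of_algHom {k C C' : Type u} [CommRing k] [CommRing C] [CommRing C']
    [Algebra k C] [Algebra k C'] (φ : C →ₐ[k] C')
    (M₁ : Type u) [AddCommGroup M₁] [Module k M₁]
    (h : Module.Free C (C ⊗[k] M₁)) : Module.Free C' (C' ⊗[k] M₁) := by
  letI := φ.toRingHom.toAlgebra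
  have : IsScalarTower k C C' := IsScalarTower.of_algebraMap_eq' φ.comp_algebraMap.symm
  exact free_tensor_of_tower k C C' M₁ h

end transport

section generic

variable {k R S₁ M₁ : Type u} [CommRing k] [CommRing R] [IsNoetherianRing R] [Algebra k R]
  [CommRing S₁] [Algebra k S₁] [Algebra.FiniteType k S₁] [AddCommGroup M₁] [Module S₁ M₁]
  [Module k M₁] [IsScalarTower k S₁ M₁] [Module.Finite S₁ M₁]

/-- Avoiding all but one minimal prime. -/
theorem exists_avoid_minimalPrimes (p : Ideal R) (hp : p ∈ minimalPrimes R) :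
    ∃ g : R, g ∉ p ∧ ∀ q ∈ minimalPrimes R, q ≠ p → g ∈ q := by
  classical
  have hpp : p.IsPrime := hp.1.1
  have hfin : (minimalPrimes R).Finite := minimalPrimes.finite_of_isNoetherianRing R
  by_contra hcon
  push Not at hcon
  have hle : (hfin.toFinset.erase p).inf id ≤ p := by
    intro g hg
    by_contra hgp
    obtain ⟨q, hq, hqp, hgq⟩ := hcon g hgp
    apply hgq
    have h1 : (hfin.toFinset.erase p).inf id ≤ id q :=
      Finset.inf_le (Finset.mem_erase.2 ⟨hqp, hfin.mem_toFinset.2 hq⟩)
    exact h1 hg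
  obtain ⟨q, hq, hqp⟩ := (Ideal.IsPrime.inf_le' hpp).1 hle
  rw [Finset.mem_erase, Set.Finite.mem_toFinset] at hq
  have h2 : p ≤ q := hp.2 ⟨hq.2.1.1, bot_le⟩ hqp
  exact hq.1 (le_antisymm hqp h2)

theorem exists_free_away_of_flat_general [Nontrivial R]
    (_hfin : Module.Finite S₁ M₁) (hfl : Module.Flat R (R ⊗[k] M₁)) :
    ∃ f : R, ¬ IsNilpotent f ∧
      Module.Free (Localization.Away f) (Localization.Away f ⊗[k] M₁) := by
  classical
  obtain ⟨⟨p, hp⟩⟩ := Ideal.nonempty_minimalPrimes (I := (⊥ : Ideal R)) bot_ne_top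
  have hpp : p.IsPrime := hp.1.1
  obtain ⟨g, hgp, hgq⟩ := exists_avoid_minimalPrimes p hp
  haveI : IsDomain (R ⧸ p) := Ideal.Quotient.isDomain p
  obtain ⟨f', hf', hfree⟩ := Groth.Agent.Lib.Helper18.exists_free_tensor
    (R := R ⧸ p) ((R ⧸ p) ⊗[k] S₁) (((R ⧸ p) ⊗[k] S₁) ⊗[S₁] M₁)
  obtain ⟨f₁, rfl⟩ := Ideal.Quotient.mk_surjective f'
  have hf₁ : f₁ ∉ p := fun h => hf' (Ideal.Quotient.eq_zero_iff_mem.2 h)
  have hfp : f₁ * g ∉ p := fun h => (hpp.mem_or_mem h).elim hf₁ hgp
  refine ⟨f₁ * g, fun ⟨n, hn⟩ => hfp (hpp.mem_of_pow_mem n (hn ▸ p.zero_mem)), ?_⟩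
  -- freeness over `(R/p)_{f₁}` of the `k`-tensor
  have hfreeD : Module.Free (Localization.Away (Ideal.Quotient.mk p f₁))
      (Localization.Away (Ideal.Quotient.mk p f₁) ⊗[k] M₁) :=
    Module.Free.of_equiv ((AlgebraTensorModule.congr
      (LinearEquiv.refl (Localization.Away (Ideal.Quotient.mk p f₁))
        (Localization.Away (Ideal.Quotient.mk p f₁)))
      (Algebra.IsPushout.cancelBaseChange k (R ⧸ p) S₁ ((R ⧸ p) ⊗[k] S₁) M₁)).trans
      (AlgebraTensorModule.cancelBaseChange k (R ⧸ p)
        (Localization.Away (Ideal.Quotient.mk p f₁))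
        (Localization.Away (Ideal.Quotient.mk p f₁)) M₁))
  -- the algebra hom `(R/p)_{f₁} → R_f / p R_f`
  have hunit₁ : IsUnit (algebraMap R (Localization.Away (f₁ * g)) f₁) :=
    isUnit_of_mul_isUnit_left (y := algebraMap R (Localization.Away (f₁ * g)) g) (by
      rw [← map_mul]; exact IsLocalization.Away.algebraMap_isUnit (f₁ * g))
  have hunitg : IsUnit (algebraMap R (Localization.Away (f₁ * g)) g) :=
    isUnit_of_mul_isUnit_right (x := algebraMap R (Localization.Away (f₁ * g)) f₁) (by
      rw [← map_mul]; exact IsLocalization.Away.algebraMap_isUnit (f₁ * g))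
  let ψ : (R ⧸ p) →ₐ[k] (Localization.Away (f₁ * g) ⧸
      p.map (algebraMap R (Localization.Away (f₁ * g)))) :=
    Ideal.Quotient.liftₐ p ((Ideal.Quotient.mkₐ k _).comp
      (IsScalarTower.toAlgHom k R (Localization.Away (f₁ * g)))) (fun a ha => by
        simp only [AlgHom.coe_comp, Function.comp_apply, IsScalarTower.coe_toAlgHom',
          Ideal.Quotient.mkₐ_eq_mk]
        exact Ideal.Quotient.eq_zero_iff_mem.2 (Ideal.mem_map_of_mem _ ha))
  have hψ : ∀ a : R, ψ (Ideal.Quotient.mk p a) =
      Ideal.Quotient.mk _ (algebraMap R (Localization.Away (f₁ * g)) a) := fun a => rfl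
  let φ : Localization.Away (Ideal.Quotient.mk p f₁) →ₐ[k] (Localization.Away (f₁ * g) ⧸
      p.map (algebraMap R (Localization.Away (f₁ * g)))) :=
    IsLocalization.liftAlgHom (M := Submonoid.powers (Ideal.Quotient.mk p f₁)) (f := ψ)
      (fun y => by
        obtain ⟨n, hn⟩ := y.2
        rw [← hn, map_pow, hψ]
        exact (hunit₁.map _).pow n)
  have hfreeQ := free_tensor_of_algHom φ M₁ hfreeD
  haveI : Module.Free (Localization.Away (f₁ * g) ⧸
      p.map (algebraMap R (Localization.Away (f₁ * g))))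
      ((Localization.Away (f₁ * g) ⧸ p.map (algebraMap R (Localization.Away (f₁ * g))))
        ⊗[Localization.Away (f₁ * g)] (Localization.Away (f₁ * g) ⊗[k] M₁)) :=
    Module.Free.of_equiv (AlgebraTensorModule.cancelBaseChange k (Localization.Away (f₁ * g))
      (Localization.Away (f₁ * g) ⧸ p.map (algebraMap R (Localization.Away (f₁ * g))))
      (Localization.Away (f₁ * g) ⧸ p.map (algebraMap R (Localization.Away (f₁ * g))))
      M₁).symm
  haveI hflat5 : Module.Flat (Localization.Away (f₁ * g))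
      (Localization.Away (f₁ * g) ⊗[k] M₁) :=
    Module.Flat.of_linearEquiv
      (AlgebraTensorModule.cancelBaseChange k R (Localization.Away (f₁ * g))
        (Localization.Away (f₁ * g)) M₁).symm
  haveI : IsNoetherianRing (Localization.Away (f₁ * g)) :=
    IsLocalization.isNoetherianRing (Submonoid.powers (f₁ * g)) _ inferInstance
  have hJle : p.map (algebraMap R (Localization.Away (f₁ * g))) ≤
      nilradical (Localization.Away (f₁ * g)) := by
    rw [Ideal.map_le_iff_le_comap]
    intro x hx
    rw [Ideal.mem_comap, mem_nilradical]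
    have hxg : x * g ∈ nilradical R := by
      rw [nilradical, ← Ideal.sInf_minimalPrimes, Ideal.mem_sInf]
      intro q hq
      by_cases hqp : q = p
      · subst hqp; exact Ideal.mul_mem_right _ _ hx
      · exact Ideal.mul_mem_left _ _ (hgq q hq hqp)
    obtain ⟨n, hn⟩ := mem_nilradical.1 hxg
    refine ⟨n, ?_⟩
    have h3 : (algebraMap R (Localization.Away (f₁ * g)) x) ^ n *
        (algebraMap R (Localization.Away (f₁ * g)) g) ^ n = 0 := by
      rw [← mul_pow, ← map_mul, ← map_pow, hn, map_zero]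
    exact (hunitg.pow n).mul_left_eq_zero.1 h3
  have hnil : IsNilpotent (p.map (algebraMap R (Localization.Away (f₁ * g)))) := by
    obtain ⟨n, hn⟩ := IsNoetherianRing.isNilpotent_nilradical (Localization.Away (f₁ * g))
    refine ⟨n, ?_⟩
    have h4 := Ideal.pow_right_mono hJle n
    rw [hn] at h4
    exact le_bot_iff.1 h4
  exact free_of_flat_of_free_quot _ hnil _

end generic

section strat

/-- `(k_a / J k_a) ⊗[k] M₁` is free over `k_a / J k_a`. -/
def FreeAt (k : Type u) [CommRing k] (M₁ : Type u) [AddCommGroup M₁] [Module k M₁]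
    (a : k) (J : Ideal k) : Prop :=
  Module.Free (Localization.Away a ⧸ J.map (algebraMap k (Localization.Away a)))
    ((Localization.Away a ⧸ J.map (algebraMap k (Localization.Away a))) ⊗[k] M₁)

theorem freeAt_of_quot {k : Type u} [CommRing k] (M₁ : Type u) [AddCommGroup M₁] [Module k M₁]
    (I : Ideal k) (f : k)
    (h : Module.Free (Localization.Away (Ideal.Quotient.mk I f))
      (Localization.Away (Ideal.Quotient.mk I f) ⊗[k] M₁)) : FreeAt k M₁ f I := by
  let ψ : (k ⧸ I) →ₐ[k] (Localization.Away f ⧸ I.map (algebraMap k (Localization.Away f))) :=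
    Ideal.Quotient.liftₐ I (Algebra.ofId k _) (fun a ha => by
      rw [Algebra.ofId_apply, IsScalarTower.algebraMap_apply k (Localization.Away f),
        Ideal.Quotient.algebraMap_eq]
      exact Ideal.Quotient.eq_zero_iff_mem.2 (Ideal.mem_map_of_mem _ ha))
  have hψ : ∀ a : k, ψ (Ideal.Quotient.mk I a) =
      Ideal.Quotient.mk _ (algebraMap k (Localization.Away f) a) := fun a => by
    rw [show ψ (Ideal.Quotient.mk I a) = algebraMap k
      (Localization.Away f ⧸ I.map (algebraMap k (Localization.Away f))) a from rfl,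
      IsScalarTower.algebraMap_apply k (Localization.Away f), Ideal.Quotient.algebraMap_eq]
  let φ : Localization.Away (Ideal.Quotient.mk I f) →ₐ[k]
      (Localization.Away f ⧸ I.map (algebraMap k (Localization.Away f))) :=
    IsLocalization.liftAlgHom (M := Submonoid.powers (Ideal.Quotient.mk I f)) (f := ψ)
      (fun y => by
        obtain ⟨n, hn⟩ := y.2
        rw [← hn, map_pow, hψ]
        exact ((IsLocalization.Away.algebraMap_isUnit f).map _).pow n)
  exact free_tensor_of_algHom φ M₁ h

theorem exists_list_freeAt {k S₁ M₁ : Type u} [CommRing k] [IsNoetherianRing k]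
    [CommRing S₁] [Algebra k S₁] [Algebra.FiniteType k S₁] [AddCommGroup M₁] [Module S₁ M₁]
    [Module k M₁] [IsScalarTower k S₁ M₁] (hfin : Module.Finite S₁ M₁) [Module.Flat k M₁]
    (I : Ideal k) :
    ∃ l : List k, I ⊔ Ideal.span {a | a ∈ l} = ⊤ ∧
      ∀ (i : ℕ) (hi : i < l.length),
        FreeAt k M₁ l[i] (I ⊔ Ideal.span {a | a ∈ l.take i}) := by
  induction I using IsNoetherian.induction with
  | hgt I ih =>
  by_cases hI : I = ⊤
  · exact ⟨[], by simp [hI], fun i hi => absurd hi (by simp)⟩
  · have : Nontrivial (k ⧸ I) := Ideal.Quotient.nontrivial_iff.2 hI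
    have hfl : Module.Flat (k ⧸ I) ((k ⧸ I) ⊗[k] M₁) := inferInstance
    obtain ⟨f', hf', hfree⟩ := exists_free_away_of_flat_general (k := k) (R := k ⧸ I)
      (S₁ := S₁) (M₁ := M₁) hfin hfl
    obtain ⟨f, rfl⟩ := Ideal.Quotient.mk_surjective f'
    have hfI : f ∉ I := fun h => hf' (by
      rw [Ideal.Quotient.eq_zero_iff_mem.2 h]; exact IsNilpotent.zero)
    have hlt : I < I ⊔ Ideal.span {f} := by
      refine lt_of_le_of_ne le_sup_left (fun heq => hfI ?_)
      rw [heq]
      exact Ideal.mem_sup_right (Ideal.subset_span rfl)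
    obtain ⟨l', hl', hfree'⟩ := ih _ hlt
    refine ⟨f :: l', ?_, ?_⟩
    · have hset : {a | a ∈ f :: l'} = insert f {a | a ∈ l'} := by
        ext a; simp
      rw [hset, Ideal.span_insert, ← sup_assoc]; exact hl'
    · intro i hi
      cases i with
      | zero =>
        have hset : {a | a ∈ (f :: l').take 0} = (∅ : Set k) := by
          ext a; simp
        rw [hset, Ideal.span_empty, sup_bot_eq]
        exact freeAt_of_quot M₁ I f hfree
      | succ i =>
        have hset : {a | a ∈ (f :: l').take (i + 1)} = insert f {a | a ∈ l'.take i} := by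
          ext a; simp
        rw [hset, Ideal.span_insert, ← sup_assoc]
        exact hfree' i (by simpa using hi)

theorem FreeAt.baseChange {R₀ A : Type u} [CommRing R₀] [CommRing A] [Algebra R₀ A]
    (M₀ M : Type u) [AddCommGroup M₀] [Module R₀ M₀] [AddCommGroup M] [Module A M]
    (e : M ≃ₗ[A] A ⊗[R₀] M₀) (a₀ : R₀) (J₀ : Ideal R₀) (h : FreeAt R₀ M₀ a₀ J₀) :
    FreeAt A M (algebraMap R₀ A a₀) (J₀.map (algebraMap R₀ A)) := by
  have hC : ∀ x : R₀, algebraMap R₀ (Localization.Away (algebraMap R₀ A a₀) ⧸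
      (J₀.map (algebraMap R₀ A)).map
        (algebraMap A (Localization.Away (algebraMap R₀ A a₀)))) x =
      Ideal.Quotient.mk _ (algebraMap A (Localization.Away (algebraMap R₀ A a₀))
        (algebraMap R₀ A x)) := fun x => by
    rw [IsScalarTower.algebraMap_apply R₀ A (Localization.Away (algebraMap R₀ A a₀) ⧸
      (J₀.map (algebraMap R₀ A)).map
        (algebraMap A (Localization.Away (algebraMap R₀ A a₀)))),
      IsScalarTower.algebraMap_apply A (Localization.Away (algebraMap R₀ A a₀))
      (Localization.Away (algebraMap R₀ A a₀) ⧸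
      (J₀.map (algebraMap R₀ A)).map
        (algebraMap A (Localization.Away (algebraMap R₀ A a₀)))), Ideal.Quotient.algebraMap_eq]
  let θ : Localization.Away a₀ →ₐ[R₀] (Localization.Away (algebraMap R₀ A a₀) ⧸
      (J₀.map (algebraMap R₀ A)).map
        (algebraMap A (Localization.Away (algebraMap R₀ A a₀)))) :=
    IsLocalization.liftAlgHom (M := Submonoid.powers a₀) (f := Algebra.ofId R₀ _)
      (fun y => by
        obtain ⟨n, hn⟩ := y.2
        rw [← hn, map_pow, Algebra.ofId_apply, hC]
        exact ((IsLocalization.Away.algebraMap_isUnit (algebraMap R₀ A a₀)).map _).pow n)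
  have hθ : ∀ x : R₀, θ (algebraMap R₀ (Localization.Away a₀) x) =
      algebraMap R₀ _ x := fun x => by
    simp only [θ, IsLocalization.liftAlgHom_apply, IsLocalization.lift_eq]
    rfl
  let φ : (Localization.Away a₀ ⧸ J₀.map (algebraMap R₀ (Localization.Away a₀))) →ₐ[R₀]
      (Localization.Away (algebraMap R₀ A a₀) ⧸
      (J₀.map (algebraMap R₀ A)).map
        (algebraMap A (Localization.Away (algebraMap R₀ A a₀)))) :=
    Ideal.Quotient.liftₐ _ θ (by
      have hle : J₀.map (algebraMap R₀ (Localization.Away a₀)) ≤ RingHom.ker θ.toRingHom := by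
        rw [Ideal.map_le_iff_le_comap]
        intro x hx
        rw [Ideal.mem_comap, RingHom.mem_ker]
        change θ (algebraMap R₀ (Localization.Away a₀) x) = 0
        rw [hθ, hC]
        exact Ideal.Quotient.eq_zero_iff_mem.2
          (Ideal.mem_map_of_mem _ (Ideal.mem_map_of_mem _ hx))
      intro a ha
      exact hle ha)
  have h1 := free_tensor_of_algHom φ M₀ h
  exact Module.Free.of_equiv ((AlgebraTensorModule.congr (LinearEquiv.refl _ _) e).trans
    (AlgebraTensorModule.cancelBaseChange R₀ A _ _ M₀)).symm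

end strat

end Groth.Agent.Lib.Helper55.FL
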