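import Groth.Agent.Lib.Helper55.FL.Assembly

set_option autoImplicit false
universe u v

namespace Groth.Agent.Lib.Helper55.FL

open TensorProduct

section main

variable {R S M : Type u} [CommRing R] [CommRing S] [Algebra R S] [AddCommGroup M] [Module S M]
  [Module R M] [IsScalarTower R S M] [Module.Flat R M]

attribute [local instance] Algebra.TensorProduct.rightAlgebra

theorem descent_of_model (k₁ : Type u) [CommRing k₁] [Algebra k₁ R] (S₁ : Type u) [CommRing S₁]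
    [Algebra k₁ S₁] (e₁ : R ⊗[k₁] S₁ ≃ₐ[R] S) (n : ℕ) (G' : Set (Fin n → S₁))
    [Algebra.FiniteType ℤ k₁] [Algebra.FiniteType k₁ S₁]
    (eM : M ≃ₗ[S] (Fin n → S) ⧸ Submodule.span S
      ((fun (h : Fin n → S₁) (i : Fin n) => e₁ ((1 : R) ⊗ₜ[k₁] h i)) '' G')) :
    ∃ (R₀ : Type u) (_ : CommRing R₀) (_ : Algebra R₀ R) (S₀ : Type u) (_ : CommRing S₀)
      (_ : Algebra R₀ S₀) (_ : Algebra S₀ S) (_ : Algebra R₀ S) (_ : IsScalarTower R₀ R S)
      (_ : IsScalarTower R₀ S₀ S) (M₀ : Type u) (_ : AddCommGroup M₀) (_ : Module S₀ M₀)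
      (_ : Module R₀ M₀) (_ : IsScalarTower R₀ S₀ M₀) (_ : Module S₀ M) (_ : IsScalarTower S₀ S M)
      (f : M₀ →ₗ[S₀] M),
      Algebra.FiniteType ℤ R₀ ∧ Algebra.FiniteType R₀ S₀ ∧ Module.Finite S₀ M₀ ∧ Module.Flat R₀ M₀ ∧
        Algebra.IsPushout R₀ R S₀ S ∧ IsBaseChange S f := by
  classical
  letI algS₁S : Algebra S₁ S :=
    ((e₁ : R ⊗[k₁] S₁ →+* S).comp (algebraMap S₁ (R ⊗[k₁] S₁))).toAlgebra
  letI algk₁S : Algebra k₁ S := ((algebraMap R S).comp (algebraMap k₁ R)).toAlgebra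
  haveI t1 : IsScalarTower k₁ R S := IsScalarTower.of_algebraMap_eq fun _ => rfl
  haveI t2 : IsScalarTower k₁ S₁ S := IsScalarTower.of_algebraMap_eq fun x => by
    show algebraMap R S (algebraMap k₁ R x) =
      e₁ (algebraMap S₁ (R ⊗[k₁] S₁) (algebraMap k₁ S₁ x))
    rw [← e₁.commutes, ← IsScalarTower.algebraMap_apply k₁ S₁ (R ⊗[k₁] S₁),
      IsScalarTower.algebraMap_apply k₁ R (R ⊗[k₁] S₁)]
  haveI hpo : Algebra.IsPushout k₁ R S₁ S :=
    Algebra.IsPushout.of_equiv (h := (inferInstance : Algebra.IsPushout k₁ R S₁ (R ⊗[k₁] S₁)))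
      e₁ rfl
  letI modS₁M : Module S₁ M := Module.compHom M (algebraMap S₁ S)
  haveI t3 : IsScalarTower S₁ S M := IsScalarTower.of_algebraMap_smul fun _ _ => rfl
  have hspan : spanB S₁ S n G' = Submodule.span S
      ((fun (h : Fin n → S₁) (i : Fin n) => e₁ ((1 : R) ⊗ₜ[k₁] h i)) '' G') := rfl
  let eQ : ((Fin n → S) ⧸ spanB S₁ S n G') ≃ₗ[S] M :=
    (Submodule.quotEquivOfEq _ _ hspan).trans eM.symm
  let f₁ : ((Fin n → S₁) ⧸ Submodule.span S₁ G') →ₗ[S₁] M :=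
    (eQ.toLinearMap.restrictScalars S₁) ∘ₗ quotMap S₁ S n G'
  have hf₁ : IsBaseChange S f₁ :=
    IsBaseChange.of_equiv ((isBaseChange_quotMap S₁ S n G').equiv.trans eQ) fun x => by
      rw [LinearEquiv.trans_apply, IsBaseChange.equiv_tmul, one_smul]
      rfl
  let eRM : R ⊗[k₁] ((Fin n → S₁) ⧸ Submodule.span S₁ G') ≃ₗ[R] M :=
    (Algebra.IsPushout.cancelBaseChange k₁ R S₁ S
      ((Fin n → S₁) ⧸ Submodule.span S₁ G')).symm.trans (hf₁.equiv.restrictScalars R)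
  haveI hflRM : Module.Flat R (R ⊗[k₁] ((Fin n → S₁) ⧸ Submodule.span S₁ G')) :=
    Module.Flat.of_linearEquiv eRM
  obtain ⟨m, π, hπ⟩ := Algebra.FiniteType.iff_quotient_mvPolynomial''.1
    (inferInstance : Algebra.FiniteType k₁ S₁)
  letI algPS : Algebra (MvPolynomial (Fin m) k₁) S₁ := π.toRingHom.toAlgebra
  haveI t4 : IsScalarTower k₁ (MvPolynomial (Fin m) k₁) S₁ :=
    IsScalarTower.of_algebraMap_eq fun x => (π.commutes x).symm
  haveI fin1 : Module.Finite (MvPolynomial (Fin m) k₁) S₁ :=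
    Module.Finite.of_surjective (Algebra.linearMap (MvPolynomial (Fin m) k₁) S₁) hπ
  haveI fin2 : Module.Finite (MvPolynomial (Fin m) k₁)
      ((Fin n → S₁) ⧸ Submodule.span S₁ G') := Module.Finite.trans S₁ _
  letI algN := Idz.algebraOf (MvPolynomial (Fin m) k₁)
    ((Fin n → S₁) ⧸ Submodule.span S₁ G') k₁
  haveI t7 : IsScalarTower k₁ (MvPolynomial (Fin m) k₁)
      (Idz (MvPolynomial (Fin m) k₁) ((Fin n → S₁) ⧸ Submodule.span S₁ G')) :=
    IsScalarTower.of_algebraMap_eq fun _ => rfl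
  haveI fin3 : Module.Finite (MvPolynomial (Fin m) k₁)
      (Idz (MvPolynomial (Fin m) k₁) ((Fin n → S₁) ⧸ Submodule.span S₁ G')) :=
    Module.Finite.equiv (Idz.equivProd _ _).symm
  haveI ft : Algebra.FiniteType k₁
      (Idz (MvPolynomial (Fin m) k₁) ((Fin n → S₁) ⧸ Submodule.span S₁ G')) :=
    Algebra.FiniteType.trans (S := MvPolynomial (Fin m) k₁) inferInstance inferInstance
  haveI : IsNoetherianRing k₁ := Algebra.FiniteType.isNoetherianRing ℤ k₁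
  have hflatN : Module.Flat R (R ⊗[k₁]
      Idz (MvPolynomial (Fin m) k₁) ((Fin n → S₁) ⧸ Submodule.span S₁ G')) := by
    haveI := flat_prod (inferInstance : Module.Flat R (R ⊗[k₁] MvPolynomial (Fin m) k₁)) hflRM
    exact Module.Flat.of_linearEquiv (Idz.tensorEquiv k₁ R)
  obtain ⟨R₄, hR₄, h₄⟩ := exists_fg_flat hflatN
  have hflat₄ : Module.Flat ↥R₄ (↥R₄ ⊗[k₁] ((Fin n → S₁) ⧸ Submodule.span S₁ G')) :=
    flat_of_flat_prod_right ((Module.Flat.equiv_iff (Idz.tensorEquiv k₁ ↥R₄)).1 h₄)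
  exact final_assembly f₁ hf₁ R₄ hR₄ hflat₄

end main

end Groth.Agent.Lib.Helper55.FL
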