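import Groth.Agent.Lib.Helper55.FL.Idz

set_option autoImplicit false
universe u v

namespace Groth.Agent.Lib.Helper55.FL

open TensorProduct

section polycase

variable {R P M : Type u} [CommRing R] [CommRing P] [Algebra R P]
  [Algebra.FinitePresentation R P] [AddCommGroup M] [Module P M] [Module R M]
  [IsScalarTower R P M] [Module.FinitePresentation P M]

theorem isOpen_flat_localizedModule
    (hP : ∀ q : PrimeSpectrum P, Module.Flat R (Localization.AtPrime q.asIdeal)) :
    IsOpen {q : PrimeSpectrum P | Module.Flat R (LocalizedModule q.asIdeal.primeCompl M)} := by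
  letI := Idz.algebraOf P M R
  haveI : IsScalarTower R P (Idz P M) := IsScalarTower.of_algebraMap_eq fun _ => rfl
  haveI : Algebra.FinitePresentation P (Idz P M) := Idz.finitePresentation P M
  haveI : Algebra.FinitePresentation R (Idz P M) := Algebra.FinitePresentation.trans R P (Idz P M)
  have hopen := isOpen_FL_fp (R := R) (A := Idz P M)
  have := hopen.preimage (PrimeSpectrum.continuous_comap (Idz.fst P M : Idz P M →+* P))
  convert this using 1
  ext q
  exact (Idz.flat_atPrime_iff R q.asIdeal (hP q)).symm

end polycase

section surj

variable {P S : Type u} [CommRing P] [CommRing S] [Algebra P S]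
  (hπ : Function.Surjective (algebraMap P S)) (M : Type u) [AddCommGroup M] [Module S M]
  [Module P M] [IsScalarTower P S M]

include hπ in
theorem algebraMapSubmonoid_primeCompl_comap (q : Ideal S) [q.IsPrime] :
    Algebra.algebraMapSubmonoid S (q.comap (algebraMap P S)).primeCompl = q.primeCompl := by
  ext s
  constructor
  · rintro ⟨p, hp, rfl⟩
    exact hp
  · intro hs
    obtain ⟨p, rfl⟩ := hπ s
    exact ⟨p, hs, rfl⟩

noncomputable def localizedModuleEquivOfSurjective (q : Ideal S) [q.IsPrime] :
    LocalizedModule (q.comap (algebraMap P S)).primeCompl M ≃ₗ[P]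
      LocalizedModule q.primeCompl M := by
  haveI : IsLocalizedModule (Algebra.algebraMapSubmonoid S (q.comap (algebraMap P S)).primeCompl)
      (LocalizedModule.mkLinearMap q.primeCompl M) := by
    rw [algebraMapSubmonoid_primeCompl_comap hπ q]
    infer_instance
  haveI := IsLocalizedModule.restrictScalars (q.comap (algebraMap P S)).primeCompl
    (LocalizedModule.mkLinearMap q.primeCompl M)
  exact IsLocalizedModule.linearEquiv (q.comap (algebraMap P S)).primeCompl
    (LocalizedModule.mkLinearMap _ M)
    ((LocalizedModule.mkLinearMap q.primeCompl M).restrictScalars P)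

end surj

section fp

variable {R S M : Type u} [CommRing R] [CommRing S] [Algebra R S]
  [Algebra.FinitePresentation R S] [AddCommGroup M] [Module S M] [Module R M]
  [IsScalarTower R S M] [Module.FinitePresentation S M]

theorem isOpen_flat_localizedModule_of_fp :
    IsOpen {q : PrimeSpectrum S | Module.Flat R (LocalizedModule q.asIdeal.primeCompl M)} := by
  obtain ⟨n, π, hπ, hker⟩ := Algebra.FinitePresentation.out (R := R) (A := S)
  letI : Algebra (MvPolynomial (Fin n) R) S := π.toRingHom.toAlgebra
  haveI : IsScalarTower R (MvPolynomial (Fin n) R) S :=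
    IsScalarTower.of_algebraMap_eq fun x => (π.commutes x).symm
  letI : Module (MvPolynomial (Fin n) R) M := Module.compHom M (π : MvPolynomial (Fin n) R →+* S)
  haveI : IsScalarTower (MvPolynomial (Fin n) R) S M :=
    ⟨fun p s m => by
      show (π p * s) • m = π p • (s • m)
      rw [mul_smul]⟩
  haveI : IsScalarTower R (MvPolynomial (Fin n) R) M :=
    ⟨fun r p m => by
      show π (r • p) • m = r • (π p • m)
      rw [map_smul, smul_assoc]⟩
  have hπ' : Function.Surjective (algebraMap (MvPolynomial (Fin n) R) S) := hπ
  haveI : Module.FinitePresentation (MvPolynomial (Fin n) R) S :=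
    Module.finitePresentation_of_surjective (Algebra.linearMap (MvPolynomial (Fin n) R) S) hπ'
      hker
  haveI : Module.FinitePresentation (MvPolynomial (Fin n) R) M :=
    Module.FinitePresentation.trans (MvPolynomial (Fin n) R) M S
  have hopenP := isOpen_flat_localizedModule (R := R) (P := MvPolynomial (Fin n) R) (M := M)
    (fun q => inferInstance)
  have := hopenP.preimage (PrimeSpectrum.continuous_comap (algebraMap (MvPolynomial (Fin n) R) S))
  convert this using 1
  ext q
  exact Module.Flat.equiv_iff
    ((localizedModuleEquivOfSurjective hπ' M q.asIdeal).restrictScalars R).symm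

end fp

end Groth.Agent.Lib.Helper55.FL
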