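import Groth.Agent.Lib.Helper55.FL.NoethOpen

set_option autoImplicit false
universe u v

namespace Groth.Agent.Lib.Helper55.FL

open TensorProduct

section defs

variable (R : Type u) [CommRing R] (A : Type u) [CommRing A] [Algebra R A]

def FL : Set (PrimeSpectrum A) :=
  {q | Module.Flat R (Localization.AtPrime q.asIdeal)}

variable {R A}

lemma mem_FL (q : PrimeSpectrum A) :
    q ∈ FL R A ↔ Module.Flat R (Localization.AtPrime q.asIdeal) := Iff.rfl

end defs

section away

variable {R : Type u} [CommRing R] {A : Type u} [CommRing A] [Algebra R A]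
  (B : Type u) [CommRing B] [Algebra A B] [Algebra R B] [IsScalarTower R A B]

theorem flat_atPrime_away_iff (g : A) [IsLocalization.Away g B] (P : Ideal B) [P.IsPrime] :
    Module.Flat R (Localization.AtPrime P) ↔
      Module.Flat R (Localization.AtPrime (P.comap (algebraMap A B))) := by
  haveI : IsLocalization.AtPrime (Localization.AtPrime P) (P.comap (algebraMap A B)) :=
    IsLocalization.isLocalization_isLocalization_atPrime_isLocalization (Submonoid.powers g)
      (Localization.AtPrime P) P
  let e : Localization.AtPrime (P.comap (algebraMap A B)) ≃ₐ[A] Localization.AtPrime P :=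
    IsLocalization.algEquiv (P.comap (algebraMap A B)).primeCompl _ _
  exact (Module.Flat.equiv_iff (e.toLinearEquiv.restrictScalars R)).symm

theorem FL_away_eq_preimage (g : A) [IsLocalization.Away g B] :
    FL R B = PrimeSpectrum.comap (algebraMap A B) ⁻¹' FL R A := by
  ext P
  exact flat_atPrime_away_iff B g P.asIdeal

theorem FL_mem_nhds_away_iff (g : A) [IsLocalization.Away g B] (P : PrimeSpectrum B) :
    FL R B ∈ nhds P ↔ FL R A ∈ nhds (PrimeSpectrum.comap (algebraMap A B) P) := by
  rw [← (PrimeSpectrum.localization_away_isOpenEmbedding B g).map_nhds_eq, Filter.mem_map,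
    FL_away_eq_preimage B g]

end away

section equiv

variable {R : Type u} [CommRing R] {A : Type u} [CommRing A] [Algebra R A]
  {B : Type u} [CommRing B] [Algebra R B]

theorem FL_mem_nhds_equiv_iff (e : A ≃ₐ[R] B) (P : PrimeSpectrum B) :
    FL R B ∈ nhds P ↔ FL R A ∈ nhds (PrimeSpectrum.comap (e : A →+* B) P) := by
  letI : Algebra A B := (e : A →+* B).toAlgebra
  haveI : IsScalarTower R A B := IsScalarTower.of_algebraMap_eq fun x => (e.commutes x).symm
  haveI : IsLocalization.Away (1 : A) B :=
    IsLocalization.away_of_isUnit_of_bijective B isUnit_one e.bijective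
  exact FL_mem_nhds_away_iff B (1 : A) P

theorem mem_FL_equiv_iff (e : A ≃ₐ[R] B) (P : PrimeSpectrum B) :
    P ∈ FL R B ↔ PrimeSpectrum.comap (e : A →+* B) P ∈ FL R A := by
  letI : Algebra A B := (e : A →+* B).toAlgebra
  haveI : IsScalarTower R A B := IsScalarTower.of_algebraMap_eq fun x => (e.commutes x).symm
  haveI : IsLocalization.Away (1 : A) B :=
    IsLocalization.away_of_isUnit_of_bijective B isUnit_one e.bijective
  exact flat_atPrime_away_iff B (1 : A) P.asIdeal

end equiv

section bc

theorem flat_atPrime_of_flat_localization_le {R B : Type u} [CommRing R] [CommRing B]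
    [Algebra R B] (T : Submonoid B) (Q : Ideal B) [Q.IsPrime] (hT : T ≤ Q.primeCompl)
    (hC : Module.Flat R (Localization T)) : Module.Flat R (Localization.AtPrime Q) := by
  letI : Algebra (Localization T) (Localization.AtPrime Q) :=
    IsLocalization.localizationAlgebraOfSubmonoidLe _ _ T Q.primeCompl hT
  haveI : IsScalarTower B (Localization T) (Localization.AtPrime Q) :=
    IsLocalization.localization_isScalarTower_of_submonoid_le _ _ _ _ hT
  haveI : IsLocalization (Q.primeCompl.map (algebraMap B (Localization T)))
      (Localization.AtPrime Q) :=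
    IsLocalization.isLocalization_of_submonoid_le _ _ T Q.primeCompl hT
  haveI : Module.Flat (Localization T) (Localization.AtPrime Q) :=
    IsLocalization.flat _ (Q.primeCompl.map (algebraMap B (Localization T)))
  haveI : IsScalarTower R (Localization T) (Localization.AtPrime Q) :=
    IsScalarTower.of_algebraMap_eq fun x => by
      rw [IsScalarTower.algebraMap_apply R B (Localization T),
        ← IsScalarTower.algebraMap_apply B, ← IsScalarTower.algebraMap_apply R B]
  exact Module.Flat.trans R (Localization T) (Localization.AtPrime Q)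

variable {R₁ : Type u} [CommRing R₁] (R : Type u) [CommRing R] [Algebra R₁ R]
  (A₁ : Type u) [CommRing A₁] [Algebra R₁ A₁]

theorem flat_atPrime_tensor_of_flat (Q : Ideal (R ⊗[R₁] A₁)) [Q.IsPrime]
    (h : Module.Flat R₁ (Localization.AtPrime
      (Q.comap (Algebra.TensorProduct.includeRight (R := R₁) (A := R) (B := A₁))))) :
    Module.Flat R (Localization.AtPrime Q) := by
  have hT : (Q.comap (Algebra.TensorProduct.includeRight (R := R₁) (A := R)
      (B := A₁))).primeCompl.map (Algebra.TensorProduct.includeRight (R := R₁) (A := R)
      (B := A₁)) ≤ Q.primeCompl := by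
    rintro _ ⟨y, hy, rfl⟩
    exact hy
  refine flat_atPrime_of_flat_localization_le _ Q hT ?_
  let e : R ⊗[R₁] Localization.AtPrime (Q.comap (Algebra.TensorProduct.includeRight (R := R₁)
      (A := R) (B := A₁))) ≃ₐ[R] Localization ((Q.comap (Algebra.TensorProduct.includeRight
      (R := R₁) (A := R) (B := A₁))).primeCompl.map (Algebra.TensorProduct.includeRight
      (R := R₁) (A := R) (B := A₁))) :=
    IsLocalization.tensorProductEquivOfMapIncludeRight R₁ R
      (Q.comap (Algebra.TensorProduct.includeRight (R := R₁) (A := R) (B := A₁))).primeCompl _ _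
  exact Module.Flat.of_linearEquiv e.symm.toLinearEquiv

end bc

end Groth.Agent.Lib.Helper55.FL
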