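import Groth.Agent.Lib.Helper55.FL.Core

set_option autoImplicit false
universe u v

namespace Groth.Agent.Lib.Helper55.FL

open TensorProduct

section mono

variable (k : Type u) [CommRing k] (R₁ R₂ N : Type u) [CommRing R₁] [CommRing R₂] [CommRing N]
  [Algebra k R₁] [Algebra k R₂] [Algebra k N] [Algebra R₁ R₂] [IsScalarTower k R₁ R₂]

noncomputable def tmap : R₁ ⊗[k] N →ₐ[k] R₂ ⊗[k] N :=
  Algebra.TensorProduct.map (IsScalarTower.toAlgHom k R₁ R₂) (AlgHom.id k N)

@[simp]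
lemma tmap_tmul (a : R₁) (n : N) : tmap k R₁ R₂ N (a ⊗ₜ[k] n) = algebraMap R₁ R₂ a ⊗ₜ[k] n := by
  simp [tmap]

lemma cancelBaseChange_one_tmul (z : R₁ ⊗[k] N) :
    Algebra.TensorProduct.cancelBaseChange k R₁ R₂ R₂ N ((1 : R₂) ⊗ₜ[R₁] z) =
      tmap k R₁ R₂ N z := by
  induction z using TensorProduct.induction_on with
  | zero => simp
  | tmul a n =>
    rw [Algebra.TensorProduct.cancelBaseChange_tmul, tmap_tmul, Algebra.smul_def, mul_one]
  | add x y hx hy => rw [TensorProduct.tmul_add, map_add, map_add, hx, hy]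

theorem flat_atPrime_of_flat_comap_tmap (Q : Ideal (R₂ ⊗[k] N)) [Q.IsPrime]
    (h : Module.Flat R₁ (Localization.AtPrime (Q.comap (tmap k R₁ R₂ N)))) :
    Module.Flat R₂ (Localization.AtPrime Q) := by
  have := (mem_FL_equiv_iff (Algebra.TensorProduct.cancelBaseChange k R₁ R₂ R₂ N)
    (⟨Q, inferInstance⟩ : PrimeSpectrum (R₂ ⊗[k] N))).2
  apply this
  apply flat_atPrime_tensor_of_flat
  refine flat_atPrime_congr ?_ h
  ext z
  show tmap k R₁ R₂ N z ∈ Q ↔
    (Algebra.TensorProduct.cancelBaseChange k R₁ R₂ R₂ N) ((1 : R₂) ⊗ₜ[R₁] z) ∈ Q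
  rw [cancelBaseChange_one_tmul]

end mono

section monosub

variable {k : Type u} [CommRing k] {R : Type u} [CommRing R] [Algebra k R]
  {N : Type u} [CommRing N] [Algebra k N]

lemma tmap_eq_phi (R₁ : Subalgebra k R) (z : ↥R₁ ⊗[k] N) :
    tmap k ↥R₁ R N z = phi R N R₁ z := by
  induction z using TensorProduct.induction_on with
  | zero => simp
  | tmul a n => simp
  | add x y hx hy => rw [map_add, map_add, hx, hy]

theorem flat_atPrime_of_flat_comap_phi (R₁ : Subalgebra k R) (Q : Ideal (R ⊗[k] N)) [Q.IsPrime]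
    (h : Module.Flat ↥R₁ (Localization.AtPrime (Q.comap (phi R N R₁)))) :
    Module.Flat R (Localization.AtPrime Q) := by
  apply flat_atPrime_of_flat_comap_tmap k ↥R₁ R N Q
  refine flat_atPrime_congr ?_ h
  ext z
  show phi R N R₁ z ∈ Q ↔ tmap k ↥R₁ R N z ∈ Q
  rw [tmap_eq_phi]

theorem flat_atPrime_of_flat_comap_iota {R₁ R₂ : Subalgebra k R} (hle : R₁ ≤ R₂)
    (Q : Ideal (↥R₂ ⊗[k] N)) [Q.IsPrime]
    (h : Module.Flat ↥R₁ (Localization.AtPrime (Q.comap (iota R N hle)))) :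
    Module.Flat ↥R₂ (Localization.AtPrime Q) := by
  letI : Algebra ↥R₁ ↥R₂ := (Subalgebra.inclusion hle).toRingHom.toAlgebra
  haveI : IsScalarTower k ↥R₁ ↥R₂ :=
    IsScalarTower.of_algebraMap_eq fun x => ((Subalgebra.inclusion hle).commutes x).symm
  apply flat_atPrime_of_flat_comap_tmap k ↥R₁ ↥R₂ N Q
  refine flat_atPrime_congr ?_ h
  ext z
  show iota R N hle z ∈ Q ↔ tmap k ↥R₁ ↥R₂ N z ∈ Q
  have : tmap k ↥R₁ ↥R₂ N z = iota R N hle z := by
    induction z using TensorProduct.induction_on with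
    | zero => simp
    | tmul a n =>
      rw [tmap_tmul, iota_tmul]
      rfl
    | add x y hx hy => rw [map_add, map_add, hx, hy]
  rw [this]

end monosub


section lmap

variable (k : Type u) [CommRing k] (R₀ : Type u) [CommRing R₀] [Algebra k R₀]
  (N : Type u) [CommRing N] [Algebra k N] (a' : N)

@[reducible] noncomputable def lmapAlg :
    Algebra (R₀ ⊗[k] N) (R₀ ⊗[k] Localization.Away a') :=
  (Algebra.TensorProduct.map (AlgHom.id k R₀)
    (IsScalarTower.toAlgHom k N (Localization.Away a'))).toRingHom.toAlgebra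

lemma lmapAlg_tmul (x : R₀) (n : N) :
    letI := lmapAlg k R₀ N a'
    algebraMap (R₀ ⊗[k] N) (R₀ ⊗[k] Localization.Away a') (x ⊗ₜ[k] n) =
      x ⊗ₜ[k] algebraMap N (Localization.Away a') n := by
  letI := lmapAlg k R₀ N a'
  simp [RingHom.algebraMap_toAlgebra]

lemma lmapAlg_isScalarTower :
    letI := lmapAlg k R₀ N a'
    IsScalarTower R₀ (R₀ ⊗[k] N) (R₀ ⊗[k] Localization.Away a') := by
  letI := lmapAlg k R₀ N a'
  refine IsScalarTower.of_algebraMap_eq fun x => ?_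
  rw [Algebra.TensorProduct.algebraMap_apply, Algebra.TensorProduct.algebraMap_apply,
    lmapAlg_tmul, map_one]

lemma lmapAlg_isLocalization :
    letI := lmapAlg k R₀ N a'
    IsLocalization.Away ((1 : R₀) ⊗ₜ[k] a') (R₀ ⊗[k] Localization.Away a') := by
  letI := lmapAlg k R₀ N a'
  haveI := lmapAlg_isScalarTower k R₀ N a'
  have h := IsLocalization.tensorProduct_tensorProduct_right k R₀ (Submonoid.powers a')
    (Localization.Away a') (by
      ext n
      simp [RingHom.algebraMap_toAlgebra])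
  rw [Submonoid.map_powers] at h
  exact h

end lmap

section pw

variable {k : Type u} [CommRing k] [IsNoetherianRing k] {R : Type u} [CommRing R] [Algebra k R]
  {N : Type u} [CommRing N] [Algebra k N] [Algebra.FiniteType k N]

lemma lmap_phi (a' : N) (R₁ : Subalgebra k R) (z : ↥R₁ ⊗[k] N) :
    letI := lmapAlg k R N a'
    letI := lmapAlg k ↥R₁ N a'
    algebraMap (R ⊗[k] N) (R ⊗[k] Localization.Away a') (phi R N R₁ z) =
      phi R (Localization.Away a') R₁
        (algebraMap (↥R₁ ⊗[k] N) (↥R₁ ⊗[k] Localization.Away a') z) := by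
  letI := lmapAlg k R N a'
  letI := lmapAlg k ↥R₁ N a'
  induction z using TensorProduct.induction_on with
  | zero => simp
  | tmul x n => rw [phi_tmul, lmapAlg_tmul, lmapAlg_tmul, phi_tmul]
  | add x y hx hy => rw [map_add, map_add, map_add, map_add, hx, hy]

theorem exists_fg_flat_atPrime (Q : Ideal (R ⊗[k] N)) [Q.IsPrime]
    (hQ : Module.Flat R (Localization.AtPrime Q)) :
    ∃ R₁ : Subalgebra k R, R₁.FG ∧
      Module.Flat ↥R₁ (Localization.AtPrime (Q.comap (phi R N R₁))) := by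
  obtain ⟨a, hap, hfa⟩ := exists_flat_quot_tensor_away k N (Q.comap (algebraMap k (R ⊗[k] N)))
  have hg : (1 : R) ⊗ₜ[k] (algebraMap k N a) = algebraMap k (R ⊗[k] N) a := by
    rw [Algebra.algebraMap_eq_smul_one, TensorProduct.tmul_smul, Algebra.algebraMap_eq_smul_one]
    rfl
  have hgQ : (1 : R) ⊗ₜ[k] (algebraMap k N a) ∉ Q := by
    rw [hg]
    exact hap
  letI := lmapAlg k R N (algebraMap k N a)
  haveI := lmapAlg_isScalarTower k R N (algebraMap k N a)
  haveI := lmapAlg_isLocalization k R N (algebraMap k N a)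
  have hrange : (⟨Q, inferInstance⟩ : PrimeSpectrum (R ⊗[k] N)) ∈
      Set.range (PrimeSpectrum.comap (algebraMap (R ⊗[k] N)
        (R ⊗[k] Localization.Away (algebraMap k N a)))) := by
    rw [PrimeSpectrum.localization_away_comap_range _ ((1 : R) ⊗ₜ[k] (algebraMap k N a))]
    exact hgQ
  obtain ⟨Q', hQ'⟩ := hrange
  have hQ'Q : Q'.asIdeal.comap (algebraMap (R ⊗[k] N)
      (R ⊗[k] Localization.Away (algebraMap k N a))) = Q := congrArg PrimeSpectrum.asIdeal hQ'
  have hQ'fl : Module.Flat R (Localization.AtPrime Q'.asIdeal) :=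
    (flat_atPrime_away_iff _ ((1 : R) ⊗ₜ[k] (algebraMap k N a)) Q'.asIdeal).2
      (flat_atPrime_congr hQ'Q.symm hQ)
  have : Algebra.FiniteType k (Localization.Away (algebraMap k N a)) :=
    Algebra.FiniteType.trans (S := N) inferInstance inferInstance
  have hpQ' : (Q.comap (algebraMap k (R ⊗[k] N))).map
      (algebraMap k (R ⊗[k] Localization.Away (algebraMap k N a))) ≤ Q'.asIdeal := by
    rw [Ideal.map_le_iff_le_comap]
    intro x hx
    have h1 : algebraMap k (R ⊗[k] Localization.Away (algebraMap k N a)) x =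
        algebraMap (R ⊗[k] N) (R ⊗[k] Localization.Away (algebraMap k N a))
          (algebraMap k (R ⊗[k] N) x) := by
      rw [IsScalarTower.algebraMap_apply k R (R ⊗[k] Localization.Away (algebraMap k N a)),
        IsScalarTower.algebraMap_apply k R (R ⊗[k] N),
        ← IsScalarTower.algebraMap_apply R (R ⊗[k] N)]
    show algebraMap k (R ⊗[k] Localization.Away (algebraMap k N a)) x ∈ Q'.asIdeal
    rw [h1]
    have h2 : algebraMap k (R ⊗[k] N) x ∈ Q'.asIdeal.comap (algebraMap (R ⊗[k] N)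
        (R ⊗[k] Localization.Away (algebraMap k N a))) := by
      rw [hQ'Q]
      exact hx
    exact h2
  obtain ⟨R₁, hR₁, h₁⟩ := exists_fg_flat_localization
    (Q.comap (algebraMap k (R ⊗[k] N))) R (Localization.Away (algebraMap k N a)) hfa
    Q'.asIdeal hpQ' hQ'fl
  refine ⟨R₁, hR₁, ?_⟩
  letI := lmapAlg k ↥R₁ N (algebraMap k N a)
  haveI := lmapAlg_isScalarTower k ↥R₁ N (algebraMap k N a)
  haveI := lmapAlg_isLocalization k ↥R₁ N (algebraMap k N a)
  have h₂ := (flat_atPrime_away_iff _ ((1 : ↥R₁) ⊗ₜ[k] (algebraMap k N a))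
    (Q'.asIdeal.comap (phi R (Localization.Away (algebraMap k N a)) R₁))).1 h₁
  refine flat_atPrime_congr ?_ h₂
  ext z
  show phi R (Localization.Away (algebraMap k N a)) R₁
    (algebraMap (↥R₁ ⊗[k] N) (↥R₁ ⊗[k] Localization.Away (algebraMap k N a)) z) ∈ Q'.asIdeal ↔
    phi R N R₁ z ∈ Q
  rw [← lmap_phi, ← hQ'Q]
  rfl

end pw


section gd

variable {k : Type u} [CommRing k] [IsNoetherianRing k] {R : Type u} [CommRing R] [Algebra k R]
  {N : Type u} [CommRing N] [Algebra k N] [Algebra.FiniteType k N]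

lemma fg_finset_sup {ι : Type*} (t : Finset ι) (f : ι → Subalgebra k R) (h : ∀ i, (f i).FG) :
    (t.sup f).FG := by
  classical
  induction t using Finset.induction_on with
  | empty => exact Subalgebra.fg_bot
  | insert i t _ ih =>
    rw [Finset.sup_insert]
    exact (h i).sup ih

lemma isOpen_FL_sub (R₁ : Subalgebra k R) (h : R₁.FG) : IsOpen (FL ↥R₁ (↥R₁ ⊗[k] N)) := by
  have : Algebra.FiniteType k ↥R₁ := (Subalgebra.fg_iff_finiteType R₁).1 h
  have : IsNoetherianRing ↥R₁ := Algebra.FiniteType.isNoetherianRing k ↥R₁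
  exact isOpen_flatLocus ↥R₁ (↥R₁ ⊗[k] N)

theorem exists_fg_forall_flat_comap (hfl : Module.Flat R (R ⊗[k] N)) :
    ∃ R₂ : Subalgebra k R, R₂.FG ∧ ∀ Q : PrimeSpectrum (R ⊗[k] N),
      Module.Flat ↥R₂ (Localization.AtPrime (Q.asIdeal.comap (phi R N R₂))) := by
  classical
  have hloc : ∀ Q : PrimeSpectrum (R ⊗[k] N), Module.Flat R (Localization.AtPrime Q.asIdeal) :=
    fun Q => inferInstance
  choose R₁ hfg hflat using fun Q : PrimeSpectrum (R ⊗[k] N) =>
    exists_fg_flat_atPrime Q.asIdeal (hloc Q)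
  let W : PrimeSpectrum (R ⊗[k] N) → Set (PrimeSpectrum (R ⊗[k] N)) := fun Q =>
    PrimeSpectrum.comap (phi R N (R₁ Q) : ↥(R₁ Q) ⊗[k] N →+* R ⊗[k] N) ⁻¹'
      FL ↥(R₁ Q) (↥(R₁ Q) ⊗[k] N)
  have hWopen : ∀ Q, IsOpen (W Q) := fun Q =>
    (isOpen_FL_sub (R₁ Q) (hfg Q)).preimage (PrimeSpectrum.continuous_comap _)
  have hQW : ∀ Q, Q ∈ W Q := fun Q => hflat Q
  obtain ⟨t, ht⟩ := isCompact_univ.elim_finite_subcover W hWopen
    (fun Q _ => Set.mem_iUnion.2 ⟨Q, hQW Q⟩)
  refine ⟨t.sup R₁, fg_finset_sup t R₁ hfg, fun Q' => ?_⟩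
  obtain ⟨Q, hQt, hQ'W⟩ : ∃ Q ∈ t, Q' ∈ W Q := by
    have := ht (Set.mem_univ Q')
    simpa using this
  have hle : R₁ Q ≤ t.sup R₁ := Finset.le_sup hQt
  apply flat_atPrime_of_flat_comap_iota hle
  have hQ'W' : Module.Flat ↥(R₁ Q) (Localization.AtPrime
      (Q'.asIdeal.comap (phi R N (R₁ Q)))) := hQ'W
  refine flat_atPrime_congr ?_ hQ'W'
  ext z
  show phi R N (R₁ Q) z ∈ Q'.asIdeal ↔ phi R N (t.sup R₁) (iota R N hle z) ∈ Q'.asIdeal
  rw [phi_iota]

theorem exists_fg_flat (hfl : Module.Flat R (R ⊗[k] N)) :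
    ∃ R₄ : Subalgebra k R, R₄.FG ∧ Module.Flat ↥R₄ (↥R₄ ⊗[k] N) := by
  classical
  obtain ⟨R₂, hR₂, h₂⟩ := exists_fg_forall_flat_comap hfl
  have hopen := isOpen_FL_sub (N := N) R₂ hR₂
  obtain ⟨J, hJ⟩ := (PrimeSpectrum.isClosed_iff_zeroLocus_ideal _).1 hopen.isClosed_compl
  have htop : J.map (phi R N R₂) = ⊤ := by
    by_contra hne
    obtain ⟨m, hm, hle⟩ := Ideal.exists_le_maximal _ hne
    have hmem : (⟨m.comap (phi R N R₂), inferInstance⟩ : PrimeSpectrum (↥R₂ ⊗[k] N)) ∈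
        PrimeSpectrum.zeroLocus (J : Set (↥R₂ ⊗[k] N)) := by
      intro j hj
      exact hle (Ideal.mem_map_of_mem _ hj)
    rw [← hJ] at hmem
    exact hmem (h₂ ⟨m, hm.isPrime⟩)
  have h1 : (1 : R ⊗[k] N) ∈ J.map (phi R N R₂) := htop ▸ Submodule.mem_top
  rw [Ideal.map, Ideal.span, Submodule.mem_span_iff_exists_finset_subset] at h1
  obtain ⟨f, s, hs, -, hsum⟩ := h1
  have hs' : ∀ a ∈ s, ∃ x ∈ J, phi R N R₂ x = a := fun a ha => hs ha
  choose! j hjJ hj using hs'
  obtain ⟨R₃', hR₃', hrange⟩ := exists_fg_forall_mem_range (s.image f)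
  have h23 : R₂ ≤ R₂ ⊔ R₃' := le_sup_left
  have hb : ∀ a ∈ s, ∃ b : ↥(R₂ ⊔ R₃') ⊗[k] N, phi R N (R₂ ⊔ R₃') b = f a := fun a ha =>
    range_phi_mono le_sup_right (hrange (f a) (Finset.mem_image_of_mem f ha))
  choose! b hb using hb
  have hw : phi R N (R₂ ⊔ R₃') (∑ a ∈ s, b a * iota R N h23 (j a) - 1) = 0 := by
    simp only [map_sub, map_sum, map_mul, map_one]
    rw [sub_eq_zero, ← hsum]
    refine Finset.sum_congr rfl fun a ha => ?_
    rw [hb a ha, phi_iota, hj a ha, smul_eq_mul]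
  obtain ⟨R₄, h34, hR₄, hw4⟩ := exists_fg_iota_eq_zero (R₂ ⊔ R₃') (hR₂.sup hR₃') _ hw
  refine ⟨R₄, hR₄, ?_⟩
  have h24 : R₂ ≤ R₄ := h23.trans h34
  have hone : ∑ a ∈ s, iota R N h34 (b a) * iota R N h24 (j a) = 1 := by
    have := hw4
    simp only [map_sub, map_sum, map_mul, map_one, iota_iota] at this
    exact sub_eq_zero.1 this
  have hall : ∀ (P : Ideal (↥R₄ ⊗[k] N)) [P.IsMaximal],
      Module.Flat ↥R₄ (Localization.AtPrime P) := by
    intro P hP
    apply flat_atPrime_of_flat_comap_iota h24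
    by_contra hnf
    have hmem : (⟨P.comap (iota R N h24), inferInstance⟩ : PrimeSpectrum (↥R₂ ⊗[k] N)) ∈
        (FL ↥R₂ (↥R₂ ⊗[k] N))ᶜ := hnf
    rw [hJ] at hmem
    have : (1 : ↥R₄ ⊗[k] N) ∈ P := by
      rw [← hone]
      refine Ideal.sum_mem _ fun a ha => Ideal.mul_mem_left _ _ ?_
      exact hmem (hjJ a ha)
    exact hP.ne_top ((Ideal.eq_top_iff_one _).2 this)
  exact Module.flat_of_isLocalized_maximal (↥R₄ ⊗[k] N) (↥R₄ ⊗[k] N)
    (fun P _ => Localization.AtPrime P) (fun P _ => Algebra.linearMap _ _) hall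

end gd

end Groth.Agent.Lib.Helper55.FL
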