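import Mathlib

set_option autoImplicit false
universe u v

namespace Groth.Agent.Lib.Helper55.FL

open TensorProduct

section quotbc

variable (A B : Type u) [CommRing A] [CommRing B] [Algebra A B] (n : ℕ) (G : Set (Fin n → A))

def mapFun : (Fin n → A) →ₗ[A] (Fin n → B) := (Algebra.linearMap A B).compLeft (Fin n)

lemma mapFun_apply (g : Fin n → A) (i : Fin n) : mapFun A B n g i = algebraMap A B (g i) := rfl

def spanB : Submodule B (Fin n → B) := Submodule.span B (mapFun A B n '' G)

lemma span_le_comap :
    Submodule.span A G ≤ LinearMap.ker (((spanB A B n G).mkQ.restrictScalars A) ∘ₗ mapFun A B n) := by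
  rw [Submodule.span_le]
  intro g hg
  rw [SetLike.mem_coe, LinearMap.mem_ker, LinearMap.comp_apply, LinearMap.restrictScalars_apply,
    Submodule.mkQ_apply, Submodule.Quotient.mk_eq_zero]
  exact Submodule.subset_span ⟨g, hg, rfl⟩

noncomputable def quotMap :
    ((Fin n → A) ⧸ Submodule.span A G) →ₗ[A] ((Fin n → B) ⧸ spanB A B n G) :=
  Submodule.liftQ _ (((spanB A B n G).mkQ.restrictScalars A) ∘ₗ mapFun A B n)
    (span_le_comap A B n G)

lemma quotMap_mk (x : Fin n → A) :
    quotMap A B n G (Submodule.Quotient.mk x) = Submodule.Quotient.mk (mapFun A B n x) := rfl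

theorem isBaseChange_quotMap : IsBaseChange B (quotMap A B n G) := by
  classical
  let e1 := AlgebraTensorModule.tensorQuotientEquiv (R := A) B A B (Submodule.span A G)
  let e2 := TensorProduct.piScalarRight A B B (Fin n)
  have he2 : ∀ g : Fin n → A, e2 ((1 : B) ⊗ₜ[A] g) = mapFun A B n g := by
    intro g
    ext i
    simp [e2, mapFun_apply, Algebra.algebraMap_eq_smul_one]
  have hmap : Submodule.map (e2 : B ⊗[A] (Fin n → A) →ₗ[B] (Fin n → B))
      (LinearMap.range (AlgebraTensorModule.lTensor B B
        ((Submodule.span A G).subtype.restrictScalars A))) = spanB A B n G := by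
    have h1 : LinearMap.range (AlgebraTensorModule.lTensor B B
        ((Submodule.span A G).subtype.restrictScalars A)) =
        (Submodule.span A G).baseChange B := rfl
    rw [h1, Submodule.baseChange_span, Submodule.map_span, Set.image_image]
    refine congrArg (Submodule.span B) (Set.image_congr fun g _ => ?_)
    exact he2 g
  let e3 := Submodule.Quotient.equiv _ (spanB A B n G) e2 hmap
  refine IsBaseChange.of_equiv (e1.trans e3) fun x => ?_
  obtain ⟨x, rfl⟩ := Submodule.Quotient.mk_surjective _ x
  rw [LinearEquiv.trans_apply, quotMap_mk, ← he2]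
  rfl

end quotbc

end Groth.Agent.Lib.Helper55.FL
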