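import Groth.Agent.Lib.Helper55.FL.GlobalDescent
import Groth.Agent.Lib.Helper55.FL.QuotBC

set_option autoImplicit false
universe u v

namespace Groth.Agent.Lib.Helper55.FL

open TensorProduct

section model

variable {R S M : Type u} [CommRing R] [CommRing S] [Algebra R S] [AddCommGroup M] [Module S M]
  [Module.FinitePresentation S M]

theorem exists_model_refine (k₀ S₀ : Type u) [CommRing k₀] [CommRing S₀] [Algebra k₀ R]
    [Algebra k₀ S₀] [Algebra.FiniteType ℤ k₀] [Algebra.FiniteType k₀ S₀]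
    (e₀ : R ⊗[k₀] S₀ ≃ₐ[R] S) :
    ∃ (k₁ : Type u) (_ : CommRing k₁) (_ : Algebra k₁ R) (S₁ : Type u) (_ : CommRing S₁)
      (_ : Algebra k₁ S₁) (e₁ : R ⊗[k₁] S₁ ≃ₐ[R] S) (n : ℕ) (G' : Set (Fin n → S₁)),
      Algebra.FiniteType ℤ k₁ ∧ Algebra.FiniteType k₁ S₁ ∧ G'.Finite ∧
      Nonempty (M ≃ₗ[S] (Fin n → S) ⧸ Submodule.span S
        ((fun (h : Fin n → S₁) (i : Fin n) => e₁ ((1 : R) ⊗ₜ[k₁] h i)) '' G')) := by
  classical
  obtain ⟨n, K, eM, hK⟩ := Module.FinitePresentation.exists_fin S M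
  obtain ⟨G, hG⟩ := hK
  obtain ⟨R', hR', hD⟩ := exists_fg_forall_mem_range (R := R) (N := S₀)
    ((G ×ˢ (Finset.univ : Finset (Fin n))).image (fun p => e₀.symm (p.1 p.2)))
  have hlift : ∀ g ∈ G, ∀ i, ∃ y : ↥R' ⊗[k₀] S₀, phi R S₀ R' y = e₀.symm (g i) :=
    fun g hg i => hD _ (Finset.mem_image.2
      ⟨(g, i), Finset.mem_product.2 ⟨hg, Finset.mem_univ i⟩, rfl⟩)
  choose! g' hg' using hlift
  have hft : Algebra.FiniteType k₀ ↥R' := (Subalgebra.fg_iff_finiteType R').1 hR'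
  refine ⟨↥R', inferInstance, inferInstance, ↥R' ⊗[k₀] S₀, inferInstance, inferInstance,
    (Algebra.TensorProduct.cancelBaseChange k₀ ↥R' R R S₀).trans e₀, n, g' '' (G : Set _),
    Algebra.FiniteType.trans (S := k₀) inferInstance hft, inferInstance,
    (G.finite_toSet).image _, ⟨?_⟩⟩
  refine eM.trans (Submodule.quotEquivOfEq _ _ ?_)
  rw [← hG, Set.image_image]
  have : (fun g : Fin n → S => fun i : Fin n =>
      ((Algebra.TensorProduct.cancelBaseChange k₀ ↥R' R R S₀).trans e₀)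
        ((1 : R) ⊗ₜ[↥R'] g' g i)) '' (G : Set (Fin n → S)) = id '' (G : Set (Fin n → S)) := by
    refine Set.image_congr fun g hg => ?_
    funext i
    show e₀ ((Algebra.TensorProduct.cancelBaseChange k₀ ↥R' R R S₀) ((1 : R) ⊗ₜ[↥R'] g' g i)) = g i
    rw [cancelBaseChange_one_tmul, tmap_eq_phi, hg' g hg i, AlgEquiv.apply_symm_apply]
  rw [this, Set.image_id]

theorem exists_model [Algebra.FinitePresentation R S] :
    ∃ (k₁ : Type u) (_ : CommRing k₁) (_ : Algebra k₁ R) (S₁ : Type u) (_ : CommRing S₁)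
      (_ : Algebra k₁ S₁) (e₁ : R ⊗[k₁] S₁ ≃ₐ[R] S) (n : ℕ) (G' : Set (Fin n → S₁)),
      Algebra.FiniteType ℤ k₁ ∧ Algebra.FiniteType k₁ S₁ ∧ G'.Finite ∧
      Nonempty (M ≃ₗ[S] (Fin n → S) ⧸ Submodule.span S
        ((fun (h : Fin n → S₁) (i : Fin n) => e₁ ((1 : R) ⊗ₜ[k₁] h i)) '' G')) :=
  exists_model_refine (Algebra.Presentation.ofFinitePresentation R S).Core
    ((Algebra.Presentation.ofFinitePresentation R S).ModelOfHasCoeffs
      (Algebra.Presentation.ofFinitePresentation R S).Core)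
    ((Algebra.Presentation.ofFinitePresentation R S).tensorModelOfHasCoeffsEquiv
      (Algebra.Presentation.ofFinitePresentation R S).Core)

end model

end Groth.Agent.Lib.Helper55.FL
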