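import Groth.Agent.Lib.Helper6.LocalFlat4

set_option autoImplicit false
universe u v

namespace Groth.Agent.Lib.Helper55.FL

open TensorProduct

section loc

variable {A : Type*} [CommRing A] (T : Submonoid A)
  {M M' N N' : Type*} [AddCommGroup M] [Module A M] [AddCommGroup M'] [Module A M']
  [AddCommGroup N] [Module A N] [AddCommGroup N'] [Module A N']
  (f : M →ₗ[A] M') [IsLocalizedModule T f] (g : N →ₗ[A] N') [IsLocalizedModule T g]

theorem map_injective_of_ker_killed (F : M →ₗ[A] N)
    (h : ∀ z, F z = 0 → ∃ s ∈ T, s • z = 0) :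
    Function.Injective (IsLocalizedModule.map T f g F) := by
  rw [injective_iff_map_eq_zero]
  intro y hy
  obtain ⟨⟨z, s⟩, rfl⟩ := IsLocalizedModule.mk'_surjective T f y
  simp only [Function.uncurry_apply_pair] at hy ⊢
  rw [IsLocalizedModule.map_mk', IsLocalizedModule.mk'_eq_zero] at hy
  obtain ⟨t, ht⟩ := (IsLocalizedModule.eq_zero_iff T g).1 hy
  obtain ⟨s', hs', hs'z⟩ := h ((t : A) • z) (by rw [map_smul, ← Submonoid.smul_def]; exact ht)
  rw [IsLocalizedModule.mk'_eq_zero, IsLocalizedModule.eq_zero_iff T f]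
  exact ⟨⟨s', hs'⟩ * t, by rw [Submonoid.smul_def, Submonoid.coe_mul, mul_smul]; exact hs'z⟩

end loc

section hflat

variable {R S : Type u} [CommRing R] [CommRing S] [Algebra R S] (I : Ideal R)

theorem flat_quot_tensor_localization (T : Submonoid S) (B : Type u) [CommRing B] [Algebra S B]
    [Algebra R B] [IsScalarTower R S B] [IsLocalization T B]
    (hflat : Module.Flat (R ⧸ I) ((R ⧸ I) ⊗[R] S)) :
    Module.Flat (R ⧸ I) ((R ⧸ I) ⊗[R] B) := by
  let D := (R ⧸ I) ⊗[R] S
  let M' : Submonoid D := T.map (Algebra.TensorProduct.includeRight (R := R) (A := R ⧸ I))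
  let C := Localization M'
  have hC : Module.Flat D C := IsLocalization.flat C M'
  have hC' : Module.Flat (R ⧸ I) C := Module.Flat.trans (R ⧸ I) D C
  let e : (R ⧸ I) ⊗[R] B ≃ₐ[R ⧸ I] C :=
    IsLocalization.tensorProductEquivOfMapIncludeRight R (R ⧸ I) T B C
  exact Module.Flat.of_linearEquiv e.toLinearEquiv

end hflat

section crit

variable {R S : Type u} [CommRing R] [CommRing S] [Algebra R S] [IsNoetherianRing R]
  [IsNoetherianRing S]

theorem flat_localization_of_ker_killed (I : Ideal R) (q : Ideal S) [q.IsPrime]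
    (hIq : I.map (algebraMap R S) ≤ q)
    (hflat : Module.Flat (R ⧸ I) ((R ⧸ I) ⊗[R] S))
    (hker : ∀ z : S ⊗[R] I, (I.subtype.lTensor S) z = 0 → ∃ s ∈ q.primeCompl, s • z = 0) :
    Module.Flat R (Localization.AtPrime q) := by
  let C := Localization.AtPrime q
  have : IsNoetherianRing C := IsLocalization.isNoetherianRing q.primeCompl C inferInstance
  refine Groth.Agent.Lib.Helper6.LocalFlat.flat_of_flat_quotient_of_rTensor_injective
    (S := C) (M := C) I ?_ ?_ ?_
  · rw [IsLocalRing.jacobson_eq_maximalIdeal ⊥ bot_ne_top,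
      IsScalarTower.algebraMap_eq R S C, ← Ideal.map_map,
      ← Localization.AtPrime.map_eq_maximalIdeal]
    exact Ideal.map_mono hIq
  · rw [← LinearMap.lTensor_inj_iff_rTensor_inj]
    let g : S →ₗ[S] C := Algebra.linearMap S C
    have h := map_injective_of_ker_killed q.primeCompl
      (AlgebraTensorModule.rTensor R I g) (AlgebraTensorModule.rTensor R R g)
      (AlgebraTensorModule.lTensor S S I.subtype) hker
    rw [IsLocalizedModule.map_lTensor] at h
    exact h
  · exact flat_quot_tensor_localization I q.primeCompl C hflat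

end crit

section vform

variable {R S : Type u} [CommRing R] [CommRing S] [Algebra R S] {r : ℕ} (x : Fin r → R)

def trivRel : Submodule S (Fin r → S) :=
  Submodule.span S {c | ∃ (ρ : Fin r → R) (a : S), ∑ i, x i * ρ i = 0 ∧ c = fun i => ρ i • a}

variable (I : Ideal R) (hx : Ideal.span (Set.range x) = I)

include hx in
lemma mem_of_gen (i : Fin r) : x i ∈ I := hx ▸ Ideal.subset_span (Set.mem_range_self i)

def psi (c : Fin r → S) : S ⊗[R] I := ∑ i, c i ⊗ₜ[R] (⟨x i, mem_of_gen x I hx i⟩ : I)

lemma psi_add (c c' : Fin r → S) : psi x I hx (c + c') = psi x I hx c + psi x I hx c' := by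
  simp [psi, TensorProduct.add_tmul, Finset.sum_add_distrib]

lemma psi_smul (s : S) (c : Fin r → S) : psi x I hx (s • c) = s • psi x I hx c := by
  simp [psi, Finset.smul_sum, TensorProduct.smul_tmul']

lemma psi_zero : psi x I hx (0 : Fin r → S) = 0 := by
  simp [psi]

lemma psi_surjective : Function.Surjective (psi (S := S) x I hx) := by
  intro z
  induction z using TensorProduct.induction_on with
  | zero => exact ⟨0, psi_zero x I hx⟩
  | add a b ha hb =>
    obtain ⟨a', rfl⟩ := ha
    obtain ⟨b', rfl⟩ := hb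
    exact ⟨a' + b', psi_add x I hx a' b'⟩
  | tmul s a =>
    obtain ⟨a, ha⟩ := a
    have ha' : a ∈ Ideal.span (Set.range x) := hx ▸ ha
    obtain ⟨c, hc⟩ := (Ideal.mem_span_range_iff_exists_fun).1 ha'
    refine ⟨fun i => c i • s, ?_⟩
    have : (⟨a, ha⟩ : I) = ∑ i, c i • (⟨x i, mem_of_gen x I hx i⟩ : I) := by
      apply Subtype.ext
      simp [← hc]
    rw [this, TensorProduct.tmul_sum, psi]
    refine Finset.sum_congr rfl fun i _ => ?_
    rw [TensorProduct.smul_tmul]

lemma lTensor_psi (c : Fin r → S) :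
    TensorProduct.rid R S ((I.subtype.lTensor S) (psi x I hx c)) = ∑ i, x i • c i := by
  simp [psi, map_sum]

lemma psi_trivRel (c : Fin r → S) (hc : c ∈ trivRel (S := S) x) : psi x I hx c = 0 := by
  refine Submodule.span_induction ?_ (psi_zero x I hx) ?_ ?_ hc
  · rintro _ ⟨ρ, a, hρ, rfl⟩
    have : ∑ i, ρ i • (⟨x i, mem_of_gen x I hx i⟩ : I) = 0 := by
      apply Subtype.ext
      simp only [Submodule.coe_sum, Submodule.coe_smul, smul_eq_mul, Submodule.coe_zero]
      rw [← hρ]
      exact Finset.sum_congr rfl fun i _ => mul_comm _ _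
    rw [psi]
    simp only [TensorProduct.smul_tmul]
    rw [← TensorProduct.tmul_sum, this, TensorProduct.tmul_zero]
  · intro a b _ _ ha hb
    rw [psi_add, ha, hb, add_zero]
  · intro s a _ ha
    rw [psi_smul, ha, smul_zero]

include hx in
theorem ker_killed_of_vform (q : Ideal S) [q.IsPrime]
    (hV : ∀ c : Fin r → S, ∑ i, x i • c i = 0 → ∃ s ∈ q.primeCompl, s • c ∈ trivRel (S := S) x)
    (z : S ⊗[R] I) (hz : (I.subtype.lTensor S) z = 0) : ∃ s ∈ q.primeCompl, s • z = 0 := by
  obtain ⟨c, rfl⟩ := psi_surjective x I hx z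
  have hc : ∑ i, x i • c i = 0 := by
    rw [← lTensor_psi x I hx, hz, map_zero]
  obtain ⟨s, hs, hsc⟩ := hV c hc
  exact ⟨s, hs, by rw [← psi_smul, psi_trivRel x I hx _ hsc]⟩

end vform

end Groth.Agent.Lib.Helper55.FL
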