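import Groth.Agent.Lib.Helper55.FL.ModOpen
import Groth.Agent.Lib.Lead.QCohAff8
import Groth.Agent.Lib.Helper2.FinPresAff

set_option autoImplicit false
set_option linter.style.haveILetI false
universe u

open AlgebraicGeometry CategoryTheory Limits TopologicalSpace Opposite

namespace Groth.Agent.Lib.Helper55.FL

open Groth.Agent.Lib.Lead.QCohAff

variable {X Y : Scheme.{u}} (f : X ⟶ Y) (F : X.Modules)

theorem isFlatOverAt_iff_flat_localizedModule [F.IsQuasicoherent] {U : X.Opens}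
    (hU : IsAffineOpen U) {V : Y.Opens} (hV : IsAffineOpen V) (hUV : U ≤ f ⁻¹ᵁ V) (x : X)
    (hx : x ∈ U) :
    letI : Algebra Γ(Y, V) Γ(X, U) := (f.appLE V U hUV).hom.toAlgebra
    letI : Module Γ(Y, V) Γ(F, U) := Module.compHom Γ(F, U) (f.appLE V U hUV).hom
    haveI : IsScalarTower Γ(Y, V) Γ(X, U) Γ(F, U) :=
      IsScalarTower.of_algebraMap_smul fun _ _ => rfl
    FlatMod.IsFlatOverAt f F x ↔ Module.Flat Γ(Y, V)
      (LocalizedModule (hU.primeIdealOf ⟨x, hx⟩).asIdeal.primeCompl Γ(F, U)) := by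
  letI : Algebra Γ(Y, V) Γ(X, U) := (f.appLE V U hUV).hom.toAlgebra
  letI : Module Γ(Y, V) Γ(F, U) := Module.compHom Γ(F, U) (f.appLE V U hUV).hom
  haveI : IsScalarTower Γ(Y, V) Γ(X, U) Γ(F, U) :=
    IsScalarTower.of_algebraMap_smul fun _ _ => rfl
  letI : Module Γ(Y, V) (StalkOver F U x hx) :=
    Module.compHom (StalkOver F U x hx) (f.appLE V U hUV).hom
  haveI : IsScalarTower Γ(Y, V) Γ(X, U) (StalkOver F U x hx) :=
    IsScalarTower.of_algebraMap_smul fun _ _ => rfl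
  rw [isFlatOverAt_iff_flat_stalkOver f F hV hUV x hx]
  exact (Module.Flat.equiv_iff
    ((IsLocalizedModule.iso (hU.primeIdealOf ⟨x, hx⟩).asIdeal.primeCompl
      (germL F U x hx)).restrictScalars Γ(Y, V))).symm

theorem isOpen_isFlatOverAt [LocallyOfFinitePresentation f] [F.IsQuasicoherent]
    (hF : SheafOfModules.IsFinitePresentation (R := X.ringCatSheaf) F) :
    IsOpen {x : X | FlatMod.IsFlatOverAt f F x} := by
  rw [isOpen_iff_mem_nhds]
  intro x hx
  obtain ⟨_, ⟨V, hV, rfl⟩, hfxV, -⟩ :=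
    Y.isBasis_affineOpens.exists_subset_of_mem_open (Set.mem_univ (f x)) isOpen_univ
  obtain ⟨_, ⟨U, hU, rfl⟩, hxU, hUV⟩ :=
    X.isBasis_affineOpens.exists_subset_of_mem_open (show x ∈ (f ⁻¹ᵁ V : Set X) from hfxV)
      (f ⁻¹ᵁ V).isOpen
  have hUV' : U ≤ f ⁻¹ᵁ V := hUV
  letI : Algebra Γ(Y, V) Γ(X, U) := (f.appLE V U hUV').hom.toAlgebra
  letI : Module Γ(Y, V) Γ(F, U) := Module.compHom Γ(F, U) (f.appLE V U hUV').hom
  haveI : IsScalarTower Γ(Y, V) Γ(X, U) Γ(F, U) :=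
    IsScalarTower.of_algebraMap_smul fun _ _ => rfl
  haveI : Algebra.FinitePresentation Γ(Y, V) Γ(X, U) := f.finitePresentation_appLE hV hU hUV'
  haveI : Module.FinitePresentation Γ(X, U) Γ(F, U) :=
    Groth.Agent.Lib.Helper2.FinTypeAff.finitePresentation_sections F hU
  have hopen := isOpen_flat_localizedModule_of_fp (R := Γ(Y, V)) (S := Γ(X, U)) (M := Γ(F, U))
  have hW' : IsOpen ((fun y : U => hU.primeIdealOf y) ⁻¹'
      {q : PrimeSpectrum Γ(X, U) |
        Module.Flat Γ(Y, V) (LocalizedModule q.asIdeal.primeCompl Γ(F, U))}) :=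
    hopen.preimage hU.isoSpec.hom.continuous
  have hW := U.isOpen.isOpenMap_subtype_val _ hW'
  refine Filter.mem_of_superset (hW.mem_nhds ⟨⟨x, hxU⟩, ?_, rfl⟩) ?_
  · exact (isFlatOverAt_iff_flat_localizedModule f F hU hV hUV' x hxU).1 hx
  · rintro _ ⟨⟨y, hy⟩, hyW, rfl⟩
    exact (isFlatOverAt_iff_flat_localizedModule f F hU hV hUV' y hy).2 hyW

end Groth.Agent.Lib.Helper55.FL
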