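import Mathlib

/-!
# Elements dying in the fibre `κ(p) ⊗ X`

`exists_smul_mem_of_one_tmul_eq_zero` (K2): if `1 ⊗ x = 0` in `κ(p) ⊗[A] X` then `r • x ∈ p X` for
some `r ∉ p`.  `exists_smul_eq_one_tmul` (F): every element of `κ(p) ⊗[A] Y` becomes, after
multiplying by the image of some `r ∉ p`, of the form `1 ⊗ y`.
-/

namespace Groth.Agent.Lib.Helper55.FL

open TensorProduct

variable {A : Type*} [CommRing A] (p : Ideal A) [p.IsPrime]

theorem one_tmul_eq_zero_of_mem {X : Type*} [AddCommGroup X] [Module A X] {x : X}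
    (hx : x ∈ p • (⊤ : Submodule A X)) : (1 : p.ResidueField) ⊗ₜ[A] x = 0 := by
  refine Submodule.smul_induction_on hx ?_ ?_
  · intro a ha n _
    rw [← TensorProduct.smul_tmul, Algebra.smul_def, mul_one,
      (Ideal.algebraMap_residueField_eq_zero (I := p)).2 ha, TensorProduct.zero_tmul]
  · intro x y hx hy
    rw [TensorProduct.tmul_add, hx, hy, add_zero]

theorem exists_smul_mem_of_one_tmul_eq_zero {X : Type*} [AddCommGroup X] [Module A X] {x : X}
    (hx : (1 : p.ResidueField) ⊗ₜ[A] x = 0) :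
    ∃ r : A, r ∉ p ∧ r • x ∈ p • (⊤ : Submodule A X) := by
  have h1 : (1 : p.ResidueField) ⊗ₜ[A ⧸ p] ((1 : A ⧸ p) ⊗ₜ[A] x) = 0 := by
    have := (TensorProduct.AlgebraTensorModule.cancelBaseChange A (A ⧸ p) p.ResidueField
      p.ResidueField X).map_eq_zero_iff (x := (1 : p.ResidueField) ⊗ₜ[A ⧸ p] ((1 : A ⧸ p) ⊗ₜ[A] x))
    rw [← this, TensorProduct.AlgebraTensorModule.cancelBaseChange_tmul, one_smul]
    exact hx
  have h2 := (IsLocalizedModule.eq_zero_iff (nonZeroDivisors (A ⧸ p))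
    (TensorProduct.mk (A ⧸ p) p.ResidueField ((A ⧸ p) ⊗[A] X) 1)
    (m := (1 : A ⧸ p) ⊗ₜ[A] x)).1 h1
  obtain ⟨⟨c, hc⟩, hcx⟩ := h2
  obtain ⟨r, rfl⟩ := Ideal.Quotient.mk_surjective c
  refine ⟨r, ?_, ?_⟩
  · intro hr
    have : (Ideal.Quotient.mk p r) = 0 := Ideal.Quotient.eq_zero_iff_mem.2 hr
    exact (nonZeroDivisors.ne_zero hc) this
  · have h3 : (1 : A ⧸ p) ⊗ₜ[A] (r • x) = 0 := by
      have h4 : (Ideal.Quotient.mk p r) • ((1 : A ⧸ p) ⊗ₜ[A] x) = 0 := hcx
      rw [TensorProduct.smul_tmul', smul_eq_mul, mul_one] at h4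
      rw [TensorProduct.tmul_smul, TensorProduct.smul_tmul', Algebra.smul_def, mul_one]
      exact h4
    have h5 : r • x ∈ LinearMap.ker (TensorProduct.mk A (A ⧸ p) X 1) := h3
    rwa [LinearMap.ker_tensorProductMk] at h5

theorem exists_smul_eq_one_tmul {Y : Type*} [AddCommGroup Y] [Module A Y]
    (j : p.ResidueField ⊗[A] Y) :
    ∃ r : A, r ∉ p ∧ ∃ y : Y, (algebraMap A p.ResidueField r) • j = (1 : p.ResidueField) ⊗ₜ[A] y := by
  induction j using TensorProduct.induction_on with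
  | zero => exact ⟨1, fun h => Ideal.IsPrime.ne_top ‹_› ((Ideal.eq_top_iff_one _).2 h), 0, by simp⟩
  | tmul k y =>
    obtain ⟨a, b, hb⟩ : ∃ (a : A) (b : A), b ∉ p ∧
        algebraMap A p.ResidueField b * k = algebraMap A p.ResidueField a := by
      obtain ⟨k', rfl⟩ := IsLocalRing.residue_surjective (R := Localization.AtPrime p) k
      obtain ⟨a, b, rfl⟩ := IsLocalization.exists_mk'_eq p.primeCompl k'
      refine ⟨a, b.1, b.2, ?_⟩
      have : algebraMap A (Localization.AtPrime p) b.1 * IsLocalization.mk' _ a b =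
          algebraMap A (Localization.AtPrime p) a := by
        rw [mul_comm]; exact IsLocalization.mk'_spec _ a b
      have h2 := congrArg (IsLocalRing.residue (Localization.AtPrime p)) this
      rw [map_mul] at h2
      exact h2
    refine ⟨b, hb.1, a • y, ?_⟩
    rw [TensorProduct.smul_tmul', smul_eq_mul, hb.2, TensorProduct.tmul_smul,
      TensorProduct.smul_tmul', Algebra.smul_def, mul_one]
  | add j₁ j₂ h₁ h₂ =>
    obtain ⟨r₁, hr₁, y₁, e₁⟩ := h₁
    obtain ⟨r₂, hr₂, y₂, e₂⟩ := h₂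
    refine ⟨r₁ * r₂, fun h => (Ideal.IsPrime.mem_or_mem ‹_› h).elim hr₁ hr₂,
      r₂ • y₁ + r₁ • y₂, ?_⟩
    rw [smul_add, map_mul, TensorProduct.tmul_add]
    congr 1
    · rw [mul_comm, mul_smul, e₁, TensorProduct.tmul_smul, TensorProduct.smul_tmul',
        TensorProduct.smul_tmul', smul_eq_mul, mul_one, Algebra.smul_def, mul_one]
    · rw [mul_smul, e₂, TensorProduct.tmul_smul, TensorProduct.smul_tmul',
        TensorProduct.smul_tmul', smul_eq_mul, mul_one, Algebra.smul_def, mul_one]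

end Groth.Agent.Lib.Helper55.FL
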