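import Mathlib
import Groth.Agent.Lib.Helper55.FL.FibreK2

/-!
# Descent of fibrewise torsion along a base change (faithfully flat descent over a field extension)
-/

namespace Groth.Agent.Lib.Helper55.FL

open TensorProduct

section LemmaB

variable {R₀ K₀ K : Type*} [CommRing R₀] [Field K₀] [CommRing K] [Algebra K₀ K] [Algebra R₀ K₀]
  [Algebra R₀ K] [IsScalarTower R₀ K₀ K]
  {Y₀ M₀ : Type*} [AddCommGroup Y₀] [Module R₀ Y₀] [AddCommGroup M₀] [Module R₀ M₀]

/-- the inclusion `K₀ ⊗ Y₀ → K ⊗ Y₀`. -/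
noncomputable def inclK (j : K₀ ⊗[R₀] Y₀) : K ⊗[R₀] Y₀ :=
  TensorProduct.AlgebraTensorModule.cancelBaseChange R₀ K₀ K K Y₀ ((1 : K) ⊗ₜ[K₀] j)

theorem inclK_tmul (k₀ : K₀) (y : Y₀) :
    inclK (K := K) (k₀ ⊗ₜ[R₀] y) = (algebraMap K₀ K k₀) ⊗ₜ[R₀] y := by
  unfold inclK
  rw [TensorProduct.AlgebraTensorModule.cancelBaseChange_tmul, Algebra.smul_def, mul_one]

theorem inclK_smul (k₀ : K₀) (j : K₀ ⊗[R₀] Y₀) :
    inclK (K := K) (k₀ • j) = (algebraMap K₀ K k₀) • inclK (K := K) j := by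
  unfold inclK
  rw [← map_smul, TensorProduct.tmul_smul, TensorProduct.smul_tmul', TensorProduct.smul_tmul',
    Algebra.smul_def, mul_one, smul_eq_mul, mul_one]

theorem exists_ker_notMem (lam : Y₀ →ₗ[R₀] M₀) (Q : Submodule K (K ⊗[R₀] Y₀))
    (τ : K ⊗[R₀] Y₀) (hτQ : τ ∉ Q) (hτ : lam.baseChange K τ = 0) :
    ∃ j : K₀ ⊗[R₀] Y₀, lam.baseChange K₀ j = 0 ∧ inclK (K := K) j ∉ Q := by
  by_contra hcon
  push Not at hcon
  apply hτQ
  set eY := TensorProduct.AlgebraTensorModule.cancelBaseChange R₀ K₀ K K Y₀ with heY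
  set eM := TensorProduct.AlgebraTensorModule.cancelBaseChange R₀ K₀ K K M₀ with heM
  have hsq : ∀ z, lam.baseChange K (eY z) =
      eM (TensorProduct.AlgebraTensorModule.lTensor K K (lam.baseChange K₀) z) := by
    intro z
    induction z using TensorProduct.induction_on with
    | zero => simp
    | tmul k j =>
      induction j using TensorProduct.induction_on with
      | zero => simp
      | tmul k₀ y =>
        simp [heY, heM, TensorProduct.AlgebraTensorModule.cancelBaseChange_tmul]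
      | add a b ha hb =>
        rw [TensorProduct.tmul_add, map_add, map_add, ha, hb, map_add, map_add]
    | add a b ha hb => rw [map_add, map_add, ha, hb, map_add, map_add]
  have h1 : TensorProduct.AlgebraTensorModule.lTensor K K (lam.baseChange K₀) (eY.symm τ) = 0 := by
    apply eM.injective
    rw [← hsq, LinearEquiv.apply_symm_apply, hτ, map_zero]
  have h2 : eY.symm τ ∈ LinearMap.ker
      (TensorProduct.AlgebraTensorModule.lTensor K K (lam.baseChange K₀)) := h1
  rw [Module.Flat.ker_lTensor_eq] at h2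
  obtain ⟨w, hw⟩ := h2
  have h3 : ∀ w : K ⊗[K₀] (LinearMap.ker (lam.baseChange K₀)),
      eY (TensorProduct.AlgebraTensorModule.lTensor K K
        (LinearMap.ker (lam.baseChange K₀)).subtype w) ∈ Q := by
    intro w
    induction w using TensorProduct.induction_on with
    | zero => simp
    | tmul k j =>
      have : eY (TensorProduct.AlgebraTensorModule.lTensor K K
          (LinearMap.ker (lam.baseChange K₀)).subtype (k ⊗ₜ j)) = k • inclK (K := K) j.1 := by
        unfold inclK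
        rw [← map_smul, TensorProduct.smul_tmul', smul_eq_mul, mul_one]
        rfl
      rw [this]
      exact Q.smul_mem k (hcon j.1 j.2)
    | add a b ha hb =>
      rw [map_add, map_add]
      exact Q.add_mem ha hb
  have := h3 w
  rw [hw, LinearEquiv.apply_symm_apply] at this
  exact this

end LemmaB

section Psi

variable {R₀ R K : Type*} [CommRing R₀] [CommRing R] [CommRing K] [Algebra R₀ R] [Algebra R K]
  [Algebra R₀ K] [IsScalarTower R₀ R K]
  {Y₀ Y : Type*} [AddCommGroup Y₀] [Module R₀ Y₀] [AddCommGroup Y] [Module R Y] [Module R₀ Y]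
  [IsScalarTower R₀ R Y]

/-- `K ⊗[R₀] Y₀ ≃ K ⊗[R] Y` when `Y` is the base change of `Y₀`. -/
noncomputable def psiEquiv {f : Y₀ →ₗ[R₀] Y} (hf : IsBaseChange R f) :
    K ⊗[R₀] Y₀ ≃ₗ[K] K ⊗[R] Y :=
  (TensorProduct.AlgebraTensorModule.cancelBaseChange R₀ R K K Y₀).symm ≪≫ₗ
    (TensorProduct.AlgebraTensorModule.congr (LinearEquiv.refl K K) hf.equiv)

theorem psiEquiv_tmul {f : Y₀ →ₗ[R₀] Y} (hf : IsBaseChange R f) (k : K) (y : Y₀) :
    psiEquiv (K := K) hf (k ⊗ₜ[R₀] y) = k ⊗ₜ[R] f y := by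
  unfold psiEquiv
  rw [LinearEquiv.trans_apply, TensorProduct.AlgebraTensorModule.cancelBaseChange_symm_tmul,
    TensorProduct.AlgebraTensorModule.congr_tmul, hf.equiv_tmul, one_smul]
  rfl

end Psi

section Main

theorem one_tmul_eq_zero_of_mem' {R K X : Type*} [CommRing R] [CommRing K] [Algebra R K]
    [AddCommGroup X] [Module R X] (p : Ideal R) (hK : ∀ r ∈ p, algebraMap R K r = 0) {x : X}
    (hx : x ∈ p • (⊤ : Submodule R X)) : (1 : K) ⊗ₜ[R] x = 0 := by
  refine Submodule.smul_induction_on hx ?_ ?_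
  · intro a ha n _
    rw [← TensorProduct.smul_tmul, Algebra.smul_def, mul_one, hK a ha, TensorProduct.zero_tmul]
  · intro x y hx hy
    rw [TensorProduct.tmul_add, hx, hy, add_zero]

variable {R₀ R S₀ S : Type*} [CommRing R₀] [CommRing R] [CommRing S₀] [CommRing S]
  [Algebra R₀ R] [Algebra R₀ S₀] [Algebra R S] [Algebra S₀ S] [Algebra R₀ S]
  [IsScalarTower R₀ R S] [IsScalarTower R₀ S₀ S]
  {M₀ M : Type*} [AddCommGroup M₀] [Module S₀ M₀] [Module R₀ M₀] [IsScalarTower R₀ S₀ M₀]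
  [AddCommGroup M] [Module S M] [Module R M] [IsScalarTower R S M]
  [Module S₀ M] [IsScalarTower S₀ S M] [Module R₀ M] [IsScalarTower R₀ R M] [IsScalarTower R₀ S₀ M]

theorem fibre_descent_aux [Algebra.IsPushout R₀ R S₀ S] (fM : M₀ →ₗ[S₀] M)
    (hfM : IsBaseChange R (fM.restrictScalars R₀))
    (p₀ : Ideal R₀) [p₀.IsPrime] (p : Ideal R) (q : Ideal S) [q.IsPrime]
    (hp₀ : ∀ r₀ : R₀, algebraMap R₀ S r₀ ∈ q → r₀ ∈ p₀)
    {K L : Type*} [CommRing K] [CommRing L] [Algebra R K] [Algebra R₀ K] [IsScalarTower R₀ R K]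
    [Algebra p₀.ResidueField K] [IsScalarTower R₀ p₀.ResidueField K]
    [Algebra R L]
    (hK : ∀ r ∈ p, algebraMap R K r = 0)
    (Φ : K ⊗[R] S →ₐ[R] L)
    (hΦq : ∀ s : S, s ∈ q → Φ (1 ⊗ₜ s) = 0)
    (x₀ : M₀) (t : S) (hΦt : Φ (1 ⊗ₜ t) ≠ 0)
    (h : t • fM x₀ ∈ p • (⊤ : Submodule R M)) :
    ∃ t₀ : S₀, algebraMap S₀ S t₀ ∉ q ∧ t₀ • x₀ ∈ p₀ • (⊤ : Submodule R₀ M₀) := by
  classical
  have hS : IsBaseChange R (IsScalarTower.toAlgHom R₀ S₀ S).toLinearMap := Algebra.IsPushout.out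
  have hψS : ∀ (k : K) (s : S₀), psiEquiv (K := K) hS (k ⊗ₜ[R₀] s) = k ⊗ₜ[R] algebraMap S₀ S s :=
    fun k s => psiEquiv_tmul hS k s
  have hψM : ∀ (k : K) (m : M₀), psiEquiv (K := K) hfM (k ⊗ₜ[R₀] m) = k ⊗ₜ[R] fM m :=
    fun k m => psiEquiv_tmul hfM k m
  have hsq : ∀ z, psiEquiv (K := K) hfM
      (((LinearMap.toSpanSingleton S₀ M₀ x₀).restrictScalars R₀).baseChange K z) =
      ((LinearMap.toSpanSingleton S M (fM x₀)).restrictScalars R).baseChange K
        (psiEquiv (K := K) hS z) := by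
    intro z
    induction z using TensorProduct.induction_on with
    | zero => simp
    | tmul k s =>
      rw [LinearMap.baseChange_tmul, hψM, hψS, LinearMap.baseChange_tmul]
      congr 1
      simp only [LinearMap.coe_restrictScalars, LinearMap.toSpanSingleton_apply, map_smul]
      rw [algebraMap_smul]
    | add a b ha hb => rw [map_add, map_add, ha, hb, map_add, map_add]
  let Q : Submodule K (K ⊗[R₀] S₀) :=
    { carrier := {z | Φ (psiEquiv (K := K) hS z) = 0}
      add_mem' := by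
        intro a b ha hb
        simp only [Set.mem_setOf_eq] at ha hb ⊢
        rw [map_add, map_add, ha, hb, add_zero]
      zero_mem' := by simp
      smul_mem' := by
        intro k z hz
        simp only [Set.mem_setOf_eq] at hz ⊢
        rw [map_smul, Algebra.smul_def, map_mul, hz, mul_zero] }
  have hQ : ∀ z, z ∈ Q ↔ Φ (psiEquiv (K := K) hS z) = 0 := fun z => Iff.rfl
  have hτQ : (psiEquiv (K := K) hS).symm (1 ⊗ₜ t) ∉ Q := by
    rw [hQ, LinearEquiv.apply_symm_apply]
    exact hΦt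
  have hτ : ((LinearMap.toSpanSingleton S₀ M₀ x₀).restrictScalars R₀).baseChange K
      ((psiEquiv (K := K) hS).symm (1 ⊗ₜ t)) = 0 := by
    apply (psiEquiv (K := K) hfM).injective
    rw [hsq, map_zero, LinearEquiv.apply_symm_apply, LinearMap.baseChange_tmul]
    simp only [LinearMap.coe_restrictScalars, LinearMap.toSpanSingleton_apply]
    exact one_tmul_eq_zero_of_mem' p hK h
  obtain ⟨j, hj0, hjQ⟩ := exists_ker_notMem (K₀ := p₀.ResidueField)
    ((LinearMap.toSpanSingleton S₀ M₀ x₀).restrictScalars R₀) Q _ hτQ hτ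
  obtain ⟨r₀, hr₀, s₀, hs₀⟩ := exists_smul_eq_one_tmul p₀ j
  have h1 : (1 : p₀.ResidueField) ⊗ₜ[R₀] (s₀ • x₀) = 0 := by
    have := congrArg (((LinearMap.toSpanSingleton S₀ M₀ x₀).restrictScalars R₀).baseChange
      p₀.ResidueField) hs₀
    rw [map_smul, hj0, smul_zero, LinearMap.baseChange_tmul] at this
    simpa using this.symm
  obtain ⟨r₀', hr₀', hmem⟩ := exists_smul_mem_of_one_tmul_eq_zero p₀ h1
  have hunit : IsUnit (algebraMap p₀.ResidueField K (algebraMap R₀ p₀.ResidueField r₀)) := by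
    apply IsUnit.map
    apply IsUnit.mk0
    rw [Ne, Ideal.algebraMap_residueField_eq_zero]
    exact hr₀
  have h2 : inclK (K := K) ((1 : p₀.ResidueField) ⊗ₜ[R₀] s₀) ∉ Q := by
    rw [← hs₀, inclK_smul, Submodule.smul_mem_iff_of_isUnit _ hunit]
    exact hjQ
  rw [inclK_tmul, map_one, hQ, hψS] at h2
  have hs₀q : algebraMap S₀ S s₀ ∉ q := fun hmem' => h2 (hΦq _ hmem')
  refine ⟨r₀' • s₀, ?_, ?_⟩
  · rw [Algebra.smul_def, map_mul, ← IsScalarTower.algebraMap_apply]
    intro hmem'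
    rcases Ideal.IsPrime.mem_or_mem ‹q.IsPrime› hmem' with h3 | h3
    · exact hr₀' (hp₀ _ h3)
    · exact hs₀q h3
  · rwa [smul_assoc]

theorem fibre_descent [Algebra.IsPushout R₀ R S₀ S] (fM : M₀ →ₗ[S₀] M)
    (hfM : IsBaseChange R (fM.restrictScalars R₀)) (q : Ideal S) [q.IsPrime] (x₀ : M₀) (t : S)
    (ht : t ∉ q)
    (h : t • fM x₀ ∈ (q.comap (algebraMap R S)) • (⊤ : Submodule R M)) :
    ∃ t₀ : S₀, algebraMap S₀ S t₀ ∉ q ∧
      t₀ • x₀ ∈ ((q.comap (algebraMap R S)).comap (algebraMap R₀ R)) • (⊤ : Submodule R₀ M₀) := by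
  letI : Algebra ((q.comap (algebraMap R S)).comap (algebraMap R₀ R)).ResidueField
      (q.comap (algebraMap R S)).ResidueField :=
    (Ideal.ResidueField.mapₐ ((q.comap (algebraMap R S)).comap (algebraMap R₀ R))
      (q.comap (algebraMap R S)) (Algebra.ofId R₀ R) rfl).toRingHom.toAlgebra
  haveI : IsScalarTower R₀ ((q.comap (algebraMap R S)).comap (algebraMap R₀ R)).ResidueField
      (q.comap (algebraMap R S)).ResidueField :=
    IsScalarTower.of_algebraMap_eq (fun r =>
      ((Ideal.ResidueField.mapₐ ((q.comap (algebraMap R S)).comap (algebraMap R₀ R))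
      (q.comap (algebraMap R S)) (Algebra.ofId R₀ R) rfl).commutes r).symm)
  refine fibre_descent_aux fM hfM ((q.comap (algebraMap R S)).comap (algebraMap R₀ R))
    (q.comap (algebraMap R S)) q ?_ (K := (q.comap (algebraMap R S)).ResidueField)
    (L := q.ResidueField) ?_
    (Algebra.TensorProduct.productMap
      (Ideal.ResidueField.mapₐ (q.comap (algebraMap R S)) q (Algebra.ofId R S) rfl)
      (IsScalarTower.toAlgHom R S q.ResidueField)) ?_ x₀ t ?_ h
  · intro r₀ hr₀
    rw [Ideal.mem_comap, Ideal.mem_comap, ← IsScalarTower.algebraMap_apply]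
    exact hr₀
  · intro r hr
    exact (Ideal.algebraMap_residueField_eq_zero).2 hr
  · intro s hs
    rw [Algebra.TensorProduct.productMap_apply_tmul, map_one, one_mul]
    exact (Ideal.algebraMap_residueField_eq_zero).2 hs
  · rw [Algebra.TensorProduct.productMap_apply_tmul, map_one, one_mul]
    intro h0
    exact ht ((Ideal.algebraMap_residueField_eq_zero).1 h0)

end Main

end Groth.Agent.Lib.Helper55.FL
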