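import Mathlib

/-!
# Killing lemma: universally injective after localization
-/

namespace Groth.Agent.Lib.Helper55.FL

open TensorProduct

section KL

variable {R₀ S₀ : Type*} [CommRing R₀] [CommRing S₀] [Algebra R₀ S₀]
  {M₀ N₀ : Type*} [AddCommGroup M₀] [Module S₀ M₀] [Module R₀ M₀] [IsScalarTower R₀ S₀ M₀]
  [AddCommGroup N₀] [Module S₀ N₀] [Module R₀ N₀] [IsScalarTower R₀ S₀ N₀]

theorem localized_map_injective (u₀ : M₀ →ₗ[S₀] N₀) (q₀ : Ideal S₀) [q₀.IsPrime]
    (h1 : ∀ x, u₀ x = 0 → ∃ t ∉ q₀, t • x = 0) :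
    Function.Injective (LocalizedModule.map q₀.primeCompl u₀) := by
  rw [← LinearMap.ker_eq_bot, LinearMap.ker_eq_bot']
  intro y hy
  induction y using LocalizedModule.induction_on with
  | h x s =>
    rw [LocalizedModule.map_mk] at hy
    have h0 : LocalizedModule.mk (u₀ x) s = (0 : LocalizedModule q₀.primeCompl N₀) := hy
    rw [← LocalizedModule.zero_mk s, LocalizedModule.mk_eq] at h0
    obtain ⟨c, hc⟩ := h0
    have h3 : u₀ ((c : S₀) • (s : S₀) • x) = 0 := by
      rw [map_smul, map_smul]
      simpa [Submonoid.smul_def] using hc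
    obtain ⟨t, ht, htx⟩ := h1 _ h3
    rw [← LocalizedModule.zero_mk s, LocalizedModule.mk_eq]
    refine ⟨⟨t, ht⟩ * c, ?_⟩
    simp only [smul_zero]
    rw [Submonoid.smul_def, Submonoid.coe_mul, mul_smul]
    exact htx

theorem killing (u₀ : M₀ →ₗ[S₀] N₀) (q₀ : Ideal S₀) [q₀.IsPrime]
    (h1 : ∀ x, u₀ x = 0 → ∃ t ∉ q₀, t • x = 0)
    (h2 : Module.Flat R₀ (LocalizedModule q₀.primeCompl (N₀ ⧸ LinearMap.range u₀)))
    (X : Type*) [AddCommGroup X] [Module R₀ X] (z : M₀ ⊗[R₀] X)
    (hz : TensorProduct.AlgebraTensorModule.rTensor R₀ X u₀ z = 0) :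
    ∃ t ∉ q₀, t • z = 0 := by
  have hinj := localized_map_injective u₀ q₀ h1
  -- the localized sequence
  have hex : Function.Exact ((LocalizedModule.map q₀.primeCompl u₀).restrictScalars R₀)
      ((LocalizedModule.map q₀.primeCompl (LinearMap.range u₀).mkQ).restrictScalars R₀) :=
    LocalizedModule.map_exact q₀.primeCompl u₀ (LinearMap.range u₀).mkQ
      (LinearMap.exact_map_mkQ_range u₀)
  have hsurj : Function.Surjective
      ((LocalizedModule.map q₀.primeCompl (LinearMap.range u₀).mkQ).restrictScalars R₀) := by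
    intro y
    induction y using LocalizedModule.induction_on with
    | h c s =>
      obtain ⟨n, rfl⟩ := Submodule.mkQ_surjective _ c
      exact ⟨LocalizedModule.mk n s, LocalizedModule.map_mk _ _ _ _⟩
  have hinjX : Function.Injective
      (((LocalizedModule.map q₀.primeCompl u₀).restrictScalars R₀).rTensor X) := by
    rw [← LinearMap.lTensor_inj_iff_rTensor_inj]
    exact LinearMap.lTensor_injective_of_exact_of_flat _ hsurj _ hinj hex X
  -- the localization maps
  have hsq : ∀ z' : M₀ ⊗[R₀] X,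
      ((LocalizedModule.map q₀.primeCompl u₀).restrictScalars R₀).rTensor X
      (TensorProduct.AlgebraTensorModule.rTensor R₀ X
        (LocalizedModule.mkLinearMap q₀.primeCompl M₀) z') =
      TensorProduct.AlgebraTensorModule.rTensor R₀ X
        (LocalizedModule.mkLinearMap q₀.primeCompl N₀)
        (TensorProduct.AlgebraTensorModule.rTensor R₀ X u₀ z') := by
    intro z'
    induction z' using TensorProduct.induction_on with
    | zero => simp
    | tmul m x =>
      simp only [TensorProduct.AlgebraTensorModule.rTensor_tmul, LinearMap.rTensor_tmul,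
        LinearMap.coe_restrictScalars, LocalizedModule.mkLinearMap_apply, LocalizedModule.map_mk]
    | add a b ha hb => simp only [map_add, ha, hb]
  have hsq := hsq z
  rw [hz, map_zero] at hsq
  have h0 : TensorProduct.AlgebraTensorModule.rTensor R₀ X
      (LocalizedModule.mkLinearMap q₀.primeCompl M₀) z = 0 :=
    hinjX (hsq.trans (map_zero _).symm)
  obtain ⟨t, ht⟩ := (IsLocalizedModule.eq_zero_iff q₀.primeCompl
    (TensorProduct.AlgebraTensorModule.rTensor R₀ X
      (LocalizedModule.mkLinearMap q₀.primeCompl M₀))).1 h0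
  exact ⟨t, t.2, ht⟩

end KL

end Groth.Agent.Lib.Helper55.FL
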