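import Mathlib
import Groth.Agent.Lib.Helper55.FL.FibreDescent
import Groth.Agent.Lib.Helper55.FL.Killing

/-!
# Ascent of universal injectivity at a prime from a model
-/

namespace Groth.Agent.Lib.Helper55.FL

open TensorProduct

theorem one_tmul_quot_eq_zero_iff {R : Type*} [CommRing R] (𝔞 : Ideal R) {Y : Type*}
    [AddCommGroup Y] [Module R Y] (y : Y) :
    (1 : R ⧸ 𝔞) ⊗ₜ[R] y = 0 ↔ y ∈ 𝔞 • (⊤ : Submodule R Y) := by
  rw [← LinearMap.ker_tensorProductMk]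
  rfl

section Ascent

variable {R₀ R S₀ S : Type*} [CommRing R₀] [CommRing R] [CommRing S₀] [CommRing S]
  [Algebra R₀ R] [Algebra R₀ S₀] [Algebra R S] [Algebra S₀ S] [Algebra R₀ S]
  [IsScalarTower R₀ R S] [IsScalarTower R₀ S₀ S]
  {M₀ M : Type*} [AddCommGroup M₀] [Module S₀ M₀] [Module R₀ M₀] [IsScalarTower R₀ S₀ M₀]
  [AddCommGroup M] [Module S M] [Module R M] [IsScalarTower R S M]
  [Module S₀ M] [IsScalarTower S₀ S M] [Module R₀ M] [IsScalarTower R₀ R M] [IsScalarTower R₀ S₀ M]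
  {N₀ N : Type*} [AddCommGroup N₀] [Module S₀ N₀] [Module R₀ N₀] [IsScalarTower R₀ S₀ N₀]
  [AddCommGroup N] [Module S N] [Module R N] [IsScalarTower R S N]
  [Module S₀ N] [IsScalarTower S₀ S N] [Module R₀ N] [IsScalarTower R₀ R N] [IsScalarTower R₀ S₀ N]

/-- `Y₀ ⊗[R₀] K ≃ K ⊗[R] Y`. -/
noncomputable def thetaEquiv {Y₀ Y : Type*} [AddCommGroup Y₀] [Module R₀ Y₀] [AddCommGroup Y]
    [Module R Y] [Module R₀ Y] [IsScalarTower R₀ R Y] (K : Type*) [CommRing K] [Algebra R K]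
    [Algebra R₀ K] [IsScalarTower R₀ R K] {f : Y₀ →ₗ[R₀] Y} (hf : IsBaseChange R f) :
    Y₀ ⊗[R₀] K ≃ₗ[R₀] K ⊗[R] Y :=
  (TensorProduct.comm R₀ Y₀ K) ≪≫ₗ (psiEquiv (K := K) hf).restrictScalars R₀

theorem thetaEquiv_tmul {Y₀ Y : Type*} [AddCommGroup Y₀] [Module R₀ Y₀] [AddCommGroup Y]
    [Module R Y] [Module R₀ Y] [IsScalarTower R₀ R Y] (K : Type*) [CommRing K] [Algebra R K]
    [Algebra R₀ K] [IsScalarTower R₀ R K] {f : Y₀ →ₗ[R₀] Y} (hf : IsBaseChange R f)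
    (y : Y₀) (k : K) : thetaEquiv K hf (y ⊗ₜ[R₀] k) = k ⊗ₜ[R] f y := by
  unfold thetaEquiv
  rw [LinearEquiv.trans_apply, TensorProduct.comm_tmul]
  exact psiEquiv_tmul hf k y

theorem ui_of_model (fM : M₀ →ₗ[S₀] M) (hfM : IsBaseChange R (fM.restrictScalars R₀))
    (fN : N₀ →ₗ[S₀] N) (hfN : IsBaseChange R (fN.restrictScalars R₀))
    (u₀ : M₀ →ₗ[S₀] N₀) (u : M →ₗ[S] N) (hu : ∀ x, u (fM x) = fN (u₀ x))
    (q : Ideal S) [q.IsPrime]
    (h1 : ∀ x, u₀ x = 0 → ∃ t ∉ q.comap (algebraMap S₀ S), t • x = 0)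
    (h2 : Module.Flat R₀ (LocalizedModule (q.comap (algebraMap S₀ S)).primeCompl
      (N₀ ⧸ LinearMap.range u₀)))
    (𝔞 : Ideal R) (x : M) (hx : u x ∈ 𝔞 • (⊤ : Submodule R N)) :
    ∃ t ∉ q, t • x ∈ 𝔞 • (⊤ : Submodule R M) := by
  set θM := thetaEquiv (R ⧸ 𝔞) hfM with hθM
  set θN := thetaEquiv (R ⧸ 𝔞) hfN with hθN
  have hnat : ∀ z, θN (TensorProduct.AlgebraTensorModule.rTensor R₀ (R ⧸ 𝔞) u₀ z) =
      (u.restrictScalars R).lTensor (R ⧸ 𝔞) (θM z) := by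
    intro z
    induction z using TensorProduct.induction_on with
    | zero => simp
    | tmul m k =>
      rw [TensorProduct.AlgebraTensorModule.rTensor_tmul, hθN, thetaEquiv_tmul, hθM,
        thetaEquiv_tmul, LinearMap.lTensor_tmul]
      congr 1
      exact (hu m).symm
    | add a b ha hb => simp only [map_add, ha, hb]
  have hequi : ∀ (t₀ : S₀) (z), θM (t₀ • z) =
      ((DistribSMul.toLinearMap R M (algebraMap S₀ S t₀))).lTensor (R ⧸ 𝔞) (θM z) := by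
    intro t₀ z
    induction z using TensorProduct.induction_on with
    | zero => simp
    | tmul m k =>
      rw [TensorProduct.smul_tmul', hθM, thetaEquiv_tmul, thetaEquiv_tmul, LinearMap.lTensor_tmul]
      congr 1
      simp only [LinearMap.coe_restrictScalars, map_smul]
      exact (algebraMap_smul S t₀ (fM m)).symm
    | add a b ha hb => simp only [smul_add, map_add, ha, hb]
  set z := θM.symm ((1 : R ⧸ 𝔞) ⊗ₜ[R] x) with hz
  have hz0 : TensorProduct.AlgebraTensorModule.rTensor R₀ (R ⧸ 𝔞) u₀ z = 0 := by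
    apply θN.injective
    rw [hnat, map_zero, hz, LinearEquiv.apply_symm_apply, LinearMap.lTensor_tmul]
    exact (one_tmul_quot_eq_zero_iff 𝔞 _).2 hx
  obtain ⟨t₀, ht₀, htz⟩ := killing u₀ (q.comap (algebraMap S₀ S)) h1 h2 (R ⧸ 𝔞) z hz0
  refine ⟨algebraMap S₀ S t₀, ht₀, ?_⟩
  have := hequi t₀ z
  rw [htz, map_zero, hz, LinearEquiv.apply_symm_apply, LinearMap.lTensor_tmul] at this
  exact (one_tmul_quot_eq_zero_iff 𝔞 _).1 this.symm

end Ascent

end Groth.Agent.Lib.Helper55.FL
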