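import Groth.Agent.Lib.Helper55.FL.Core

set_option autoImplicit false
universe u v

namespace Groth.Agent.Lib.Helper55.FL

open TensorProduct

section flatprod

variable {R : Type u} [CommRing R] {M N : Type v} [AddCommGroup M] [Module R M]
  [AddCommGroup N] [Module R N]

theorem flat_prod (hM : Module.Flat R M) (hN : Module.Flat R N) : Module.Flat R (M × N) := by
  rw [Module.Flat.iff_rTensor_injective'] at hM hN ⊢
  intro I
  have hsq : ∀ z : I ⊗[R] (M × N),
      TensorProduct.prodRight R R R M N (LinearMap.rTensor (M × N) I.subtype z) =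
      ((LinearMap.rTensor M I.subtype).prodMap (LinearMap.rTensor N I.subtype))
        (TensorProduct.prodRight R R I M N z) := by
    intro z
    induction z using TensorProduct.induction_on with
    | zero => rw [map_zero, map_zero, map_zero, map_zero]
    | tmul a m => simp
    | add x y hx hy => rw [map_add, map_add, hx, hy, map_add, map_add]
  intro z₁ z₂ h
  have h' := congrArg (TensorProduct.prodRight R R R M N) h
  rw [hsq, hsq] at h'
  have hinj : Function.Injective ((LinearMap.rTensor M I.subtype).prodMap
      (LinearMap.rTensor N I.subtype)) := by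
    rw [LinearMap.coe_prodMap]
    exact Function.Injective.prodMap (hM I) (hN I)
  exact (TensorProduct.prodRight R R I M N).injective (hinj h')

theorem flat_of_flat_prod_right (h : Module.Flat R (M × N)) : Module.Flat R N :=
  Module.Flat.of_retract (LinearMap.inr R M N) (LinearMap.snd R M N) (by ext; simp)

end flatprod

section idz

variable (P : Type u) [CommRing P] (M : Type u) [AddCommGroup M] [Module P M]

@[reducible] def opMod : Module Pᵐᵒᵖ M := Module.compHom _ ((RingHom.id P).fromOpposite mul_comm)

attribute [local instance] opMod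

lemma opCentral : IsCentralScalar P M := ⟨fun _ _ => rfl⟩

attribute [local instance] opCentral

def Idz : Type u := TrivSqZeroExt P M

noncomputable instance Idz.commRing : CommRing (Idz P M) :=
  inferInstanceAs (CommRing (TrivSqZeroExt P M))

noncomputable instance Idz.algebra : Algebra P (Idz P M) :=
  inferInstanceAs (Algebra P (TrivSqZeroExt P M))

noncomputable def Idz.fst : Idz P M →ₐ[P] P :=
  TrivSqZeroExt.fstHom P P M

noncomputable def Idz.equivProd : Idz P M ≃ₗ[P] P × M :=
  { toFun := fun x => (TrivSqZeroExt.fst (x : TrivSqZeroExt P M),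
      TrivSqZeroExt.snd (x : TrivSqZeroExt P M))
    invFun := fun y => (y : TrivSqZeroExt P M)
    map_add' := fun _ _ => rfl
    map_smul' := fun _ _ => rfl
    left_inv := fun _ => rfl
    right_inv := fun _ => rfl }

theorem Idz.finitePresentation_module [Module.FinitePresentation P M] :
    Module.FinitePresentation P (Idz P M) :=
  Module.FinitePresentation.of_equiv (Idz.equivProd P M).symm

theorem Idz.finitePresentation [Module.FinitePresentation P M] :
    Algebra.FinitePresentation P (Idz P M) :=
  haveI := Idz.finitePresentation_module P M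
  Algebra.FinitePresentation.of_finitePresentation P (Idz P M)

variable {P M}

lemma Idz.fst_algebraMap (p : P) : Idz.fst P M (algebraMap P (Idz P M) p) = p :=
  (Idz.fst P M).commutes p

lemma tsze_mul_eq (x : TrivSqZeroExt P M) :
    x * (TrivSqZeroExt.inl (TrivSqZeroExt.fst x) - TrivSqZeroExt.inr (TrivSqZeroExt.snd x)) =
      TrivSqZeroExt.inl (TrivSqZeroExt.fst x * TrivSqZeroExt.fst x) := by
  ext
  · rw [TrivSqZeroExt.fst_mul, TrivSqZeroExt.fst_sub, TrivSqZeroExt.fst_inl,
      TrivSqZeroExt.fst_inr, sub_zero, TrivSqZeroExt.fst_inl]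
  · rw [TrivSqZeroExt.snd_mul, TrivSqZeroExt.snd_sub, TrivSqZeroExt.snd_inl,
      TrivSqZeroExt.snd_inr, zero_sub, smul_neg, TrivSqZeroExt.fst_sub, TrivSqZeroExt.fst_inl,
      TrivSqZeroExt.fst_inr, sub_zero, op_smul_eq_smul, neg_add_cancel, TrivSqZeroExt.snd_inl]

lemma Idz.exists_mul_eq (x : Idz P M) :
    ∃ y : Idz P M, x * y = algebraMap P (Idz P M) (Idz.fst P M x * Idz.fst P M x) :=
  ⟨_, tsze_mul_eq (P := P) (M := M) x⟩

theorem Idz.isLocalization_atPrime (q : Ideal P) [q.IsPrime] :
    IsLocalization (Algebra.algebraMapSubmonoid (Idz P M) q.primeCompl)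
      (Localization.AtPrime (q.comap (Idz.fst P M))) := by
  have h₁ : Algebra.algebraMapSubmonoid (Idz P M) q.primeCompl ≤
      (q.comap (Idz.fst P M)).primeCompl := by
    rintro _ ⟨p, hp, rfl⟩
    show ¬ (Idz.fst P M (algebraMap P _ p) ∈ q)
    rw [Idz.fst_algebraMap]
    exact hp
  have h₂ : ∀ n ∈ (q.comap (Idz.fst P M)).primeCompl,
      ∃ m ∈ Algebra.algebraMapSubmonoid (Idz P M) q.primeCompl, n ∣ m := by
    intro n hn
    obtain ⟨y, hy⟩ := Idz.exists_mul_eq n
    refine ⟨_, ⟨Idz.fst P M n * Idz.fst P M n, ?_, rfl⟩, ⟨y, hy.symm⟩⟩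
    exact q.primeCompl.mul_mem hn hn
  haveI : IsLocalization (q.comap (Idz.fst P M)).primeCompl
      (Localization (Algebra.algebraMapSubmonoid (Idz P M) q.primeCompl)) :=
    IsLocalization.of_le_of_exists_dvd _ _ h₁ h₂
  exact IsLocalization.isLocalization_of_algEquiv _
    (IsLocalization.algEquiv (q.comap (Idz.fst P M)).primeCompl
      (Localization (Algebra.algebraMapSubmonoid (Idz P M) q.primeCompl))
      (Localization.AtPrime (q.comap (Idz.fst P M))))

noncomputable def Idz.atPrimeEquiv (q : Ideal P) [q.IsPrime] :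
    Localization.AtPrime (q.comap (Idz.fst P M)) ≃ₗ[P]
      Localization.AtPrime q × LocalizedModule q.primeCompl M := by
  haveI := Idz.isLocalization_atPrime (M := M) q
  haveI : IsLocalizedModule q.primeCompl (IsScalarTower.toAlgHom P (Idz P M)
      (Localization.AtPrime (q.comap (Idz.fst P M)))).toLinearMap :=
    isLocalizedModule_iff_isLocalization.2 this
  haveI : IsLocalizedModule q.primeCompl
      (((Algebra.linearMap P (Localization.AtPrime q)).prodMap
        (LocalizedModule.mkLinearMap q.primeCompl M)) ∘ₗ (Idz.equivProd P M).toLinearMap) :=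
    IsLocalizedModule.of_linearEquiv_right _ _ _
  exact IsLocalizedModule.linearEquiv q.primeCompl
    (IsScalarTower.toAlgHom P (Idz P M)
      (Localization.AtPrime (q.comap (Idz.fst P M)))).toLinearMap
    (((Algebra.linearMap P (Localization.AtPrime q)).prodMap
      (LocalizedModule.mkLinearMap q.primeCompl M)) ∘ₗ (Idz.equivProd P M).toLinearMap)

variable (P M) in
@[reducible] noncomputable def Idz.algebraOf (R : Type u) [CommRing R] [Algebra R P] :
    Algebra R (Idz P M) :=
  ((algebraMap P (Idz P M)).comp (algebraMap R P)).toAlgebra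

theorem Idz.flat_atPrime_iff (R : Type u) [CommRing R] [Algebra R P] [Module R M]
    [IsScalarTower R P M] (q : Ideal P) [q.IsPrime]
    (hP : Module.Flat R (Localization.AtPrime q)) :
    letI := Idz.algebraOf P M R
    Module.Flat R (Localization.AtPrime (q.comap (Idz.fst P M))) ↔
      Module.Flat R (LocalizedModule q.primeCompl M) := by
  letI := Idz.algebraOf P M R
  haveI : IsScalarTower R P (Idz P M) := IsScalarTower.of_algebraMap_eq fun _ => rfl
  rw [Module.Flat.equiv_iff ((Idz.atPrimeEquiv (M := M) q).restrictScalars R)]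
  exact ⟨flat_of_flat_prod_right, flat_prod hP⟩

noncomputable def Idz.tensorEquiv (R : Type u) [CommRing R] [Algebra R P] [Module R M]
    [IsScalarTower R P M] (T : Type u) [CommRing T] [Algebra R T] :
    letI := Idz.algebraOf P M R
    T ⊗[R] Idz P M ≃ₗ[T] (T ⊗[R] P) × (T ⊗[R] M) :=
  letI := Idz.algebraOf P M R
  haveI : IsScalarTower R P (Idz P M) := IsScalarTower.of_algebraMap_eq fun _ => rfl
  (TensorProduct.AlgebraTensorModule.congr (LinearEquiv.refl T T)
    ((Idz.equivProd P M).restrictScalars R)).trans (TensorProduct.prodRight R T T P M)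

end idz

end Groth.Agent.Lib.Helper55.FL
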