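import Groth.Agent.Lib.Helper55.FL.Model
import Groth.Agent.Lib.Helper55.FL.Idz

set_option autoImplicit false
universe u v

namespace Groth.Agent.Lib.Helper55.FL

open TensorProduct

section assembly

variable {k₁ R S S₁ M M₁ : Type u} [CommRing k₁] [CommRing R] [CommRing S] [CommRing S₁]
  [Algebra k₁ R] [Algebra R S] [Algebra k₁ S₁] [Algebra S₁ S] [Algebra k₁ S]
  [IsScalarTower k₁ R S] [IsScalarTower k₁ S₁ S] [Algebra.IsPushout k₁ R S₁ S]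
  [AddCommGroup M] [Module S M] [AddCommGroup M₁] [Module S₁ M₁] [Module k₁ M₁]
  [IsScalarTower k₁ S₁ M₁] [Module.Finite S₁ M₁] [Module S₁ M] [IsScalarTower S₁ S M]
  [Algebra.FiniteType ℤ k₁] [Algebra.FiniteType k₁ S₁]

attribute [local instance] Algebra.TensorProduct.rightAlgebra

theorem final_assembly (f₁ : M₁ →ₗ[S₁] M) (hf₁ : IsBaseChange S f₁)
    (R₄ : Subalgebra k₁ R) (hR₄ : R₄.FG) (hflat : Module.Flat ↥R₄ (↥R₄ ⊗[k₁] M₁)) :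
    ∃ (R₀ : Type u) (_ : CommRing R₀) (_ : Algebra R₀ R) (S₀ : Type u) (_ : CommRing S₀)
      (_ : Algebra R₀ S₀) (_ : Algebra S₀ S) (_ : Algebra R₀ S) (_ : IsScalarTower R₀ R S)
      (_ : IsScalarTower R₀ S₀ S) (M₀ : Type u) (_ : AddCommGroup M₀) (_ : Module S₀ M₀)
      (_ : Module R₀ M₀) (_ : IsScalarTower R₀ S₀ M₀) (_ : Module S₀ M) (_ : IsScalarTower S₀ S M)
      (f : M₀ →ₗ[S₀] M),
      Algebra.FiniteType ℤ R₀ ∧ Algebra.FiniteType R₀ S₀ ∧ Module.Finite S₀ M₀ ∧ Module.Flat R₀ M₀ ∧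
        Algebra.IsPushout R₀ R S₀ S ∧ IsBaseChange S f := by
  haveI t1 : IsScalarTower ↥R₄ R S := inferInstance
  haveI t2 : IsScalarTower k₁ ↥R₄ S := IsScalarTower.of_algebraMap_eq fun x => by
    rw [IsScalarTower.algebraMap_apply k₁ R S]
    rfl
  let ψ : ↥R₄ ⊗[k₁] S₁ →ₐ[k₁] S :=
    Algebra.TensorProduct.productMap (IsScalarTower.toAlgHom k₁ ↥R₄ S)
      (IsScalarTower.toAlgHom k₁ S₁ S)
  letI algS₀S : Algebra (↥R₄ ⊗[k₁] S₁) S := ψ.toRingHom.toAlgebra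
  haveI t3 : IsScalarTower ↥R₄ (↥R₄ ⊗[k₁] S₁) S := IsScalarTower.of_algebraMap_eq fun x => by
    show algebraMap ↥R₄ S x = ψ (algebraMap ↥R₄ (↥R₄ ⊗[k₁] S₁) x)
    rw [Algebra.TensorProduct.algebraMap_apply]
    simp [ψ]
  haveI t4 : IsScalarTower S₁ (↥R₄ ⊗[k₁] S₁) S := IsScalarTower.of_algebraMap_eq fun s => by
    show algebraMap S₁ S s = ψ ((1 : ↥R₄) ⊗ₜ[k₁] s)
    simp [ψ]
  haveI t5 : IsScalarTower k₁ (↥R₄ ⊗[k₁] S₁) S :=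
    IsScalarTower.of_algebraMap_eq fun x => (ψ.commutes x).symm
  have hpo : Algebra.IsPushout ↥R₄ R (↥R₄ ⊗[k₁] S₁) S :=
    (Algebra.IsPushout.comp_iff (R := k₁) (S := ↥R₄) (T := R) (R' := S₁)
      (S' := ↥R₄ ⊗[k₁] S₁) (T' := S)).1 inferInstance
  letI modS₀M : Module (↥R₄ ⊗[k₁] S₁) M := Module.compHom M ψ.toRingHom
  haveI t6 : IsScalarTower (↥R₄ ⊗[k₁] S₁) S M := IsScalarTower.of_algebraMap_smul fun _ _ => rfl
  haveI t7 : IsScalarTower S₁ (↥R₄ ⊗[k₁] S₁) M := ⟨fun s z m => by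
    show ψ (s • z) • m = s • (ψ z • m)
    have h1 : ψ (algebraMap S₁ (↥R₄ ⊗[k₁] S₁) s) = algebraMap S₁ S s :=
      (IsScalarTower.algebraMap_apply S₁ (↥R₄ ⊗[k₁] S₁) S s).symm
    rw [Algebra.smul_def, map_mul, mul_smul, h1, algebraMap_smul]⟩
  let f : (↥R₄ ⊗[k₁] S₁) ⊗[S₁] M₁ →ₗ[↥R₄ ⊗[k₁] S₁] M :=
    (TensorProduct.isBaseChange S₁ M₁ (↥R₄ ⊗[k₁] S₁)).lift f₁
  have hf : IsBaseChange S f := by
    refine IsBaseChange.of_comp (TensorProduct.isBaseChange S₁ M₁ (↥R₄ ⊗[k₁] S₁)) ?_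
    rw [IsBaseChange.lift_comp]
    exact hf₁
  have hfl : Module.Flat ↥R₄ ((↥R₄ ⊗[k₁] S₁) ⊗[S₁] M₁) :=
    Module.Flat.of_linearEquiv
      (Algebra.IsPushout.cancelBaseChange k₁ ↥R₄ S₁ (↥R₄ ⊗[k₁] S₁) M₁)
  have hft : Algebra.FiniteType k₁ ↥R₄ := (Subalgebra.fg_iff_finiteType R₄).1 hR₄
  exact ⟨↥R₄, inferInstance, inferInstance, ↥R₄ ⊗[k₁] S₁, inferInstance, inferInstance, algS₀S,
    inferInstance, t1, t3, (↥R₄ ⊗[k₁] S₁) ⊗[S₁] M₁, inferInstance, inferInstance, inferInstance,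
    inferInstance, modS₀M, t6, f, Algebra.FiniteType.trans (S := k₁) inferInstance hft,
    inferInstance, inferInstance, hfl, hpo, hf⟩

end assembly

end Groth.Agent.Lib.Helper55.FL
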