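import Groth.Agent.S0393
import Groth.Agent.Lib.Helper85.KollarFlat3

set_option autoImplicit false

universe u

namespace Groth.Agent.Lib.Helper55.FL

open TensorProduct

section smulTop

variable {A B : Type u} [CommRing A] [CommRing B] [Algebra A B]
  {Y : Type u} [AddCommGroup Y] [Module B Y] [Module A Y] [IsScalarTower A B Y]

/-- `I • ⊤` (an `A`-submodule of the `B`-module `Y`) is stable under `B`. -/
theorem smul_mem_smul_top (I : Ideal A) (s : B) {y : Y}
    (hy : y ∈ I • (⊤ : Submodule A Y)) : s • y ∈ I • (⊤ : Submodule A Y) := by
  refine Submodule.smul_induction_on hy ?_ ?_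
  · intro a ha n _
    rw [smul_comm]
    exact Submodule.smul_mem_smul ha Submodule.mem_top
  · intro x y hx hy
    rw [smul_add]
    exact add_mem hx hy

end smulTop

section loc

variable {A B : Type u} [CommRing A] [CommRing B] [Algebra A B] (q : Ideal B) [q.IsPrime]

/-- the local homomorphism `A_p → B_q`, `p = q ∩ A`, as an algebra. -/
@[instance_reducible]
noncomputable def locAlg :
    Algebra (Localization.AtPrime (q.comap (algebraMap A B))) (Localization.AtPrime q) :=
  (Localization.localRingHom (q.comap (algebraMap A B)) q (algebraMap A B) rfl).toAlgebra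

attribute [local instance] locAlg

theorem locAlg_algebraMap_eq :
    algebraMap (Localization.AtPrime (q.comap (algebraMap A B))) (Localization.AtPrime q) =
      Localization.localRingHom (q.comap (algebraMap A B)) q (algebraMap A B) rfl := rfl

instance locAlg_isLocalHom :
    IsLocalHom (algebraMap (Localization.AtPrime (q.comap (algebraMap A B)))
      (Localization.AtPrime q)) :=
  Localization.isLocalHom_localRingHom _ _ _ rfl

instance locAlg_tower :
    IsScalarTower A (Localization.AtPrime (q.comap (algebraMap A B))) (Localization.AtPrime q) :=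
  IsScalarTower.of_algebraMap_eq fun x => by
    rw [locAlg_algebraMap_eq, Localization.localRingHom_to_map,
      IsScalarTower.algebraMap_apply A B (Localization.AtPrime q)]

variable (Y : Type u) [AddCommGroup Y] [Module B Y] [Module A Y] [IsScalarTower A B Y]

/-- `Y_q` as a module over `A_p`. -/
@[instance_reducible]
noncomputable def locMod :
    Module (Localization.AtPrime (q.comap (algebraMap A B))) (LocalizedModule q.primeCompl Y) :=
  Module.compHom _ (algebraMap (Localization.AtPrime (q.comap (algebraMap A B)))
    (Localization.AtPrime q))

attribute [local instance] locMod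

instance locMod_tower :
    IsScalarTower (Localization.AtPrime (q.comap (algebraMap A B))) (Localization.AtPrime q)
      (LocalizedModule q.primeCompl Y) :=
  IsScalarTower.of_algebraMap_smul fun _ _ => rfl

instance locMod_tower' :
    IsScalarTower A (Localization.AtPrime (q.comap (algebraMap A B)))
      (LocalizedModule q.primeCompl Y) :=
  IsScalarTower.of_algebraMap_smul fun a y => by
    rw [← algebraMap_smul (Localization.AtPrime q)
      (algebraMap A (Localization.AtPrime (q.comap (algebraMap A B))) a) y,
      ← IsScalarTower.algebraMap_apply, algebraMap_smul]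

end loc

section lemmaL

variable {A B : Type u} [CommRing A] [CommRing B] [Algebra A B] (q : Ideal B) [q.IsPrime]
  (Y : Type u) [AddCommGroup Y] [Module B Y] [Module A Y] [IsScalarTower A B Y]

attribute [local instance] locAlg locMod

theorem mk_mem_maximalIdeal_smul_top {x : Y}
    (hx : x ∈ (q.comap (algebraMap A B)) • (⊤ : Submodule A Y)) (s : q.primeCompl) :
    LocalizedModule.mk x s ∈
      (IsLocalRing.maximalIdeal (Localization.AtPrime (q.comap (algebraMap A B)))) •
        (⊤ : Submodule (Localization.AtPrime (q.comap (algebraMap A B)))
          (LocalizedModule q.primeCompl Y)) := by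
  have h1 : LocalizedModule.mk x (1 : q.primeCompl) ∈
      (IsLocalRing.maximalIdeal (Localization.AtPrime (q.comap (algebraMap A B)))) •
        (⊤ : Submodule (Localization.AtPrime (q.comap (algebraMap A B)))
          (LocalizedModule q.primeCompl Y)) := by
    refine Submodule.smul_induction_on hx ?_ ?_
    · intro a ha n _
      have : LocalizedModule.mk (a • n) (1 : q.primeCompl) =
          (algebraMap A (Localization.AtPrime (q.comap (algebraMap A B))) a) •
            LocalizedModule.mk n (1 : q.primeCompl) := by
        rw [algebraMap_smul, LocalizedModule.smul'_mk]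
      rw [this]
      refine Submodule.smul_mem_smul ?_ Submodule.mem_top
      rwa [IsLocalization.AtPrime.to_map_mem_maximal_iff _ (q.comap (algebraMap A B))]
    · intro x y hx hy
      have : LocalizedModule.mk (x + y) (1 : q.primeCompl) =
          LocalizedModule.mk x 1 + LocalizedModule.mk y 1 :=
        (LocalizedModule.mkLinearMap q.primeCompl Y).map_add x y
      rw [this]
      exact add_mem hx hy
  have h2 : LocalizedModule.mk x s =
      (IsLocalization.mk' (Localization.AtPrime q) (1 : B) s) •
        LocalizedModule.mk x (1 : q.primeCompl) := by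
    rw [← Localization.mk_eq_mk', LocalizedModule.mk_smul_mk, one_smul, mul_one]
  rw [h2]
  exact smul_mem_smul_top _ _ h1

theorem exists_mk_of_mem_maximalIdeal_smul_top {y : LocalizedModule q.primeCompl Y}
    (hy : y ∈ (IsLocalRing.maximalIdeal (Localization.AtPrime (q.comap (algebraMap A B)))) •
        (⊤ : Submodule (Localization.AtPrime (q.comap (algebraMap A B)))
          (LocalizedModule q.primeCompl Y))) :
    ∃ x ∈ (q.comap (algebraMap A B)) • (⊤ : Submodule A Y), ∃ s : q.primeCompl,
      y = LocalizedModule.mk x s := by
  refine Submodule.smul_induction_on hy ?_ ?_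
  · intro a' ha' n _
    obtain ⟨a, r, rfl⟩ := IsLocalization.exists_mk'_eq (q.comap (algebraMap A B)).primeCompl a'
    rw [IsLocalization.AtPrime.mk'_mem_maximal_iff _ (q.comap (algebraMap A B))] at ha'
    induction n using LocalizedModule.induction_on with
    | h x₀ s₀ =>
      have hr : algebraMap A B r ∈ q.primeCompl := r.2
      refine ⟨a • x₀, Submodule.smul_mem_smul ha' Submodule.mem_top,
        ⟨algebraMap A B r, hr⟩ * s₀, ?_⟩
      show (algebraMap (Localization.AtPrime (q.comap (algebraMap A B)))
        (Localization.AtPrime q) (IsLocalization.mk' _ a r)) • LocalizedModule.mk x₀ s₀ = _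
      rw [locAlg_algebraMap_eq, Localization.localRingHom_mk', ← Localization.mk_eq_mk',
        LocalizedModule.mk_smul_mk, algebraMap_smul]
  · rintro y₁ y₂ ⟨x₁, hx₁, s₁, rfl⟩ ⟨x₂, hx₂, s₂, rfl⟩
    refine ⟨(s₂ : B) • x₁ + (s₁ : B) • x₂,
      add_mem (smul_mem_smul_top _ _ hx₁) (smul_mem_smul_top _ _ hx₂), s₁ * s₂, ?_⟩
    rw [LocalizedModule.mk_add_mk]
    rfl

end lemmaL

section main

variable {A B : Type u} [CommRing A] [CommRing B] [Algebra A B] [IsNoetherianRing B]
  {M N : Type u} [AddCommGroup M] [Module B M] [Module A M] [IsScalarTower A B M]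
  [Module.Finite B M]
  [AddCommGroup N] [Module B N] [Module A N] [IsScalarTower A B N] [Module.Flat A N]

attribute [local instance] locAlg locMod

theorem noeth_inj_aux (u : M →ₗ[B] N) (q : Ideal B) [q.IsPrime]
    (hfib : ∀ x : M, u x ∈ (q.comap (algebraMap A B)) • (⊤ : Submodule A N) →
      ∃ t ∉ q, t • x ∈ (q.comap (algebraMap A B)) • (⊤ : Submodule A M)) :
    Function.Injective (LocalizedModule.map q.primeCompl u) ∧
      Module.Flat (Localization.AtPrime (q.comap (algebraMap A B)))
        (LocalizedModule q.primeCompl N ⧸ LinearMap.range
          ((LocalizedModule.map q.primeCompl u).restrictScalars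
            (Localization.AtPrime (q.comap (algebraMap A B))))) := by
  haveI : IsNoetherianRing (Localization.AtPrime q) :=
    IsLocalization.isNoetherianRing q.primeCompl _ inferInstance
  haveI : Module.Flat A (LocalizedModule q.primeCompl N) :=
    Groth.Agent.Lib.Helper85.KollarFlat.flat_localizedModule N q.primeCompl
  haveI : Module.Flat (Localization.AtPrime (q.comap (algebraMap A B)))
      (LocalizedModule q.primeCompl N) :=
    (Module.flat_iff_of_isLocalization (Localization.AtPrime (q.comap (algebraMap A B)))
      (q.comap (algebraMap A B)).primeCompl _).2 inferInstance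
  have h : Function.Injective (LinearMap.lTensor
      (IsLocalRing.ResidueField (Localization.AtPrime (q.comap (algebraMap A B))))
      ((LocalizedModule.map q.primeCompl u).restrictScalars
        (Localization.AtPrime (q.comap (algebraMap A B))))) := by
    rw [injective_iff_map_eq_zero]
    intro z hz
    obtain ⟨y, rfl⟩ := TensorProduct.mk_surjective
      (Localization.AtPrime (q.comap (algebraMap A B))) (LocalizedModule q.primeCompl M)
      (IsLocalRing.ResidueField (Localization.AtPrime (q.comap (algebraMap A B))))
      Ideal.Quotient.mk_surjective z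
    induction y using LocalizedModule.induction_on with
    | h x s =>
      have h1 : TensorProduct.mk (Localization.AtPrime (q.comap (algebraMap A B)))
          (Localization.AtPrime (q.comap (algebraMap A B)) ⧸
            IsLocalRing.maximalIdeal (Localization.AtPrime (q.comap (algebraMap A B))))
          (LocalizedModule q.primeCompl N) 1 (LocalizedModule.mk (u x) s) = 0 := by
        have := hz
        simp only [TensorProduct.mk_apply, LinearMap.lTensor_tmul, LinearMap.coe_restrictScalars,
          LocalizedModule.map_mk] at this
        exact this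
      rw [← LinearMap.mem_ker, LinearMap.ker_tensorProductMk] at h1
      obtain ⟨x', hx', s', hs'⟩ := exists_mk_of_mem_maximalIdeal_smul_top q N h1
      rw [LocalizedModule.mk_eq] at hs'
      obtain ⟨c, hc⟩ := hs'
      have h2 : u (((c : B) * (s' : B)) • x) ∈
          (q.comap (algebraMap A B)) • (⊤ : Submodule A N) := by
        have : u (((c : B) * (s' : B)) • x) = (c : B) • (s : B) • x' := by
          rw [map_smul, mul_smul]
          exact hc
        rw [this]
        exact smul_mem_smul_top _ _ (smul_mem_smul_top _ _ hx')
      obtain ⟨t, ht, htx⟩ := hfib _ h2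
      have h3 : LocalizedModule.mk x s =
          LocalizedModule.mk (t • ((c : B) * (s' : B)) • x)
            (⟨t, ht⟩ * (c * s') * s : q.primeCompl) := by
        rw [LocalizedModule.mk_eq]
        refine ⟨1, ?_⟩
        simp only [one_smul, Submonoid.smul_def, Submonoid.coe_mul, mul_smul]
        rw [smul_comm (s : B) t, smul_comm (s : B) (c : B), smul_comm (s : B) (s' : B)]
      have h4 := mk_mem_maximalIdeal_smul_top q M htx (⟨t, ht⟩ * (c * s') * s : q.primeCompl)
      rw [← h3, ← LinearMap.ker_tensorProductMk, LinearMap.mem_ker] at h4
      exact h4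
  have key := Groth.Agent.S0393.result (R := Localization.AtPrime (q.comap (algebraMap A B)))
    (S := Localization.AtPrime q) (M := LocalizedModule q.primeCompl N)
    (N := LocalizedModule q.primeCompl M)
    ((LocalizedModule.map q.primeCompl u).restrictScalars
      (Localization.AtPrime (q.comap (algebraMap A B)))) h
  exact ⟨key.1, key.2⟩

/-- **Noetherian, global-pointwise form of the local injectivity criterion** (Stacks 00MD):
`B` Noetherian `A`-algebra, `u : M → N` a map of `B`-modules, `M` finite, `N` flat over `A`,
`q` a prime of `B` over `p`.  If `u` is injective on the fibre at `q`, then `u` is injective at `q`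
and the cokernel is `A`-flat at `q`. -/
theorem noeth_inj (u : M →ₗ[B] N) (q : Ideal B) [q.IsPrime]
    (hfib : ∀ x : M, u x ∈ (q.comap (algebraMap A B)) • (⊤ : Submodule A N) →
      ∃ t ∉ q, t • x ∈ (q.comap (algebraMap A B)) • (⊤ : Submodule A M)) :
    (∀ x : M, u x = 0 → ∃ t ∉ q, t • x = 0) ∧
      Module.Flat A (LocalizedModule q.primeCompl (N ⧸ LinearMap.range u)) := by
  obtain ⟨hinj, hflat⟩ := noeth_inj_aux u q hfib
  constructor
  · intro x hx
    have h1 : LocalizedModule.map q.primeCompl u (LocalizedModule.mk x 1) = 0 := by
      rw [LocalizedModule.map_mk, hx, LocalizedModule.zero_mk]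
    have h2 : LocalizedModule.mkLinearMap q.primeCompl M x = 0 := by
      have := hinj (h1.trans (map_zero _).symm)
      exact this
    obtain ⟨t, ht⟩ := (IsLocalizedModule.eq_zero_iff q.primeCompl
      (LocalizedModule.mkLinearMap q.primeCompl M)).1 h2
    exact ⟨t, t.2, ht⟩
  · set Ap := Localization.AtPrime (q.comap (algebraMap A B)) with hAp
    let π : LocalizedModule q.primeCompl N →ₗ[Localization.AtPrime q]
        LocalizedModule q.primeCompl (N ⧸ LinearMap.range u) :=
      LocalizedModule.map q.primeCompl (LinearMap.range u).mkQ
    let π' : LocalizedModule q.primeCompl N →ₗ[Ap]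
        LocalizedModule q.primeCompl (N ⧸ LinearMap.range u) := π.restrictScalars Ap
    have hsurj : Function.Surjective π' := by
      intro y
      induction y using LocalizedModule.induction_on with
      | h c s =>
        obtain ⟨n, rfl⟩ := Submodule.mkQ_surjective _ c
        exact ⟨LocalizedModule.mk n s, LocalizedModule.map_mk _ _ _ _⟩
    have hker : LinearMap.range ((LocalizedModule.map q.primeCompl u).restrictScalars Ap) =
        LinearMap.ker π' := by
      ext y
      have hex := LocalizedModule.map_exact q.primeCompl u (LinearMap.range u).mkQ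
        (LinearMap.exact_map_mkQ_range u) y
      constructor
      · rintro ⟨x, rfl⟩
        exact hex.2 ⟨x, rfl⟩
      · intro hy
        obtain ⟨x, hx⟩ := hex.1 hy
        exact ⟨x, hx⟩
    let e : (LocalizedModule q.primeCompl N ⧸
        LinearMap.range ((LocalizedModule.map q.primeCompl u).restrictScalars Ap)) ≃ₗ[Ap]
        LocalizedModule q.primeCompl (N ⧸ LinearMap.range u) :=
      (Submodule.quotEquivOfEq _ _ hker).trans (π'.quotKerEquivOfSurjective hsurj)
    have hf : Module.Flat Ap (LocalizedModule q.primeCompl (N ⧸ LinearMap.range u)) :=
      Module.Flat.of_linearEquiv e.symm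
    exact (Module.flat_iff_of_isLocalization Ap (q.comap (algebraMap A B)).primeCompl _).1 hf

end main

end Groth.Agent.Lib.Helper55.FL
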