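import Groth.Agent.Lib.Helper55.FL.DescentMain

set_option autoImplicit false
universe u v

namespace Groth.Agent.Lib.Helper55.FL

open TensorProduct

attribute [local instance] Algebra.TensorProduct.rightAlgebra

theorem exists_fg_flat_module {k R S₁ M₁ : Type u} [CommRing k] [IsNoetherianRing k] [CommRing R]
    [Algebra k R] [CommRing S₁] [Algebra k S₁] [Algebra.FiniteType k S₁] [AddCommGroup M₁]
    [Module S₁ M₁] [Module k M₁] [IsScalarTower k S₁ M₁] [Module.Finite S₁ M₁]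
    (hfl : Module.Flat R (R ⊗[k] M₁)) :
    ∃ R₄ : Subalgebra k R, R₄.FG ∧ Module.Flat ↥R₄ (↥R₄ ⊗[k] M₁) := by
  classical
  obtain ⟨m, π, hπ⟩ := Algebra.FiniteType.iff_quotient_mvPolynomial''.1
    (inferInstance : Algebra.FiniteType k S₁)
  letI algPS : Algebra (MvPolynomial (Fin m) k) S₁ := π.toRingHom.toAlgebra
  haveI t4 : IsScalarTower k (MvPolynomial (Fin m) k) S₁ :=
    IsScalarTower.of_algebraMap_eq fun x => (π.commutes x).symm
  haveI fin1 : Module.Finite (MvPolynomial (Fin m) k) S₁ :=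
    Module.Finite.of_surjective (Algebra.linearMap (MvPolynomial (Fin m) k) S₁) hπ
  letI modPM : Module (MvPolynomial (Fin m) k) M₁ := Module.compHom M₁ (algebraMap _ S₁)
  haveI t5 : IsScalarTower (MvPolynomial (Fin m) k) S₁ M₁ :=
    IsScalarTower.of_algebraMap_smul fun _ _ => rfl
  haveI t6 : IsScalarTower k (MvPolynomial (Fin m) k) M₁ := ⟨fun c p x => by
    rw [← algebraMap_smul S₁ (c • p) x, ← algebraMap_smul S₁ p x, Algebra.smul_def, map_mul,
      mul_smul, ← IsScalarTower.algebraMap_apply, algebraMap_smul]⟩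
  haveI fin2 : Module.Finite (MvPolynomial (Fin m) k) M₁ := Module.Finite.trans S₁ _
  letI algN := Idz.algebraOf (MvPolynomial (Fin m) k) M₁ k
  haveI t7 : IsScalarTower k (MvPolynomial (Fin m) k) (Idz (MvPolynomial (Fin m) k) M₁) :=
    IsScalarTower.of_algebraMap_eq fun _ => rfl
  haveI fin3 : Module.Finite (MvPolynomial (Fin m) k) (Idz (MvPolynomial (Fin m) k) M₁) :=
    Module.Finite.equiv (Idz.equivProd _ _).symm
  haveI ft : Algebra.FiniteType k (Idz (MvPolynomial (Fin m) k) M₁) :=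
    Algebra.FiniteType.trans (S := MvPolynomial (Fin m) k) inferInstance inferInstance
  have hflatN : Module.Flat R (R ⊗[k] Idz (MvPolynomial (Fin m) k) M₁) := by
    haveI := flat_prod (inferInstance : Module.Flat R (R ⊗[k] MvPolynomial (Fin m) k)) hfl
    exact Module.Flat.of_linearEquiv (Idz.tensorEquiv k R)
  obtain ⟨R₄, hR₄, h₄⟩ := exists_fg_flat hflatN
  exact ⟨R₄, hR₄, flat_of_flat_prod_right ((Module.Flat.equiv_iff (Idz.tensorEquiv k ↥R₄)).1 h₄)⟩

theorem exists_module_model {R S M : Type u} [CommRing R] [CommRing S] [Algebra R S]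
    [Algebra.FinitePresentation R S] [AddCommGroup M] [Module S M] [Module R M]
    [IsScalarTower R S M] [Module.FinitePresentation S M] :
    ∃ (k₁ : Type u) (_ : CommRing k₁) (_ : Algebra k₁ R) (S₁ : Type u) (_ : CommRing S₁)
      (_ : Algebra k₁ S₁) (M₁ : Type u) (_ : AddCommGroup M₁) (_ : Module S₁ M₁)
      (_ : Module k₁ M₁) (_ : IsScalarTower k₁ S₁ M₁),
      Algebra.FiniteType ℤ k₁ ∧ Algebra.FiniteType k₁ S₁ ∧ Module.Finite S₁ M₁ ∧
        Nonempty (R ⊗[k₁] M₁ ≃ₗ[R] M) := by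
  classical
  obtain ⟨k₁, _, _, S₁, _, _, e₁, n, G', hk₁, hS₁, -, ⟨eM⟩⟩ := exists_model (R := R) (S := S) (M := M)
  letI algS₁S : Algebra S₁ S :=
    ((e₁ : R ⊗[k₁] S₁ →+* S).comp (algebraMap S₁ (R ⊗[k₁] S₁))).toAlgebra
  letI algk₁S : Algebra k₁ S := ((algebraMap R S).comp (algebraMap k₁ R)).toAlgebra
  haveI t1 : IsScalarTower k₁ R S := IsScalarTower.of_algebraMap_eq fun _ => rfl
  haveI t2 : IsScalarTower k₁ S₁ S := IsScalarTower.of_algebraMap_eq fun x => by
    show algebraMap R S (algebraMap k₁ R x) =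
      e₁ (algebraMap S₁ (R ⊗[k₁] S₁) (algebraMap k₁ S₁ x))
    rw [← e₁.commutes, ← IsScalarTower.algebraMap_apply k₁ S₁ (R ⊗[k₁] S₁),
      IsScalarTower.algebraMap_apply k₁ R (R ⊗[k₁] S₁)]
  haveI hpo : Algebra.IsPushout k₁ R S₁ S :=
    Algebra.IsPushout.of_equiv (h := (inferInstance : Algebra.IsPushout k₁ R S₁ (R ⊗[k₁] S₁)))
      e₁ rfl
  letI modS₁M : Module S₁ M := Module.compHom M (algebraMap S₁ S)
  haveI t3 : IsScalarTower S₁ S M := IsScalarTower.of_algebraMap_smul fun _ _ => rfl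
  have hspan : spanB S₁ S n G' = Submodule.span S
      ((fun (h : Fin n → S₁) (i : Fin n) => e₁ ((1 : R) ⊗ₜ[k₁] h i)) '' G') := rfl
  let eQ : ((Fin n → S) ⧸ spanB S₁ S n G') ≃ₗ[S] M :=
    (Submodule.quotEquivOfEq _ _ hspan).trans eM.symm
  let f₁ : ((Fin n → S₁) ⧸ Submodule.span S₁ G') →ₗ[S₁] M :=
    (eQ.toLinearMap.restrictScalars S₁) ∘ₗ quotMap S₁ S n G'
  have hf₁ : IsBaseChange S f₁ :=
    IsBaseChange.of_equiv ((isBaseChange_quotMap S₁ S n G').equiv.trans eQ) fun x => by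
      rw [LinearEquiv.trans_apply, IsBaseChange.equiv_tmul, one_smul]
      rfl
  let eRM : R ⊗[k₁] ((Fin n → S₁) ⧸ Submodule.span S₁ G') ≃ₗ[R] M :=
    (Algebra.IsPushout.cancelBaseChange k₁ R S₁ S
      ((Fin n → S₁) ⧸ Submodule.span S₁ G')).symm.trans (hf₁.equiv.restrictScalars R)
  exact ⟨k₁, inferInstance, inferInstance, S₁, inferInstance, inferInstance,
    (Fin n → S₁) ⧸ Submodule.span S₁ G', inferInstance, inferInstance, inferInstance,
    inferInstance, hk₁, hS₁, inferInstance, ⟨eRM⟩⟩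

end Groth.Agent.Lib.Helper55.FL
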