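import Groth.Agent.Lib.Helper55.FL.PairQuot
import Groth.Agent.Lib.Helper55.FL.ModuleDescent
import Groth.Agent.Lib.Helper55.FL.Assembly

set_option autoImplicit false
set_option linter.style.haveILetI false
universe u v

namespace Groth.Agent.Lib.Helper55.FL

open TensorProduct

section lift

variable {k R N : Type u} [CommRing k] [CommRing R] [Algebra k R] [CommRing N] [Algebra k N]

theorem exists_fg_family_lift {ι : Type} [Fintype ι] (E : ι → R ⊗[k] N) :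
    ∃ R₁ : Subalgebra k R, R₁.FG ∧ ∃ E' : ι → ↥R₁ ⊗[k] N, ∀ i, phi R N R₁ (E' i) = E i := by
  classical
  obtain ⟨R₁, h₁, hD⟩ := exists_fg_forall_mem_range (R := R) (N := N) (Finset.univ.image E)
  have : ∀ i, ∃ y : ↥R₁ ⊗[k] N, phi R N R₁ y = E i := fun i =>
    hD _ (Finset.mem_image.2 ⟨i, Finset.mem_univ i, rfl⟩)
  choose E' hE' using this
  exact ⟨R₁, h₁, E', hE'⟩

theorem exists_fg_family_iota_eq_zero {ι : Type} [Fintype ι] (R' : Subalgebra k R) (hR' : R'.FG)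
    (d : ι → ↥R' ⊗[k] N) (hd : ∀ i, phi R N R' (d i) = 0) :
    ∃ (R₁ : Subalgebra k R) (h : R' ≤ R₁), R₁.FG ∧ ∀ i, iota R N h (d i) = 0 := by
  classical
  obtain ⟨R₁, h, hR₁, hz⟩ := exists_fg_forall_iota_eq_zero R' hR' (Finset.univ.image d)
    (fun z hz => by
      obtain ⟨i, -, rfl⟩ := Finset.mem_image.1 hz
      exact hd i)
  exact ⟨R₁, h, hR₁, fun i => hz _ (Finset.mem_image.2 ⟨i, Finset.mem_univ i, rfl⟩)⟩

end lift

section descentdata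

variable {k R N : Type u} [CommRing k] [CommRing R] [Algebra k R] [CommRing N] [Algebra k N]
  {n l a b : ℕ}

theorem exists_pair_descent_data (gM : Fin a → Fin n → R ⊗[k] N) (gN : Fin b → Fin l → R ⊗[k] N)
    (P : Matrix (Fin l) (Fin n) (R ⊗[k] N)) (c : Fin a → Fin b → R ⊗[k] N)
    (h : PairRel (R ⊗[k] N) gM gN P c) :
    ∃ R₂ : Subalgebra k R, R₂.FG ∧ ∃ (gM₂ : Fin a → Fin n → ↥R₂ ⊗[k] N)
      (gN₂ : Fin b → Fin l → ↥R₂ ⊗[k] N) (P₂ : Matrix (Fin l) (Fin n) (↥R₂ ⊗[k] N))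
      (c₂ : Fin a → Fin b → ↥R₂ ⊗[k] N), PairRel (↥R₂ ⊗[k] N) gM₂ gN₂ P₂ c₂ ∧
        (∀ i j, phi R N R₂ (gM₂ i j) = gM i j) ∧ (∀ t j, phi R N R₂ (gN₂ t j) = gN t j) ∧
        (∀ j i, phi R N R₂ (P₂ j i) = P j i) := by
  classical
  let E : ((Fin a × Fin n) ⊕ (Fin b × Fin l)) ⊕ ((Fin l × Fin n) ⊕ (Fin a × Fin b)) → R ⊗[k] N :=
    Sum.elim (Sum.elim (fun x => gM x.1 x.2) (fun x => gN x.1 x.2))
      (Sum.elim (fun x => P x.1 x.2) (fun x => c x.1 x.2))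
  obtain ⟨R₁, hR₁, E', hE'⟩ := exists_fg_family_lift E
  let gM₁ : Fin a → Fin n → ↥R₁ ⊗[k] N := fun i j => E' (Sum.inl (Sum.inl (i, j)))
  let gN₁ : Fin b → Fin l → ↥R₁ ⊗[k] N := fun t j => E' (Sum.inl (Sum.inr (t, j)))
  let P₁ : Fin l → Fin n → ↥R₁ ⊗[k] N := fun j i => E' (Sum.inr (Sum.inl (j, i)))
  let c₁ : Fin a → Fin b → ↥R₁ ⊗[k] N := fun i t => E' (Sum.inr (Sum.inr (i, t)))
  have hgM₁ : ∀ i j, phi R N R₁ (gM₁ i j) = gM i j := fun i j => hE' _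
  have hgN₁ : ∀ t j, phi R N R₁ (gN₁ t j) = gN t j := fun t j => hE' _
  have hP₁ : ∀ j i, phi R N R₁ (P₁ j i) = P j i := fun j i => hE' _
  have hc₁ : ∀ i t, phi R N R₁ (c₁ i t) = c i t := fun i t => hE' _
  let d : Fin a × Fin l → ↥R₁ ⊗[k] N := fun x =>
    ∑ k', P₁ x.2 k' * gM₁ x.1 k' - ∑ t, c₁ x.1 t * gN₁ t x.2
  have hd : ∀ x, phi R N R₁ (d x) = 0 := by
    rintro ⟨i, j⟩
    simp only [d, map_sub, map_sum, map_mul, hgM₁, hgN₁, hP₁, hc₁]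
    rw [sub_eq_zero]
    exact pairRel_iff.1 h i j
  obtain ⟨R₂, h12, hR₂, hz⟩ := exists_fg_family_iota_eq_zero R₁ hR₁ d hd
  refine ⟨R₂, hR₂, fun i j => iota R N h12 (gM₁ i j), fun t j => iota R N h12 (gN₁ t j),
    Matrix.of fun j i => iota R N h12 (P₁ j i), fun i t => iota R N h12 (c₁ i t), ?_, ?_, ?_, ?_⟩
  · rw [pairRel_iff]
    intro i j
    have := hz (i, j)
    simp only [d, map_sub, map_sum, map_mul, sub_eq_zero] at this
    simpa using this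
  · intro i j
    rw [phi_iota, hgM₁]
  · intro t j
    rw [phi_iota, hgN₁]
  · intro j i
    rw [Matrix.of_apply, phi_iota, hP₁]

end descentdata

section premodel

attribute [local instance] Algebra.TensorProduct.rightAlgebra

variable {R S : Type u} [CommRing R] [CommRing S] [Algebra R S]
  {M N : Type u} [AddCommGroup M] [Module S M]
  [AddCommGroup N] [Module S N]

theorem pair_model_of_data (u : M →ₗ[S] N) {n l a b : ℕ} {gM : Fin a → Fin n → S}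
    {gN : Fin b → Fin l → S} {P : Matrix (Fin l) (Fin n) S} {c : Fin a → Fin b → S}
    (h : PairRel S gM gN P c)
    (eM : M ≃ₗ[S] (Fin n → S) ⧸ Submodule.span S (Set.range gM))
    (eN : N ≃ₗ[S] (Fin l → S) ⧸ Submodule.span S (Set.range gN))
    (hcompat : ∀ x, eN (u x) = quotLin h (eM x))
    (k₁ S₁ : Type u) [CommRing k₁] [CommRing S₁] [Algebra k₁ R] [Algebra k₁ S₁]
    [Algebra.FiniteType ℤ k₁] [Algebra.FiniteType k₁ S₁] (e₁ : R ⊗[k₁] S₁ ≃ₐ[R] S)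
    {gM₂ : Fin a → Fin n → S₁} {gN₂ : Fin b → Fin l → S₁} {P₂ : Matrix (Fin l) (Fin n) S₁}
    {c₂ : Fin a → Fin b → S₁} (h₂ : PairRel S₁ gM₂ gN₂ P₂ c₂)
    (hgM : ∀ i j, e₁ ((1 : R) ⊗ₜ[k₁] gM₂ i j) = gM i j)
    (hgN : ∀ t j, e₁ ((1 : R) ⊗ₜ[k₁] gN₂ t j) = gN t j)
    (hP : ∀ j i, e₁ ((1 : R) ⊗ₜ[k₁] P₂ j i) = P j i) :
    ∃ (k₁ : Type u) (_ : CommRing k₁) (_ : Algebra k₁ R) (S₁ : Type u) (_ : CommRing S₁)
      (_ : Algebra k₁ S₁) (_ : Algebra S₁ S) (_ : Algebra k₁ S) (_ : IsScalarTower k₁ R S)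
      (_ : IsScalarTower k₁ S₁ S)
      (M₁ : Type u) (_ : AddCommGroup M₁) (_ : Module S₁ M₁) (_ : Module k₁ M₁)
      (_ : IsScalarTower k₁ S₁ M₁)
      (N₁ : Type u) (_ : AddCommGroup N₁) (_ : Module S₁ N₁) (_ : Module k₁ N₁)
      (_ : IsScalarTower k₁ S₁ N₁)
      (_ : Module S₁ M) (_ : IsScalarTower S₁ S M) (_ : Module S₁ N) (_ : IsScalarTower S₁ S N)
      (fM : M₁ →ₗ[S₁] M) (fN : N₁ →ₗ[S₁] N) (u₁ : M₁ →ₗ[S₁] N₁),
      Algebra.FiniteType ℤ k₁ ∧ Algebra.FiniteType k₁ S₁ ∧ Module.Finite S₁ M₁ ∧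
        Module.Finite S₁ N₁ ∧ Algebra.IsPushout k₁ R S₁ S ∧ IsBaseChange S fM ∧
        IsBaseChange S fN ∧ ∀ x, u (fM x) = fN (u₁ x) := by
  classical
  letI algS₁S : Algebra S₁ S :=
    ((e₁ : R ⊗[k₁] S₁ →+* S).comp (algebraMap S₁ (R ⊗[k₁] S₁))).toAlgebra
  letI algk₁S : Algebra k₁ S := ((algebraMap R S).comp (algebraMap k₁ R)).toAlgebra
  haveI t1 : IsScalarTower k₁ R S := IsScalarTower.of_algebraMap_eq fun _ => rfl
  haveI t2 : IsScalarTower k₁ S₁ S := IsScalarTower.of_algebraMap_eq fun x => by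
    show algebraMap R S (algebraMap k₁ R x) =
      e₁ (algebraMap S₁ (R ⊗[k₁] S₁) (algebraMap k₁ S₁ x))
    rw [← e₁.commutes, ← IsScalarTower.algebraMap_apply k₁ S₁ (R ⊗[k₁] S₁),
      IsScalarTower.algebraMap_apply k₁ R (R ⊗[k₁] S₁)]
  haveI hpo : Algebra.IsPushout k₁ R S₁ S :=
    Algebra.IsPushout.of_equiv (h := (inferInstance : Algebra.IsPushout k₁ R S₁ (R ⊗[k₁] S₁)))
      e₁ rfl
  have halg : ∀ y : S₁, algebraMap S₁ S y = e₁ ((1 : R) ⊗ₜ[k₁] y) := fun y => rfl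
  letI modS₁M : Module S₁ M := Module.compHom M (algebraMap S₁ S)
  haveI t3 : IsScalarTower S₁ S M := IsScalarTower.of_algebraMap_smul fun _ _ => rfl
  letI modS₁N : Module S₁ N := Module.compHom N (algebraMap S₁ S)
  haveI t4 : IsScalarTower S₁ S N := IsScalarTower.of_algebraMap_smul fun _ _ => rfl
  have hmM : ∀ i, mapFun S₁ S n (gM₂ i) = gM i := by
    intro i
    ext j
    rw [mapFun_apply, halg, hgM]
  have hmN : ∀ t, mapFun S₁ S l (gN₂ t) = gN t := by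
    intro t
    ext j
    rw [mapFun_apply, halg, hgN]
  have hmP : P₂.map (algebraMap S₁ S) = P := by
    ext j i
    rw [Matrix.map_apply, halg, hP]
  have hspanM : spanB S₁ S n (Set.range gM₂) = Submodule.span S (Set.range gM) := by
    rw [spanB, ← Set.range_comp]
    exact congrArg (fun f => Submodule.span S (Set.range f)) (funext hmM)
  have hspanN : spanB S₁ S l (Set.range gN₂) = Submodule.span S (Set.range gN) := by
    rw [spanB, ← Set.range_comp]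
    exact congrArg (fun f => Submodule.span S (Set.range f)) (funext hmN)
  let qM := Submodule.quotEquivOfEq _ _ hspanM
  let qN := Submodule.quotEquivOfEq _ _ hspanN
  let fM : ((Fin n → S₁) ⧸ Submodule.span S₁ (Set.range gM₂)) →ₗ[S₁] M :=
    ((qM.trans eM.symm).toLinearMap.restrictScalars S₁) ∘ₗ quotMap S₁ S n (Set.range gM₂)
  let fN : ((Fin l → S₁) ⧸ Submodule.span S₁ (Set.range gN₂)) →ₗ[S₁] N :=
    ((qN.trans eN.symm).toLinearMap.restrictScalars S₁) ∘ₗ quotMap S₁ S l (Set.range gN₂)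
  have hfM : IsBaseChange S fM :=
    IsBaseChange.of_equiv ((isBaseChange_quotMap S₁ S n (Set.range gM₂)).equiv.trans
      (qM.trans eM.symm)) fun x => by
      rw [LinearEquiv.trans_apply, IsBaseChange.equiv_tmul, one_smul]
      rfl
  have hfN : IsBaseChange S fN :=
    IsBaseChange.of_equiv ((isBaseChange_quotMap S₁ S l (Set.range gN₂)).equiv.trans
      (qN.trans eN.symm)) fun x => by
      rw [LinearEquiv.trans_apply, IsBaseChange.equiv_tmul, one_smul]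
      rfl
  refine ⟨k₁, inferInstance, inferInstance, S₁, inferInstance, inferInstance, algS₁S,
    algk₁S, t1, t2, _, inferInstance, inferInstance, inferInstance, inferInstance,
    _, inferInstance, inferInstance, inferInstance, inferInstance, modS₁M, t3, modS₁N, t4,
    fM, fN, quotLin h₂, inferInstance, inferInstance, inferInstance, inferInstance, hpo, hfM,
    hfN, ?_⟩
  intro x
  obtain ⟨y, rfl⟩ := Submodule.Quotient.mk_surjective _ x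
  have h1 : ∀ z, u (eM.symm z) = eN.symm (quotLin h z) := by
    intro z
    rw [← eN.symm_apply_apply (u (eM.symm z)), hcompat, LinearEquiv.apply_symm_apply]
  show u (eM.symm (qM (quotMap _ S n (Set.range gM₂) (Submodule.Quotient.mk y)))) =
    eN.symm (qN (quotMap _ S l (Set.range gN₂) (quotLin h₂ (Submodule.Quotient.mk y))))
  rw [h1, quotMap_mk, quotLin_mk, quotMap_mk]
  congr 1
  show quotLin h (Submodule.Quotient.mk _) = Submodule.Quotient.mk _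
  rw [quotLin_mk, mapFun_mulVec, hmP]
  rfl

end premodel

section premodel2

variable {R S : Type u} [CommRing R] [CommRing S] [Algebra R S]
  {M N : Type u} [AddCommGroup M] [Module S M] [Module.FinitePresentation S M]
  [AddCommGroup N] [Module S N] [Module.FinitePresentation S N]

theorem exists_pair_model_refine (u : M →ₗ[S] N) (k₀ S₀ : Type u) [CommRing k₀] [CommRing S₀]
    [Algebra k₀ R] [Algebra k₀ S₀] [Algebra.FiniteType ℤ k₀] [Algebra.FiniteType k₀ S₀]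
    (e₀ : R ⊗[k₀] S₀ ≃ₐ[R] S) :
    ∃ (k₁ : Type u) (_ : CommRing k₁) (_ : Algebra k₁ R) (S₁ : Type u) (_ : CommRing S₁)
      (_ : Algebra k₁ S₁) (_ : Algebra S₁ S) (_ : Algebra k₁ S) (_ : IsScalarTower k₁ R S)
      (_ : IsScalarTower k₁ S₁ S)
      (M₁ : Type u) (_ : AddCommGroup M₁) (_ : Module S₁ M₁) (_ : Module k₁ M₁)
      (_ : IsScalarTower k₁ S₁ M₁)
      (N₁ : Type u) (_ : AddCommGroup N₁) (_ : Module S₁ N₁) (_ : Module k₁ N₁)
      (_ : IsScalarTower k₁ S₁ N₁)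
      (_ : Module S₁ M) (_ : IsScalarTower S₁ S M) (_ : Module S₁ N) (_ : IsScalarTower S₁ S N)
      (fM : M₁ →ₗ[S₁] M) (fN : N₁ →ₗ[S₁] N) (u₁ : M₁ →ₗ[S₁] N₁),
      Algebra.FiniteType ℤ k₁ ∧ Algebra.FiniteType k₁ S₁ ∧ Module.Finite S₁ M₁ ∧
        Module.Finite S₁ N₁ ∧ Algebra.IsPushout k₁ R S₁ S ∧ IsBaseChange S fM ∧
        IsBaseChange S fN ∧ ∀ x, u (fM x) = fN (u₁ x) := by
  classical
  obtain ⟨n, l, a, b, gM, gN, P, c, h, eM, eN, hcompat⟩ := exists_pair_presentation u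
  have h' := pairRel_ringHom (e₀.symm : S →+* R ⊗[k₀] S₀) h
  obtain ⟨R₂, hR₂, gM₂, gN₂, P₂, c₂, h₂, hgM, hgN, hP⟩ := exists_pair_descent_data _ _ _ _ h'
  haveI hft : Algebra.FiniteType k₀ ↥R₂ := (Subalgebra.fg_iff_finiteType R₂).1 hR₂
  haveI hftZ : Algebra.FiniteType ℤ ↥R₂ := Algebra.FiniteType.trans (S := k₀) inferInstance hft
  have he₁ : ∀ y : ↥R₂ ⊗[k₀] S₀,
      ((Algebra.TensorProduct.cancelBaseChange k₀ ↥R₂ R R S₀).trans e₀) ((1 : R) ⊗ₜ[↥R₂] y) =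
        e₀ (phi R S₀ R₂ y) := by
    intro y
    show e₀ ((Algebra.TensorProduct.cancelBaseChange k₀ ↥R₂ R R S₀) ((1 : R) ⊗ₜ[↥R₂] y)) = _
    rw [cancelBaseChange_one_tmul, tmap_eq_phi]
  refine pair_model_of_data u h eM eN hcompat ↥R₂ (↥R₂ ⊗[k₀] S₀)
    ((Algebra.TensorProduct.cancelBaseChange k₀ ↥R₂ R R S₀).trans e₀) h₂ ?_ ?_ ?_
  · intro i j
    rw [he₁, hgM]
    exact e₀.apply_symm_apply _
  · intro t j
    rw [he₁, hgN]
    exact e₀.apply_symm_apply _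
  · intro j i
    rw [he₁, hP]
    exact e₀.apply_symm_apply _

theorem exists_pair_model_pre [Algebra.FinitePresentation R S] (u : M →ₗ[S] N) :
    ∃ (k₁ : Type u) (_ : CommRing k₁) (_ : Algebra k₁ R) (S₁ : Type u) (_ : CommRing S₁)
      (_ : Algebra k₁ S₁) (_ : Algebra S₁ S) (_ : Algebra k₁ S) (_ : IsScalarTower k₁ R S)
      (_ : IsScalarTower k₁ S₁ S)
      (M₁ : Type u) (_ : AddCommGroup M₁) (_ : Module S₁ M₁) (_ : Module k₁ M₁)
      (_ : IsScalarTower k₁ S₁ M₁)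
      (N₁ : Type u) (_ : AddCommGroup N₁) (_ : Module S₁ N₁) (_ : Module k₁ N₁)
      (_ : IsScalarTower k₁ S₁ N₁)
      (_ : Module S₁ M) (_ : IsScalarTower S₁ S M) (_ : Module S₁ N) (_ : IsScalarTower S₁ S N)
      (fM : M₁ →ₗ[S₁] M) (fN : N₁ →ₗ[S₁] N) (u₁ : M₁ →ₗ[S₁] N₁),
      Algebra.FiniteType ℤ k₁ ∧ Algebra.FiniteType k₁ S₁ ∧ Module.Finite S₁ M₁ ∧
        Module.Finite S₁ N₁ ∧ Algebra.IsPushout k₁ R S₁ S ∧ IsBaseChange S fM ∧
        IsBaseChange S fN ∧ ∀ x, u (fM x) = fN (u₁ x) :=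
  exists_pair_model_refine u (Algebra.Presentation.ofFinitePresentation R S).Core
    ((Algebra.Presentation.ofFinitePresentation R S).ModelOfHasCoeffs
      (Algebra.Presentation.ofFinitePresentation R S).Core)
    ((Algebra.Presentation.ofFinitePresentation R S).tensorModelOfHasCoeffsEquiv
      (Algebra.Presentation.ofFinitePresentation R S).Core)

end premodel2

section assemblypair

variable {k₁ R S S₁ M M₁ N N₁ : Type u} [CommRing k₁] [CommRing R] [CommRing S] [CommRing S₁]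
  [Algebra k₁ R] [Algebra R S] [Algebra k₁ S₁] [Algebra S₁ S] [Algebra k₁ S]
  [IsScalarTower k₁ R S] [IsScalarTower k₁ S₁ S] [Algebra.IsPushout k₁ R S₁ S]
  [AddCommGroup M] [Module S M] [AddCommGroup M₁] [Module S₁ M₁] [Module k₁ M₁]
  [IsScalarTower k₁ S₁ M₁] [Module.Finite S₁ M₁] [Module S₁ M] [IsScalarTower S₁ S M]
  [AddCommGroup N] [Module S N] [AddCommGroup N₁] [Module S₁ N₁] [Module k₁ N₁]
  [IsScalarTower k₁ S₁ N₁] [Module.Finite S₁ N₁] [Module S₁ N] [IsScalarTower S₁ S N]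
  [Algebra.FiniteType ℤ k₁] [Algebra.FiniteType k₁ S₁]

attribute [local instance] Algebra.TensorProduct.rightAlgebra

theorem final_assembly_pair (P : Prop) (fM : M₁ →ₗ[S₁] M) (hfM : IsBaseChange S fM)
    (fN : N₁ →ₗ[S₁] N) (hfN : IsBaseChange S fN) (u : M →ₗ[S] N) (u₁ : M₁ →ₗ[S₁] N₁)
    (hu : ∀ x, u (fM x) = fN (u₁ x))
    (R₄ : Subalgebra k₁ R) (hR₄ : R₄.FG) (hflat : P → Module.Flat ↥R₄ (↥R₄ ⊗[k₁] N₁)) :
    ∃ (R₀ : Type u) (_ : CommRing R₀) (_ : Algebra R₀ R) (S₀ : Type u) (_ : CommRing S₀)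
      (_ : Algebra R₀ S₀) (_ : Algebra S₀ S) (_ : Algebra R₀ S) (_ : IsScalarTower R₀ R S)
      (_ : IsScalarTower R₀ S₀ S)
      (M₀ : Type u) (_ : AddCommGroup M₀) (_ : Module S₀ M₀) (_ : Module R₀ M₀)
      (_ : IsScalarTower R₀ S₀ M₀)
      (N₀ : Type u) (_ : AddCommGroup N₀) (_ : Module S₀ N₀) (_ : Module R₀ N₀)
      (_ : IsScalarTower R₀ S₀ N₀)
      (_ : Module S₀ M) (_ : IsScalarTower S₀ S M) (_ : Module S₀ N) (_ : IsScalarTower S₀ S N)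
      (fM₀ : M₀ →ₗ[S₀] M) (fN₀ : N₀ →ₗ[S₀] N) (u₀ : M₀ →ₗ[S₀] N₀),
      Algebra.FiniteType ℤ R₀ ∧ Algebra.FiniteType R₀ S₀ ∧ Module.Finite S₀ M₀ ∧
        Module.Finite S₀ N₀ ∧ (P → Module.Flat R₀ N₀) ∧ Algebra.IsPushout R₀ R S₀ S ∧
        IsBaseChange S fM₀ ∧ IsBaseChange S fN₀ ∧ ∀ x, u (fM₀ x) = fN₀ (u₀ x) := by
  haveI t1 : IsScalarTower ↥R₄ R S := inferInstance
  haveI t2 : IsScalarTower k₁ ↥R₄ S := IsScalarTower.of_algebraMap_eq fun x => by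
    rw [IsScalarTower.algebraMap_apply k₁ R S]
    rfl
  let ψ : ↥R₄ ⊗[k₁] S₁ →ₐ[k₁] S :=
    Algebra.TensorProduct.productMap (IsScalarTower.toAlgHom k₁ ↥R₄ S)
      (IsScalarTower.toAlgHom k₁ S₁ S)
  letI algS₀S : Algebra (↥R₄ ⊗[k₁] S₁) S := ψ.toRingHom.toAlgebra
  haveI t3 : IsScalarTower ↥R₄ (↥R₄ ⊗[k₁] S₁) S := IsScalarTower.of_algebraMap_eq fun x => by
    show algebraMap ↥R₄ S x = ψ (algebraMap ↥R₄ (↥R₄ ⊗[k₁] S₁) x)
    rw [Algebra.TensorProduct.algebraMap_apply]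
    simp [ψ]
  haveI t4 : IsScalarTower S₁ (↥R₄ ⊗[k₁] S₁) S := IsScalarTower.of_algebraMap_eq fun s => by
    show algebraMap S₁ S s = ψ ((1 : ↥R₄) ⊗ₜ[k₁] s)
    simp [ψ]
  haveI t5 : IsScalarTower k₁ (↥R₄ ⊗[k₁] S₁) S :=
    IsScalarTower.of_algebraMap_eq fun x => (ψ.commutes x).symm
  have hpo : Algebra.IsPushout ↥R₄ R (↥R₄ ⊗[k₁] S₁) S :=
    (Algebra.IsPushout.comp_iff (R := k₁) (S := ↥R₄) (T := R) (R' := S₁)
      (S' := ↥R₄ ⊗[k₁] S₁) (T' := S)).1 inferInstance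
  letI modS₀M : Module (↥R₄ ⊗[k₁] S₁) M := Module.compHom M ψ.toRingHom
  haveI t6 : IsScalarTower (↥R₄ ⊗[k₁] S₁) S M := IsScalarTower.of_algebraMap_smul fun _ _ => rfl
  haveI t7 : IsScalarTower S₁ (↥R₄ ⊗[k₁] S₁) M := ⟨fun s z m => by
    show ψ (s • z) • m = s • (ψ z • m)
    have h1 : ψ (algebraMap S₁ (↥R₄ ⊗[k₁] S₁) s) = algebraMap S₁ S s :=
      (IsScalarTower.algebraMap_apply S₁ (↥R₄ ⊗[k₁] S₁) S s).symm
    rw [Algebra.smul_def, map_mul, mul_smul, h1, algebraMap_smul]⟩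
  letI modS₀N : Module (↥R₄ ⊗[k₁] S₁) N := Module.compHom N ψ.toRingHom
  haveI t6' : IsScalarTower (↥R₄ ⊗[k₁] S₁) S N := IsScalarTower.of_algebraMap_smul fun _ _ => rfl
  haveI t7' : IsScalarTower S₁ (↥R₄ ⊗[k₁] S₁) N := ⟨fun s z m => by
    show ψ (s • z) • m = s • (ψ z • m)
    have h1 : ψ (algebraMap S₁ (↥R₄ ⊗[k₁] S₁) s) = algebraMap S₁ S s :=
      (IsScalarTower.algebraMap_apply S₁ (↥R₄ ⊗[k₁] S₁) S s).symm
    rw [Algebra.smul_def, map_mul, mul_smul, h1, algebraMap_smul]⟩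
  let fM₀ : (↥R₄ ⊗[k₁] S₁) ⊗[S₁] M₁ →ₗ[↥R₄ ⊗[k₁] S₁] M :=
    (TensorProduct.isBaseChange S₁ M₁ (↥R₄ ⊗[k₁] S₁)).lift fM
  let fN₀ : (↥R₄ ⊗[k₁] S₁) ⊗[S₁] N₁ →ₗ[↥R₄ ⊗[k₁] S₁] N :=
    (TensorProduct.isBaseChange S₁ N₁ (↥R₄ ⊗[k₁] S₁)).lift fN
  have hfM₀ : IsBaseChange S fM₀ := by
    refine IsBaseChange.of_comp (TensorProduct.isBaseChange S₁ M₁ (↥R₄ ⊗[k₁] S₁)) ?_
    rw [IsBaseChange.lift_comp]
    exact hfM
  have hfN₀ : IsBaseChange S fN₀ := by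
    refine IsBaseChange.of_comp (TensorProduct.isBaseChange S₁ N₁ (↥R₄ ⊗[k₁] S₁)) ?_
    rw [IsBaseChange.lift_comp]
    exact hfN
  have hfl : P → Module.Flat ↥R₄ ((↥R₄ ⊗[k₁] S₁) ⊗[S₁] N₁) := fun hP =>
    haveI := hflat hP
    Module.Flat.of_linearEquiv
      (Algebra.IsPushout.cancelBaseChange k₁ ↥R₄ S₁ (↥R₄ ⊗[k₁] S₁) N₁)
  have hft : Algebra.FiniteType k₁ ↥R₄ := (Subalgebra.fg_iff_finiteType R₄).1 hR₄
  have hfM₀_tmul : ∀ (s : ↥R₄ ⊗[k₁] S₁) (m : M₁), fM₀ (s ⊗ₜ[S₁] m) = s • fM m := by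
    intro s m
    have h1 : s ⊗ₜ[S₁] m = s • ((1 : ↥R₄ ⊗[k₁] S₁) ⊗ₜ[S₁] m) := by
      rw [TensorProduct.smul_tmul', smul_eq_mul, mul_one]
    rw [h1, map_smul]
    congr 1
    exact IsBaseChange.lift_eq _ fM m
  have hfN₀_tmul : ∀ (s : ↥R₄ ⊗[k₁] S₁) (m : N₁), fN₀ (s ⊗ₜ[S₁] m) = s • fN m := by
    intro s m
    have h1 : s ⊗ₜ[S₁] m = s • ((1 : ↥R₄ ⊗[k₁] S₁) ⊗ₜ[S₁] m) := by
      rw [TensorProduct.smul_tmul', smul_eq_mul, mul_one]
    rw [h1, map_smul]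
    congr 1
    exact IsBaseChange.lift_eq _ fN m
  refine ⟨↥R₄, inferInstance, inferInstance, ↥R₄ ⊗[k₁] S₁, inferInstance, inferInstance, algS₀S,
    inferInstance, t1, t3, (↥R₄ ⊗[k₁] S₁) ⊗[S₁] M₁, inferInstance, inferInstance, inferInstance,
    inferInstance, (↥R₄ ⊗[k₁] S₁) ⊗[S₁] N₁, inferInstance, inferInstance, inferInstance,
    inferInstance, modS₀M, t6, modS₀N, t6', fM₀, fN₀, u₁.baseChange (↥R₄ ⊗[k₁] S₁),
    Algebra.FiniteType.trans (S := k₁) inferInstance hft,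
    inferInstance, inferInstance, inferInstance, hfl, hpo, hfM₀, hfN₀, ?_⟩
  intro x
  induction x using TensorProduct.induction_on with
  | zero => simp
  | add x y hx hy => rw [map_add, map_add, hx, hy, map_add, map_add]
  | tmul s m =>
    rw [hfM₀_tmul, LinearMap.baseChange_tmul, hfN₀_tmul, ← hu]
    show u (algebraMap (↥R₄ ⊗[k₁] S₁) S s • fM m) = algebraMap (↥R₄ ⊗[k₁] S₁) S s • u (fM m)
    rw [map_smul]

end assemblypair

section pairmodel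

attribute [local instance] Algebra.TensorProduct.rightAlgebra

/-- **Noetherian model of a map of finitely presented modules** over a finitely presented algebra;
flatness of the target descends too when assumed (`P` is a flag). -/
theorem exists_pair_model (P : Prop) {R S : Type u} [CommRing R] [CommRing S] [Algebra R S]
    [Algebra.FinitePresentation R S]
    {M N : Type u} [AddCommGroup M] [Module S M] [Module.FinitePresentation S M]
    [AddCommGroup N] [Module S N] [Module R N] [IsScalarTower R S N]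
    [Module.FinitePresentation S N] (u : M →ₗ[S] N) (hfl : P → Module.Flat R N) :
    ∃ (R₀ : Type u) (_ : CommRing R₀) (_ : Algebra R₀ R) (S₀ : Type u) (_ : CommRing S₀)
      (_ : Algebra R₀ S₀) (_ : Algebra S₀ S) (_ : Algebra R₀ S) (_ : IsScalarTower R₀ R S)
      (_ : IsScalarTower R₀ S₀ S)
      (M₀ : Type u) (_ : AddCommGroup M₀) (_ : Module S₀ M₀) (_ : Module R₀ M₀)
      (_ : IsScalarTower R₀ S₀ M₀)
      (N₀ : Type u) (_ : AddCommGroup N₀) (_ : Module S₀ N₀) (_ : Module R₀ N₀)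
      (_ : IsScalarTower R₀ S₀ N₀)
      (_ : Module S₀ M) (_ : IsScalarTower S₀ S M) (_ : Module S₀ N) (_ : IsScalarTower S₀ S N)
      (fM₀ : M₀ →ₗ[S₀] M) (fN₀ : N₀ →ₗ[S₀] N) (u₀ : M₀ →ₗ[S₀] N₀),
      Algebra.FiniteType ℤ R₀ ∧ Algebra.FiniteType R₀ S₀ ∧ Module.Finite S₀ M₀ ∧
        Module.Finite S₀ N₀ ∧ (P → Module.Flat R₀ N₀) ∧ Algebra.IsPushout R₀ R S₀ S ∧
        IsBaseChange S fM₀ ∧ IsBaseChange S fN₀ ∧ ∀ x, u (fM₀ x) = fN₀ (u₀ x) := by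
  classical
  obtain ⟨k₁, _, _, S₁, _, _, _, _, _, _, M₁, _, _, _, _, N₁, _, _, _, _, _, _, _, _, fM, fN, u₁,
    hk₁, hS₁, hM₁, hN₁, hpo, hfM, hfN, hu⟩ := exists_pair_model_pre (R := R) u
  haveI : IsNoetherianRing k₁ := Algebra.FiniteType.isNoetherianRing ℤ k₁
  by_cases hP : P
  · haveI := hfl hP
    let eRN : R ⊗[k₁] N₁ ≃ₗ[R] N :=
      (Algebra.IsPushout.cancelBaseChange k₁ R S₁ S N₁).symm.trans (hfN.equiv.restrictScalars R)
    have hflat : Module.Flat R (R ⊗[k₁] N₁) := Module.Flat.of_linearEquiv eRN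
    obtain ⟨R₄, hR₄, h₄⟩ := exists_fg_flat_module (S₁ := S₁) hflat
    exact final_assembly_pair P fM hfM fN hfN u u₁ hu R₄ hR₄ (fun _ => h₄)
  · exact final_assembly_pair P fM hfM fN hfN u u₁ hu (⊥ : Subalgebra k₁ R) Subalgebra.fg_bot
      (fun h => absurd h hP)

end pairmodel

end Groth.Agent.Lib.Helper55.FL
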