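import Mathlib
import Groth.Agent.Lib.Helper55.FL.NoethInj
import Groth.Agent.Lib.Helper55.FL.PairModel
import Groth.Agent.Lib.Helper55.FL.Ascent

/-!
# Fibrewise injectivity criterion, finitely presented case (Stacks 046Y, at a prime)
-/

namespace Groth.Agent.Lib.Helper55.FL

open TensorProduct

universe u

set_option linter.style.haveILetI false

attribute [local instance] Algebra.TensorProduct.rightAlgebra

section Abstract

variable {R₀ S₀ : Type u} {R S : Type*} [CommRing R₀] [CommRing R] [CommRing S₀] [CommRing S]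
  [Algebra R₀ R] [Algebra R₀ S₀] [Algebra R S] [Algebra S₀ S] [Algebra R₀ S]
  [IsScalarTower R₀ R S] [IsScalarTower R₀ S₀ S]
  {M₀ : Type u} {M : Type*} [AddCommGroup M₀] [Module S₀ M₀] [Module R₀ M₀] [IsScalarTower R₀ S₀ M₀]
  [AddCommGroup M] [Module S M] [Module R M] [IsScalarTower R S M]
  [Module S₀ M] [IsScalarTower S₀ S M] [Module R₀ M] [IsScalarTower R₀ R M] [IsScalarTower R₀ S₀ M]
  {N₀ : Type u} {N : Type*} [AddCommGroup N₀] [Module S₀ N₀] [Module R₀ N₀] [IsScalarTower R₀ S₀ N₀]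
  [AddCommGroup N] [Module S N] [Module R N] [IsScalarTower R S N]
  [Module S₀ N] [IsScalarTower S₀ S N] [Module R₀ N] [IsScalarTower R₀ R N] [IsScalarTower R₀ S₀ N]

theorem isBaseChange_restrict [Algebra.IsPushout R₀ R S₀ S] (f : M₀ →ₗ[S₀] M)
    (hf : IsBaseChange S f) : IsBaseChange R (f.restrictScalars R₀) := by
  refine IsBaseChange.of_equiv
    ((Algebra.IsPushout.cancelBaseChange R₀ R S₀ S M₀).symm.trans (hf.equiv.restrictScalars R)) ?_
  intro x
  rw [LinearEquiv.trans_apply, Algebra.IsPushout.cancelBaseChange_symm_tmul, map_one]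
  simp [IsBaseChange.equiv_tmul]

theorem map_mem_smul_top (f : M₀ →ₗ[S₀] M) (p : Ideal R) {x : M₀}
    (hx : x ∈ (p.comap (algebraMap R₀ R)) • (⊤ : Submodule R₀ M₀)) :
    f x ∈ p • (⊤ : Submodule R M) := by
  refine Submodule.smul_induction_on hx ?_ ?_
  · intro r hr n _
    have : f (r • n) = algebraMap R₀ R r • f n := by
      rw [algebraMap_smul, ← LinearMap.restrictScalars_apply R₀ f, map_smul]
      rfl
    rw [this]
    exact Submodule.smul_mem_smul hr Submodule.mem_top
  · intro a b ha hb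
    rw [map_add]
    exact Submodule.add_mem _ ha hb

theorem ui_of_noeth_model [Algebra.IsPushout R₀ R S₀ S] [IsNoetherianRing S₀]
    [Module.Finite S₀ M₀] [Module.Flat R₀ N₀]
    (fM : M₀ →ₗ[S₀] M) (hfM : IsBaseChange S fM)
    (fN : N₀ →ₗ[S₀] N) (hfN : IsBaseChange S fN)
    (u₀ : M₀ →ₗ[S₀] N₀) (u : M →ₗ[S] N) (hu : ∀ x, u (fM x) = fN (u₀ x))
    (q : Ideal S) [q.IsPrime]
    (hfib : ∀ x : M, u x ∈ (q.comap (algebraMap R S)) • (⊤ : Submodule R N) →
      ∃ t ∉ q, t • x ∈ (q.comap (algebraMap R S)) • (⊤ : Submodule R M))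
    (𝔞 : Ideal R) (x : M) (hx : u x ∈ 𝔞 • (⊤ : Submodule R N)) :
    ∃ t ∉ q, t • x ∈ 𝔞 • (⊤ : Submodule R M) := by
  have hfM' := isBaseChange_restrict (R₀ := R₀) (R := R) fM hfM
  have hfN' := isBaseChange_restrict (R₀ := R₀) (R := R) fN hfN
  have hpp : (q.comap (algebraMap S₀ S)).comap (algebraMap R₀ S₀) =
      (q.comap (algebraMap R S)).comap (algebraMap R₀ R) := by
    ext r
    simp only [Ideal.mem_comap, ← IsScalarTower.algebraMap_apply]
  have hfib₀ : ∀ x₀ : M₀,
      u₀ x₀ ∈ ((q.comap (algebraMap S₀ S)).comap (algebraMap R₀ S₀)) • (⊤ : Submodule R₀ N₀) →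
      ∃ t ∉ q.comap (algebraMap S₀ S),
        t • x₀ ∈ ((q.comap (algebraMap S₀ S)).comap (algebraMap R₀ S₀)) •
          (⊤ : Submodule R₀ M₀) := by
    intro x₀ hx₀
    rw [hpp] at hx₀ ⊢
    have h1 : u (fM x₀) ∈ (q.comap (algebraMap R S)) • (⊤ : Submodule R N) := by
      rw [hu]
      exact map_mem_smul_top fN _ hx₀
    obtain ⟨t, ht, htx⟩ := hfib _ h1
    obtain ⟨t₀, ht₀, h₀⟩ := fibre_descent fM hfM' q x₀ t ht htx
    exact ⟨t₀, ht₀, h₀⟩
  obtain ⟨h1, h2⟩ := noeth_inj u₀ (q.comap (algebraMap S₀ S)) hfib₀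
  exact ui_of_model fM hfM' fN hfN' u₀ u hu q h1 h2 𝔞 x hx

end Abstract

section Concrete

/-- **Fibrewise injectivity criterion at a prime, finitely presented case** (universally injective
form).  `R → S` finitely presented, `M`, `N` finitely presented `S`-modules, `N` flat over `R`,
`u : M → N` `S`-linear, `q` a prime of `S` over `p`.  If `u` is injective on the fibre over `p`
locally at `q`, then `u ⊗ R/𝔞` is injective locally at `q` for every ideal `𝔞` of `R`. -/
theorem fp_ui {R S : Type u} [CommRing R] [CommRing S] [Algebra R S]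
    [Algebra.FinitePresentation R S]
    {M N : Type u} [AddCommGroup M] [Module S M] [Module R M] [IsScalarTower R S M]
    [Module.FinitePresentation S M]
    [AddCommGroup N] [Module S N] [Module R N] [IsScalarTower R S N]
    [Module.FinitePresentation S N] [Module.Flat R N]
    (u : M →ₗ[S] N) (q : Ideal S) [q.IsPrime]
    (hfib : ∀ x : M, u x ∈ (q.comap (algebraMap R S)) • (⊤ : Submodule R N) →
      ∃ t ∉ q, t • x ∈ (q.comap (algebraMap R S)) • (⊤ : Submodule R M))
    (𝔞 : Ideal R) (x : M) (hx : u x ∈ 𝔞 • (⊤ : Submodule R N)) :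
    ∃ t ∉ q, t • x ∈ 𝔞 • (⊤ : Submodule R M) := by
  obtain ⟨R₀, _, _, S₀, _, _, _, _, _, _, M₀, _, _, _, _, N₀, _, _, _, _, _, _, _, _, fM, fN, u₀,
    hR₀, hS₀, hM₀, hN₀, hflat, hpo, hfM, hfN, hu⟩ :=
    exists_pair_model True u (fun _ => (inferInstance : Module.Flat R N))
  haveI : IsNoetherianRing R₀ := Algebra.FiniteType.isNoetherianRing ℤ R₀
  haveI : IsNoetherianRing S₀ := Algebra.FiniteType.isNoetherianRing R₀ S₀
  haveI : Module.Flat R₀ N₀ := hflat trivial
  letI : Module R₀ M := Module.compHom M (algebraMap R₀ R)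
  haveI : IsScalarTower R₀ R M := IsScalarTower.of_algebraMap_smul (fun _ _ => rfl)
  letI : Module R₀ N := Module.compHom N (algebraMap R₀ R)
  haveI : IsScalarTower R₀ R N := IsScalarTower.of_algebraMap_smul (fun _ _ => rfl)
  haveI : IsScalarTower R₀ S₀ M := IsScalarTower.of_algebraMap_smul (fun r y => by
    rw [← algebraMap_smul S (algebraMap R₀ S₀ r) y, ← IsScalarTower.algebraMap_apply,
      IsScalarTower.algebraMap_apply R₀ R S, algebraMap_smul]
    rfl)
  haveI : IsScalarTower R₀ S₀ N := IsScalarTower.of_algebraMap_smul (fun r y => by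
    rw [← algebraMap_smul S (algebraMap R₀ S₀ r) y, ← IsScalarTower.algebraMap_apply,
      IsScalarTower.algebraMap_apply R₀ R S, algebraMap_smul]
    rfl)
  exact ui_of_noeth_model (R₀ := R₀) (R := R) fM hfM fN hfN u₀ u hu q hfib 𝔞 x hx

end Concrete

end Groth.Agent.Lib.Helper55.FL
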