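import Mathlib
import Groth.Agent.Lib.Helper55.FL.ModOpen

/-!
# Shrinking to a principal open where a finitely presented module is flat over the base
-/

namespace Groth.Agent.Lib.Helper55.FL

open TensorProduct

universe u

section

variable {A B M : Type u} [CommRing A] [CommRing B] [Algebra A B] [AddCommGroup M] [Module B M]
  [Module A M] [IsScalarTower A B M]

/-- the localization of `M_g` at a prime `P` of `B_g` is the localization of `M` at `P ∩ B`. -/
theorem flat_localized_localized (g : B) (P : Ideal (Localization.Away g)) [P.IsPrime]
    (h : Module.Flat A (LocalizedModule (P.comap (algebraMap B (Localization.Away g))).primeCompl M)) :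
    Module.Flat A (LocalizedModule P.primeCompl (LocalizedModule (Submonoid.powers g) M)) := by
  have h1 : IsBaseChange (Localization.Away g)
      (LocalizedModule.mkLinearMap (Submonoid.powers g) M) :=
    LocalizedModule.isBaseChange (Submonoid.powers g) M
  have h2 : IsBaseChange (Localization.AtPrime P)
      (LocalizedModule.mkLinearMap P.primeCompl (LocalizedModule (Submonoid.powers g) M)) :=
    LocalizedModule.isBaseChange P.primeCompl _
  have h12 := IsBaseChange.comp h1 h2
  haveI : IsLocalization.AtPrime (Localization.AtPrime P)
      (P.comap (algebraMap B (Localization.Away g))) :=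
    IsLocalization.isLocalization_isLocalization_atPrime_isLocalization (Submonoid.powers g)
      (Localization.AtPrime P) P
  have h3 := (isLocalizedModule_iff_isBaseChange
    (P.comap (algebraMap B (Localization.Away g))).primeCompl (Localization.AtPrime P) _).2 h12
  let e := IsLocalizedModule.iso (P.comap (algebraMap B (Localization.Away g))).primeCompl
    (((LocalizedModule.mkLinearMap P.primeCompl
      (LocalizedModule (Submonoid.powers g) M)).restrictScalars B) ∘ₗ
      (LocalizedModule.mkLinearMap (Submonoid.powers g) M))
  exact Module.Flat.of_linearEquiv (e.restrictScalars A).symm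

theorem flat_localizedModule_away_of_forall (g : B)
    (h : ∀ (P' : Ideal B) [P'.IsPrime], g ∉ P' →
      Module.Flat A (LocalizedModule P'.primeCompl M)) :
    Module.Flat A (LocalizedModule (Submonoid.powers g) M) := by
  refine Module.flat_of_isLocalized_maximal (R := A) (Localization.Away g)
    (LocalizedModule (Submonoid.powers g) M)
    (fun P _ => LocalizedModule P.primeCompl (LocalizedModule (Submonoid.powers g) M))
    (fun P _ => LocalizedModule.mkLinearMap P.primeCompl _) ?_
  intro P hP
  haveI := hP.isPrime
  apply flat_localized_localized g P
  apply h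
  intro hg
  have : algebraMap B (Localization.Away g) g ∈ P := hg
  exact (Ideal.IsPrime.ne_top ‹P.IsPrime›) (Ideal.eq_top_of_isUnit_mem _ this
    (IsLocalization.Away.algebraMap_isUnit g))

end

section fp

variable {R S M : Type u} [CommRing R] [CommRing S] [Algebra R S]
  [Algebra.FinitePresentation R S] [AddCommGroup M] [Module S M] [Module R M]
  [IsScalarTower R S M] [Module.FinitePresentation S M]

/-- **Shrinking**: if `M_q` is `R`-flat then `M_g` is `R`-flat for some `g ∉ q`. -/
theorem exists_flat_away (q : Ideal S) [q.IsPrime]
    (h : Module.Flat R (LocalizedModule q.primeCompl M)) :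
    ∃ g : S, g ∉ q ∧ Module.Flat R (LocalizedModule (Submonoid.powers g) M) := by
  have hopen := isOpen_flat_localizedModule_of_fp (R := R) (S := S) (M := M)
  have hq : (⟨q, inferInstance⟩ : PrimeSpectrum S) ∈
      {q : PrimeSpectrum S | Module.Flat R (LocalizedModule q.asIdeal.primeCompl M)} := h
  obtain ⟨U, ⟨g, rfl⟩, hqU, hU⟩ :=
    PrimeSpectrum.isTopologicalBasis_basic_opens.exists_subset_of_mem_open hq hopen
  refine ⟨g, hqU, flat_localizedModule_away_of_forall g ?_⟩
  intro P' _ hg
  exact hU (show (⟨P', inferInstance⟩ : PrimeSpectrum S) ∈ _ from hg)

end fp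

end Groth.Agent.Lib.Helper55.FL
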