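import Mathlib
import Groth.Agent.Lib.Helper55.FL.FpUI
import Groth.Agent.Lib.Helper55.FL.Shrink

/-!
# The fibrewise injectivity criterion with flatness only at the prime
-/

namespace Groth.Agent.Lib.Helper55.FL

open TensorProduct

universe u

set_option linter.style.haveILetI false

section lemmas

variable {R S : Type*} [CommRing R] [CommRing S] [Algebra R S]
  {Y : Type*} [AddCommGroup Y] [Module S Y] [Module R Y] [IsScalarTower R S Y]

theorem smul_mem_smul_top' (I : Ideal R) (s : S) {y : Y}
    (hy : y ∈ I • (⊤ : Submodule R Y)) : s • y ∈ I • (⊤ : Submodule R Y) := by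
  refine Submodule.smul_induction_on hy ?_ ?_
  · intro a ha n _
    rw [smul_comm]
    exact Submodule.smul_mem_smul ha Submodule.mem_top
  · intro x y hx hy
    rw [smul_add]
    exact add_mem hx hy

theorem mk_mem_smul_top (T : Submonoid S) (𝔞 : Ideal R) {z : Y}
    (hz : z ∈ 𝔞 • (⊤ : Submodule R Y)) (s : T) :
    LocalizedModule.mk z s ∈ 𝔞 • (⊤ : Submodule R (LocalizedModule T Y)) := by
  refine Submodule.smul_induction_on hz ?_ ?_
  · intro a ha n _
    rw [← LocalizedModule.smul'_mk]
    exact Submodule.smul_mem_smul ha Submodule.mem_top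
  · intro x y hx hy
    have : LocalizedModule.mk (x + y) s = LocalizedModule.mk x s + LocalizedModule.mk y s := by
      rw [LocalizedModule.mk_add_mk, LocalizedModule.mk_eq]
      refine ⟨1, ?_⟩
      simp only [one_smul, smul_add, Submonoid.smul_def, Submonoid.coe_mul, mul_smul]
    rw [this]
    exact add_mem hx hy

theorem exists_smul_mem_of_mk_mem (T : Submonoid S) (𝔞 : Ideal R) {z : Y} {s : T}
    (hz : LocalizedModule.mk z s ∈ 𝔞 • (⊤ : Submodule R (LocalizedModule T Y))) :
    ∃ t ∈ T, t • z ∈ 𝔞 • (⊤ : Submodule R Y) := by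
  have key : ∀ y ∈ 𝔞 • (⊤ : Submodule R (LocalizedModule T Y)),
      ∃ w ∈ 𝔞 • (⊤ : Submodule R Y), ∃ s' : T, y = LocalizedModule.mk w s' := by
    intro y hy
    refine Submodule.smul_induction_on hy ?_ ?_
    · intro a ha n _
      induction n using LocalizedModule.induction_on with
      | h x₀ s₀ =>
        exact ⟨a • x₀, Submodule.smul_mem_smul ha Submodule.mem_top, s₀,
          LocalizedModule.smul'_mk a x₀ s₀⟩
    · rintro y₁ y₂ ⟨x₁, hx₁, s₁, rfl⟩ ⟨x₂, hx₂, s₂, rfl⟩
      refine ⟨(s₂ : S) • x₁ + (s₁ : S) • x₂,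
        add_mem (smul_mem_smul_top' _ _ hx₁) (smul_mem_smul_top' _ _ hx₂), s₁ * s₂, ?_⟩
      rw [LocalizedModule.mk_add_mk]
      rfl
  obtain ⟨w, hw, s', hws⟩ := key _ hz
  rw [LocalizedModule.mk_eq] at hws
  obtain ⟨c, hc⟩ := hws
  refine ⟨(c : S) * (s' : S), T.mul_mem c.2 s'.2, ?_⟩
  rw [mul_smul]
  have : (c : S) • (s' : S) • z = (c : S) • (s : S) • w := hc
  rw [this]
  exact smul_mem_smul_top' _ _ (smul_mem_smul_top' _ _ hw)

end lemmas

section main

/-- **Fibrewise injectivity criterion at a prime, f.p. case, flatness only at the prime.** -/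
theorem fp_ui' {R S : Type u} [CommRing R] [CommRing S] [Algebra R S]
    [Algebra.FinitePresentation R S]
    {M N : Type u} [AddCommGroup M] [Module S M] [Module R M] [IsScalarTower R S M]
    [Module.FinitePresentation S M]
    [AddCommGroup N] [Module S N] [Module R N] [IsScalarTower R S N]
    [Module.FinitePresentation S N]
    (u : M →ₗ[S] N) (q : Ideal S) [q.IsPrime]
    (hN : Module.Flat R (LocalizedModule q.primeCompl N))
    (hfib : ∀ x : M, u x ∈ (q.comap (algebraMap R S)) • (⊤ : Submodule R N) →
      ∃ t ∉ q, t • x ∈ (q.comap (algebraMap R S)) • (⊤ : Submodule R M))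
    (𝔞 : Ideal R) (x : M) (hx : u x ∈ 𝔞 • (⊤ : Submodule R N)) :
    ∃ t ∉ q, t • x ∈ 𝔞 • (⊤ : Submodule R M) := by
  obtain ⟨g, hg, hflat⟩ := exists_flat_away q hN
  have hTq : ∀ t ∈ Submonoid.powers g, t ∉ q := by
    rintro _ ⟨n, rfl⟩ hmem
    exact hg (Ideal.IsPrime.mem_of_pow_mem ‹q.IsPrime› n hmem)
  have hdisj : Disjoint (Submonoid.powers g : Set S) (q : Set S) := by
    rw [Set.disjoint_left]
    intro t ht
    exact hTq t ht
  have hprime : (Ideal.map (algebraMap S (Localization.Away g)) q).IsPrime :=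
    IsLocalization.isPrime_of_isPrime_disjoint (Submonoid.powers g) (Localization.Away g) q
      ‹q.IsPrime› hdisj
  have hcomap : (Ideal.map (algebraMap S (Localization.Away g)) q).comap
      (algebraMap S (Localization.Away g)) = q :=
    IsLocalization.comap_map_of_isPrime_disjoint (Submonoid.powers g) (Localization.Away g)
      ‹q.IsPrime› hdisj
  have hcomapR : (Ideal.map (algebraMap S (Localization.Away g)) q).comap
      (algebraMap R (Localization.Away g)) = q.comap (algebraMap R S) := by
    rw [IsScalarTower.algebraMap_eq R S (Localization.Away g), ← Ideal.comap_comap, hcomap]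
  haveI : Algebra.FinitePresentation S (Localization.Away g) :=
    IsLocalization.Away.finitePresentation g
  haveI : Algebra.FinitePresentation R (Localization.Away g) :=
    Algebra.FinitePresentation.trans R S (Localization.Away g)
  have hfibg : ∀ y : LocalizedModule (Submonoid.powers g) M,
      (LocalizedModule.map (Submonoid.powers g) u) y ∈
        ((Ideal.map (algebraMap S (Localization.Away g)) q).comap
          (algebraMap R (Localization.Away g))) •
          (⊤ : Submodule R (LocalizedModule (Submonoid.powers g) N)) →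
      ∃ t' ∉ Ideal.map (algebraMap S (Localization.Away g)) q,
        t' • y ∈ ((Ideal.map (algebraMap S (Localization.Away g)) q).comap
          (algebraMap R (Localization.Away g))) •
          (⊤ : Submodule R (LocalizedModule (Submonoid.powers g) M)) := by
    rw [hcomapR]
    intro y hy
    induction y using LocalizedModule.induction_on with
    | h x₀ s₀ =>
      rw [LocalizedModule.map_mk] at hy
      obtain ⟨t₁, ht₁, h1⟩ := exists_smul_mem_of_mk_mem (Submonoid.powers g) _ hy
      have h2 : u (t₁ • x₀) ∈ (q.comap (algebraMap R S)) • (⊤ : Submodule R N) := by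
        rwa [map_smul]
      obtain ⟨t, ht, h3⟩ := hfib _ h2
      refine ⟨algebraMap S (Localization.Away g) (t * t₁), ?_, ?_⟩
      · intro hmem
        have h4 : t * t₁ ∈ q := by
          rw [← hcomap]
          exact hmem
        rcases Ideal.IsPrime.mem_or_mem ‹q.IsPrime› h4 with h5 | h5
        · exact ht h5
        · exact hTq t₁ ht₁ h5
      · rw [algebraMap_smul, LocalizedModule.smul'_mk, mul_smul]
        exact mk_mem_smul_top (Submonoid.powers g) _ h3 s₀
  have hxg : (LocalizedModule.map (Submonoid.powers g) u) (LocalizedModule.mk x 1) ∈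
      𝔞 • (⊤ : Submodule R (LocalizedModule (Submonoid.powers g) N)) := by
    rw [LocalizedModule.map_mk]
    exact mk_mem_smul_top (Submonoid.powers g) 𝔞 hx 1
  obtain ⟨t', ht', h4⟩ := fp_ui (LocalizedModule.map (Submonoid.powers g) u)
    (Ideal.map (algebraMap S (Localization.Away g)) q) hfibg 𝔞 (LocalizedModule.mk x 1) hxg
  obtain ⟨t₁, s₁, rfl⟩ := IsLocalization.exists_mk'_eq (Submonoid.powers g) t'
  have ht₁ : t₁ ∉ q := by
    intro hmem
    apply ht'
    rw [IsLocalization.mk'_mem_iff]
    exact Ideal.mem_map_of_mem _ hmem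
  rw [← Localization.mk_eq_mk', LocalizedModule.mk_smul_mk] at h4
  obtain ⟨t₂, ht₂, h5⟩ := exists_smul_mem_of_mk_mem (Submonoid.powers g) 𝔞 h4
  refine ⟨t₂ * t₁, ?_, ?_⟩
  · intro hmem
    rcases Ideal.IsPrime.mem_or_mem ‹q.IsPrime› hmem with h6 | h6
    · exact hTq t₂ ht₂ h6
    · exact ht₁ h6
  · rwa [mul_smul]

end main

end Groth.Agent.Lib.Helper55.FL
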