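import Mathlib
import Groth.Agent.Lib.Helper55.FL.LocUI

/-!
# Pure injections into flat modules have flat cokernel
-/

namespace Groth.Agent.Lib.Helper55.FL

open TensorProduct

universe u

section nu

variable {R : Type*} [CommRing R] (I : Ideal R) (Y : Type*) [AddCommGroup Y] [Module R Y]

/-- `Y ⊗ I → Y`, `y ⊗ i ↦ i • y`. -/
noncomputable def nu : Y ⊗[R] I →ₗ[R] Y :=
  (TensorProduct.rid R Y).toLinearMap ∘ₗ (LinearMap.lTensor Y I.subtype)

variable {Y}

theorem nu_tmul (y : Y) (i : I) : nu I Y (y ⊗ₜ[R] i) = (i : R) • y := by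
  simp [nu]

theorem nu_mem (z : Y ⊗[R] I) : nu I Y z ∈ I • (⊤ : Submodule R Y) := by
  induction z using TensorProduct.induction_on with
  | zero => simp
  | tmul y i =>
    rw [nu_tmul]
    exact Submodule.smul_mem_smul i.2 Submodule.mem_top
  | add a b ha hb =>
    rw [map_add]
    exact add_mem ha hb

theorem exists_nu_eq {y : Y} (hy : y ∈ I • (⊤ : Submodule R Y)) : ∃ z, nu I Y z = y := by
  refine Submodule.smul_induction_on hy ?_ ?_
  · intro a ha n _
    exact ⟨n ⊗ₜ[R] ⟨a, ha⟩, nu_tmul I n ⟨a, ha⟩⟩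
  · rintro _ _ ⟨z₁, rfl⟩ ⟨z₂, rfl⟩
    exact ⟨z₁ + z₂, map_add _ _ _⟩

theorem nu_natural {Z : Type*} [AddCommGroup Z] [Module R Z] (f : Y →ₗ[R] Z) (z : Y ⊗[R] I) :
    nu I Z (LinearMap.rTensor I f z) = f (nu I Y z) := by
  induction z using TensorProduct.induction_on with
  | zero => simp
  | tmul y i => simp [nu_tmul]
  | add a b ha hb => simp only [map_add, ha, hb]

theorem nu_injective_of_flat [Module.Flat R Y] : Function.Injective (nu I Y) := by
  unfold nu
  rw [LinearMap.coe_comp]
  exact (TensorProduct.rid R Y).injective.comp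
    ((Module.Flat.iff_lTensor_injective'.1 inferInstance) I)

theorem flat_of_nu_injective (h : ∀ I : Ideal R, Function.Injective (nu I Y)) :
    Module.Flat R Y := by
  rw [Module.Flat.iff_lTensor_injective']
  intro I
  have := h I
  unfold nu at this
  rw [LinearMap.coe_comp] at this
  exact Function.Injective.of_comp this

end nu

section F1

variable {R : Type*} [CommRing R] {M N : Type*} [AddCommGroup M] [Module R M]
  [AddCommGroup N] [Module R N]

/-- A pure injection into a flat module has flat cokernel. -/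
theorem flat_quotient_of_ui [Module.Flat R N] (u : M →ₗ[R] N)
    (h : ∀ (𝔞 : Ideal R) (x : M), u x ∈ 𝔞 • (⊤ : Submodule R N) →
      x ∈ 𝔞 • (⊤ : Submodule R M)) :
    Module.Flat R (N ⧸ LinearMap.range u) := by
  apply flat_of_nu_injective
  intro I
  rw [injective_iff_map_eq_zero]
  intro w hw
  obtain ⟨w', rfl⟩ := LinearMap.rTensor_surjective I (LinearMap.range u).mkQ_surjective w
  rw [nu_natural] at hw
  have h1 : nu I N w' ∈ LinearMap.range u := by
    rw [← Submodule.ker_mkQ (LinearMap.range u)]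
    exact hw
  obtain ⟨x, hx⟩ := h1
  have h2 : x ∈ I • (⊤ : Submodule R M) := h I x (hx ▸ nu_mem I w')
  obtain ⟨x', rfl⟩ := exists_nu_eq I h2
  have h3 : LinearMap.rTensor I u x' = w' := by
    apply nu_injective_of_flat I
    rw [nu_natural, hx]
  rw [← h3, ← LinearMap.comp_apply, ← LinearMap.rTensor_comp]
  have : (LinearMap.range u).mkQ ∘ₗ u = 0 := LinearMap.range_mkQ_comp u
  rw [this, LinearMap.rTensor_zero, LinearMap.zero_apply]

end F1

section F2

variable {R S : Type*} [CommRing R] [CommRing S] [Algebra R S]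
  {M N : Type*} [AddCommGroup M] [Module S M] [Module R M] [IsScalarTower R S M]
  [AddCommGroup N] [Module S N] [Module R N] [IsScalarTower R S N]

/-- the cokernel commutes with localization. -/
noncomputable def localizedCokerEquiv (u : M →ₗ[S] N) (T : Submonoid S) :
    (LocalizedModule T N ⧸
      LinearMap.range ((LocalizedModule.map T u).restrictScalars R)) ≃ₗ[R]
      LocalizedModule T (N ⧸ LinearMap.range u) := by
  let π' : LocalizedModule T N →ₗ[R] LocalizedModule T (N ⧸ LinearMap.range u) :=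
    (LocalizedModule.map T (LinearMap.range u).mkQ).restrictScalars R
  have hsurj : Function.Surjective π' := by
    intro y
    induction y using LocalizedModule.induction_on with
    | h c s =>
      obtain ⟨n, rfl⟩ := Submodule.mkQ_surjective _ c
      exact ⟨LocalizedModule.mk n s, LocalizedModule.map_mk _ _ _ _⟩
  have hker : LinearMap.range ((LocalizedModule.map T u).restrictScalars R) =
      LinearMap.ker π' := by
    ext y
    have hex := LocalizedModule.map_exact T u (LinearMap.range u).mkQ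
      (LinearMap.exact_map_mkQ_range u) y
    constructor
    · rintro ⟨x, rfl⟩
      exact hex.2 ⟨x, rfl⟩
    · intro hy
      obtain ⟨x, hx⟩ := hex.1 hy
      exact ⟨x, hx⟩
  exact (Submodule.quotEquivOfEq _ _ hker).trans (π'.quotKerEquivOfSurjective hsurj)

theorem ui_localized (u : M →ₗ[S] N) (q : Ideal S) [q.IsPrime]
    (h : ∀ (𝔞 : Ideal R) (x : M), u x ∈ 𝔞 • (⊤ : Submodule R N) →
      ∃ t ∉ q, t • x ∈ 𝔞 • (⊤ : Submodule R M))
    (𝔞 : Ideal R) (y : LocalizedModule q.primeCompl M)
    (hy : (LocalizedModule.map q.primeCompl u) y ∈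
      𝔞 • (⊤ : Submodule R (LocalizedModule q.primeCompl N))) :
    y ∈ 𝔞 • (⊤ : Submodule R (LocalizedModule q.primeCompl M)) := by
  induction y using LocalizedModule.induction_on with
  | h x s =>
    rw [LocalizedModule.map_mk] at hy
    obtain ⟨t₁, ht₁, h1⟩ := exists_smul_mem_of_mk_mem q.primeCompl 𝔞 hy
    have h2 : u (t₁ • x) ∈ 𝔞 • (⊤ : Submodule R N) := by rwa [map_smul]
    obtain ⟨t, ht, h3⟩ := h 𝔞 _ h2
    have hmem : t * t₁ ∈ q.primeCompl := q.primeCompl.mul_mem ht ht₁
    have h4 : LocalizedModule.mk x s =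
        LocalizedModule.mk (t • t₁ • x) (⟨t * t₁, hmem⟩ * s) := by
      rw [LocalizedModule.mk_eq]
      refine ⟨1, ?_⟩
      simp only [one_smul, Submonoid.smul_def, Submonoid.coe_mul, mul_smul]
      rw [smul_comm (s : S) t, smul_comm (s : S) t₁]
    rw [h4]
    exact mk_mem_smul_top q.primeCompl 𝔞 h3 _

theorem flat_localized_quotient_of_ui (u : M →ₗ[S] N) (q : Ideal S) [q.IsPrime]
    (hN : Module.Flat R (LocalizedModule q.primeCompl N))
    (h : ∀ (𝔞 : Ideal R) (x : M), u x ∈ 𝔞 • (⊤ : Submodule R N) →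
      ∃ t ∉ q, t • x ∈ 𝔞 • (⊤ : Submodule R M)) :
    Module.Flat R (LocalizedModule q.primeCompl (N ⧸ LinearMap.range u)) := by
  have h1 : Module.Flat R (LocalizedModule q.primeCompl N ⧸
      LinearMap.range ((LocalizedModule.map q.primeCompl u).restrictScalars R)) :=
    flat_quotient_of_ui _ (fun 𝔞 y hy => ui_localized u q h 𝔞 y hy)
  exact Module.Flat.of_linearEquiv (localizedCokerEquiv (R := R) u q.primeCompl).symm

end F2

section main

/-- **Fibrewise injectivity criterion at a prime (Stacks 046Y / 00MD), finitely presented case.** -/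
theorem fp_inj_flat {R S : Type u} [CommRing R] [CommRing S] [Algebra R S]
    [Algebra.FinitePresentation R S]
    {M N : Type u} [AddCommGroup M] [Module S M] [Module R M] [IsScalarTower R S M]
    [Module.FinitePresentation S M]
    [AddCommGroup N] [Module S N] [Module R N] [IsScalarTower R S N]
    [Module.FinitePresentation S N]
    (u : M →ₗ[S] N) (q : Ideal S) [q.IsPrime]
    (hN : Module.Flat R (LocalizedModule q.primeCompl N))
    (hfib : ∀ x : M, u x ∈ (q.comap (algebraMap R S)) • (⊤ : Submodule R N) →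
      ∃ t ∉ q, t • x ∈ (q.comap (algebraMap R S)) • (⊤ : Submodule R M)) :
    (∀ x : M, u x = 0 → ∃ t ∉ q, t • x = 0) ∧
      Module.Flat R (LocalizedModule q.primeCompl (N ⧸ LinearMap.range u)) := by
  constructor
  · intro x hx
    obtain ⟨t, ht, htx⟩ := fp_ui' u q hN hfib ⊥ x (by rw [hx]; exact Submodule.zero_mem _)
    refine ⟨t, ht, ?_⟩
    have : (⊥ : Ideal R) • (⊤ : Submodule R M) = ⊥ := Submodule.bot_smul _
    rw [this] at htx
    exact htx
  · exact flat_localized_quotient_of_ui u q hN (fun 𝔞 x hx => fp_ui' u q hN hfib 𝔞 x hx)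

end main

end Groth.Agent.Lib.Helper55.FL
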