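import Mathlib
import Groth.Agent.Lib.Helper55.FL.QuotBC

/-!
# Descending a finitely presented module along a localization
-/

namespace Groth.Agent.Lib.Helper55.FL

open TensorProduct Pointwise

universe u

theorem exists_fp_model_of_isLocalization {S' S : Type u} [CommRing S'] [CommRing S] [Algebra S' S]
    (T : Submonoid S') [IsLocalization T S] (M : Type u) [AddCommGroup M] [Module S M]
    [Module S' M] [IsScalarTower S' S M] [Module.FinitePresentation S M] :
    ∃ (M' : Type u) (_ : AddCommGroup M') (_ : Module S' M') (f : M' →ₗ[S'] M),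
      Module.FinitePresentation S' M' ∧ IsLocalizedModule T f := by
  classical
  obtain ⟨n, K, e, hK⟩ := Module.FinitePresentation.exists_fin S M
  obtain ⟨s, hs⟩ := hK
  obtain ⟨b, hb⟩ := IsLocalization.exist_integer_multiples_of_finite T
    (fun (vi : s × Fin n) => (vi.1 : Fin n → S) vi.2)
  choose c hc using hb
  let γ : s → (Fin n → S') := fun v i => c (v, i)
  have hγ : ∀ v : s, mapFun S' S n (γ v) = (algebraMap S' S b) • (v : Fin n → S) := by
    intro v
    ext i
    rw [mapFun_apply, Pi.smul_apply, hc (v, i), Algebra.smul_def]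
    rfl
  have hunit : IsUnit (algebraMap S' S b) := IsLocalization.map_units S b
  have hspan : spanB S' S n (Set.range γ) = K := by
    rw [← hs, spanB]
    have : mapFun S' S n '' Set.range γ = (algebraMap S' S b) • (s : Set (Fin n → S)) := by
      ext w
      constructor
      · rintro ⟨_, ⟨v, rfl⟩, rfl⟩
        rw [hγ]
        exact Set.smul_mem_smul_set v.2
      · rintro ⟨v, hv, rfl⟩
        exact ⟨γ ⟨v, hv⟩, ⟨⟨v, hv⟩, rfl⟩, hγ ⟨v, hv⟩⟩
    rw [this, Submodule.span_smul_eq_of_isUnit _ _ hunit]
  let E : S ⊗[S'] ((Fin n → S') ⧸ Submodule.span S' (Set.range γ)) ≃ₗ[S] M :=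
    (isBaseChange_quotMap S' S n (Set.range γ)).equiv ≪≫ₗ
      (Submodule.quotEquivOfEq _ _ hspan) ≪≫ₗ e.symm
  let f : ((Fin n → S') ⧸ Submodule.span S' (Set.range γ)) →ₗ[S'] M :=
    ((e.symm.toLinearMap ∘ₗ (Submodule.quotEquivOfEq _ _ hspan).toLinearMap).restrictScalars S') ∘ₗ
      quotMap S' S n (Set.range γ)
  have hf : IsBaseChange S f := by
    refine IsBaseChange.of_equiv E ?_
    intro x
    simp only [E, f, LinearEquiv.trans_apply, IsBaseChange.equiv_tmul, one_smul,
      LinearMap.coe_comp, LinearMap.coe_restrictScalars, LinearEquiv.coe_coe, Function.comp_apply]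
  refine ⟨_, inferInstance, inferInstance, f, ?_, ?_⟩
  · refine Module.finitePresentation_of_surjective
      (Submodule.span S' (Set.range γ)).mkQ (Submodule.mkQ_surjective _) ?_
    rw [Submodule.ker_mkQ]
    exact Submodule.fg_span (Set.finite_range γ)
  · exact (isLocalizedModule_iff_isBaseChange T S f).2 hf

end Groth.Agent.Lib.Helper55.FL
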