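import Mathlib
import Groth.Agent.Lib.Helper55.FL.FlatOfUI
import Groth.Agent.Lib.Helper55.FL.LocModel

/-!
# Fibrewise injectivity criterion for essentially finitely presented local algebras
-/

namespace Groth.Agent.Lib.Helper55.FL

open TensorProduct

universe u

set_option linter.style.haveILetI false

section lemmas

variable {R S : Type*} [CommRing R] [CommRing S] [Algebra R S]
  {Y : Type*} [AddCommGroup Y] [Module S Y] [Module R Y] [IsScalarTower R S Y]

theorem mem_smul_top_map_iff (I : Ideal R) (y : Y) :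
    y ∈ (I.map (algebraMap R S)) • (⊤ : Submodule S Y) ↔ y ∈ I • (⊤ : Submodule R Y) := by
  constructor
  · intro hy
    refine Submodule.smul_induction_on hy ?_ ?_
    · intro a ha n _
      refine Submodule.span_induction ?_ ?_ ?_ ?_ ha
      · rintro _ ⟨r, hr, rfl⟩
        rw [algebraMap_smul]
        exact Submodule.smul_mem_smul hr Submodule.mem_top
      · rw [zero_smul]; exact Submodule.zero_mem _
      · intro a b _ _ ha hb
        rw [add_smul]; exact add_mem ha hb
      · intro c a _ ha
        rw [smul_eq_mul, mul_smul]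
        exact smul_mem_smul_top' I c ha
    · intro a b ha hb
      exact add_mem ha hb
  · intro hy
    refine Submodule.smul_induction_on hy ?_ ?_
    · intro a ha n _
      rw [← algebraMap_smul S a n]
      exact Submodule.smul_mem_smul (Ideal.mem_map_of_mem _ ha) Submodule.mem_top
    · intro a b ha hb
      exact add_mem ha hb

end lemmas

section loc

variable {R S' : Type*} [CommRing R] [CommRing S'] [Algebra R S']
  {Y' Y : Type*} [AddCommGroup Y'] [Module S' Y'] [Module R Y'] [IsScalarTower R S' Y']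
  [AddCommGroup Y] [Module S' Y] [Module R Y] [IsScalarTower R S' Y]

theorem map_mem_smul_top' (f : Y' →ₗ[S'] Y) (𝔞 : Ideal R) {y : Y'}
    (hy : y ∈ 𝔞 • (⊤ : Submodule R Y')) : f y ∈ 𝔞 • (⊤ : Submodule R Y) := by
  refine Submodule.smul_induction_on hy ?_ ?_
  · intro a ha n _
    rw [← algebraMap_smul S' a n, map_smul, algebraMap_smul]
    exact Submodule.smul_mem_smul ha Submodule.mem_top
  · intro a b ha hb
    rw [map_add]
    exact add_mem ha hb

theorem exists_smul_mem_of_map_mem (T : Submonoid S') (f : Y' →ₗ[S'] Y) [IsLocalizedModule T f]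
    (𝔞 : Ideal R) {y' : Y'} (hy : f y' ∈ 𝔞 • (⊤ : Submodule R Y)) :
    ∃ t ∈ T, t • y' ∈ 𝔞 • (⊤ : Submodule R Y') := by
  have key : ∀ y ∈ 𝔞 • (⊤ : Submodule R Y),
      ∃ w ∈ 𝔞 • (⊤ : Submodule R Y'), ∃ s : T, (s : S') • y = f w := by
    intro y hy
    refine Submodule.smul_induction_on hy ?_ ?_
    · intro a ha n _
      obtain ⟨⟨m, s⟩, hms⟩ := IsLocalizedModule.surj T f n
      refine ⟨a • m, Submodule.smul_mem_smul ha Submodule.mem_top, s, ?_⟩
      have h1 : (s : S') • n = f m := hms
      rw [smul_comm, h1, ← algebraMap_smul S' a m, map_smul, algebraMap_smul]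
    · rintro y₁ y₂ ⟨w₁, hw₁, s₁, h₁⟩ ⟨w₂, hw₂, s₂, h₂⟩
      refine ⟨(s₂ : S') • w₁ + (s₁ : S') • w₂,
        add_mem (smul_mem_smul_top' _ _ hw₁) (smul_mem_smul_top' _ _ hw₂), s₁ * s₂, ?_⟩
      rw [Submonoid.coe_mul, smul_add, map_add, map_smul, map_smul, ← h₁, ← h₂, mul_smul,
        mul_comm, mul_smul, smul_comm (s₁ : S') (s₂ : S') y₁, smul_comm (s₂ : S') (s₁ : S') y₂]
  obtain ⟨w, hw, s, hws⟩ := key _ hy
  rw [← map_smul] at hws
  obtain ⟨c, hc⟩ := IsLocalizedModule.exists_of_eq (S := T) hws
  refine ⟨(c : S') * (s : S'), T.mul_mem c.2 s.2, ?_⟩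
  rw [mul_smul]
  have : (c : S') • (s : S') • y' = (c : S') • w := hc
  rw [this]
  exact smul_mem_smul_top' _ _ hw

end loc

section unitcancel

variable {R S : Type*} [CommRing R] [CommRing S] [Algebra R S]
  {Y : Type*} [AddCommGroup Y] [Module S Y] [Module R Y] [IsScalarTower R S Y]

theorem mem_of_unit_smul_mem (I : Ideal R) (v : S) (hv : IsUnit v) {y : Y}
    (h : v • y ∈ I • (⊤ : Submodule R Y)) : y ∈ I • (⊤ : Submodule R Y) := by
  obtain ⟨w, rfl⟩ := hv
  have : y = ((w⁻¹ : Sˣ) : S) • ((w : S) • y) := by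
    rw [smul_smul, Units.inv_mul, one_smul]
  rw [this]
  exact smul_mem_smul_top' I _ h

end unitcancel

section main

/-- **Fibrewise injectivity criterion, essentially finitely presented local case**, in the
universally injective form. -/
theorem ess_ui {R S' S : Type u} [CommRing R] [CommRing S'] [CommRing S] [Algebra R S']
    [Algebra S' S] [Algebra R S] [IsScalarTower R S' S]
    [Algebra.FinitePresentation R S'] (q' : Ideal S') [q'.IsPrime] [IsLocalization.AtPrime S q']
    {M N : Type u} [AddCommGroup M] [Module S M] [Module R M] [IsScalarTower R S M]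
    [Module.FinitePresentation S M]
    [AddCommGroup N] [Module S N] [Module R N] [IsScalarTower R S N]
    [Module.FinitePresentation S N] [Module.Flat R N]
    (u : M →ₗ[S] N)
    (hu : ∀ x : M, u x ∈ (q'.comap (algebraMap R S')) • (⊤ : Submodule R N) →
      x ∈ (q'.comap (algebraMap R S')) • (⊤ : Submodule R M))
    (𝔞 : Ideal R) (x : M) (hx : u x ∈ 𝔞 • (⊤ : Submodule R N)) :
    x ∈ 𝔞 • (⊤ : Submodule R M) := by
  classical
  letI : Module S' M := Module.compHom M (algebraMap S' S)
  haveI : IsScalarTower S' S M := IsScalarTower.of_algebraMap_smul (fun _ _ => rfl)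
  letI : Module S' N := Module.compHom N (algebraMap S' S)
  haveI : IsScalarTower S' S N := IsScalarTower.of_algebraMap_smul (fun _ _ => rfl)
  haveI : IsScalarTower R S' M := IsScalarTower.of_algebraMap_smul (fun r y => by
    rw [← algebraMap_smul S (algebraMap R S' r) y, ← IsScalarTower.algebraMap_apply,
      algebraMap_smul])
  haveI : IsScalarTower R S' N := IsScalarTower.of_algebraMap_smul (fun r y => by
    rw [← algebraMap_smul S (algebraMap R S' r) y, ← IsScalarTower.algebraMap_apply,
      algebraMap_smul])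
  obtain ⟨M', _, _, fM, hM'fp, hfM⟩ := exists_fp_model_of_isLocalization (S := S) q'.primeCompl M
  obtain ⟨N', _, _, fN, hN'fp, hfN⟩ := exists_fp_model_of_isLocalization (S := S) q'.primeCompl N
  letI : Module R M' := Module.compHom M' (algebraMap R S')
  haveI : IsScalarTower R S' M' := IsScalarTower.of_algebraMap_smul (fun _ _ => rfl)
  letI : Module R N' := Module.compHom N' (algebraMap R S')
  haveI : IsScalarTower R S' N' := IsScalarTower.of_algebraMap_smul (fun _ _ => rfl)
  obtain ⟨u', s, hu'⟩ := Module.FinitePresentation.exists_lift_of_isLocalizedModule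
    q'.primeCompl fN ((u.restrictScalars S').comp fM)
  have hcomm : ∀ x', fN (u' x') = algebraMap S' S (s : S') • u (fM x') := by
    intro x'
    have := LinearMap.congr_fun hu' x'
    simp only [LinearMap.coe_comp, Function.comp_apply, LinearMap.smul_apply,
      LinearMap.coe_restrictScalars] at this
    rw [this]
    rfl
  have hunit : ∀ t ∈ q'.primeCompl, IsUnit (algebraMap S' S t) :=
    fun t ht => IsLocalization.map_units S ⟨t, ht⟩
  have hN'flat : Module.Flat R (LocalizedModule q'.primeCompl N') :=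
    Module.Flat.of_linearEquiv ((IsLocalizedModule.iso q'.primeCompl fN).restrictScalars R)
  have hfib' : ∀ x' : M', u' x' ∈ (q'.comap (algebraMap R S')) • (⊤ : Submodule R N') →
      ∃ t ∉ q', t • x' ∈ (q'.comap (algebraMap R S')) • (⊤ : Submodule R M') := by
    intro x' hx'
    have h1 := map_mem_smul_top' fN _ hx'
    rw [hcomm] at h1
    have h2 := mem_of_unit_smul_mem _ _ (hunit s s.2) h1
    have h3 := hu _ h2
    obtain ⟨t, ht, h4⟩ := exists_smul_mem_of_map_mem q'.primeCompl fM _ h3
    exact ⟨t, ht, h4⟩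
  obtain ⟨⟨x', t⟩, hxt⟩ := IsLocalizedModule.surj q'.primeCompl fM x
  have hxt' : algebraMap S' S (t : S') • x = fM x' := hxt
  have h5 : fN (u' x') ∈ 𝔞 • (⊤ : Submodule R N) := by
    rw [hcomm, ← hxt', map_smul]
    exact smul_mem_smul_top' 𝔞 _ (smul_mem_smul_top' 𝔞 _ hx)
  obtain ⟨c, hc, h6⟩ := exists_smul_mem_of_map_mem q'.primeCompl fN 𝔞 h5
  have h7 : u' (c • x') ∈ 𝔞 • (⊤ : Submodule R N') := by rwa [map_smul]
  obtain ⟨t', ht', h8⟩ := fp_ui' u' q' hN'flat hfib' 𝔞 _ h7
  have h9 := map_mem_smul_top' fM 𝔞 h8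
  rw [map_smul, map_smul, ← hxt'] at h9
  have h10 : algebraMap S' S t' • algebraMap S' S c • algebraMap S' S (t : S') • x ∈
      𝔞 • (⊤ : Submodule R M) := h9
  exact mem_of_unit_smul_mem _ _ (hunit t t.2) (mem_of_unit_smul_mem _ _ (hunit c hc)
    (mem_of_unit_smul_mem _ _ (hunit t' ht') h10))

end main

section localcase

open IsLocalRing in
/-- Local form: `R → S` a local homomorphism, `S` a localization of a finitely presented algebra. -/
theorem ess_ui_local {R S : Type u} [CommRing R] [CommRing S] [IsLocalRing R] [IsLocalRing S]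
    [Algebra R S] [IsLocalHom (algebraMap R S)]
    (hS : ∃ (S₀ : Type u) (_ : CommRing S₀) (_ : Algebra R S₀) (_ : Algebra S₀ S)
      (_ : IsScalarTower R S₀ S) (T : Submonoid S₀),
      Algebra.FinitePresentation R S₀ ∧ IsLocalization T S)
    {M N : Type u} [AddCommGroup M] [Module S M] [Module R M] [IsScalarTower R S M]
    [Module.FinitePresentation S M]
    [AddCommGroup N] [Module S N] [Module R N] [IsScalarTower R S N]
    [Module.FinitePresentation S N] [Module.Flat R N]
    (u : M →ₗ[S] N)
    (hu : ∀ x : M, u x ∈ (maximalIdeal R) • (⊤ : Submodule R N) →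
      x ∈ (maximalIdeal R) • (⊤ : Submodule R M))
    (𝔞 : Ideal R) (x : M) (hx : u x ∈ 𝔞 • (⊤ : Submodule R N)) :
    x ∈ 𝔞 • (⊤ : Submodule R M) := by
  classical
  obtain ⟨S', _, _, _, _, T, hfp, hloc⟩ := hS
  have hprime : ((maximalIdeal S).comap (algebraMap S' S)).IsPrime := Ideal.comap_isPrime _ _
  have hAt : IsLocalization.AtPrime S ((maximalIdeal S).comap (algebraMap S' S)) := by
    refine IsLocalization.of_le T _ ?_ ?_
    · intro t ht hmem
      exact (mem_maximalIdeal _).1 hmem (IsLocalization.map_units S ⟨t, ht⟩)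
    · intro r hr
      by_contra h
      exact hr ((mem_maximalIdeal _).2 h)
  have hp : ((maximalIdeal S).comap (algebraMap S' S)).comap (algebraMap R S') =
      maximalIdeal R := by
    rw [Ideal.comap_comap, ← IsScalarTower.algebraMap_eq]
    exact ((local_hom_TFAE (algebraMap R S)).out 0 4).1 ‹IsLocalHom (algebraMap R S)›
  have hu' : ∀ x : M, u x ∈ (((maximalIdeal S).comap (algebraMap S' S)).comap
      (algebraMap R S')) • (⊤ : Submodule R N) →
      x ∈ (((maximalIdeal S).comap (algebraMap S' S)).comap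
      (algebraMap R S')) • (⊤ : Submodule R M) := by
    rw [hp]
    exact hu
  exact ess_ui ((maximalIdeal S).comap (algebraMap S' S)) u hu' 𝔞 x hx

end localcase

end Groth.Agent.Lib.Helper55.FL
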