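import Mathlib
import Groth.Agent.Lib.Helper55.FL.FlatOfUI
import Groth.Agent.Lib.Helper55.FL.EssFp
import Groth.Agent.Lib.Helper24.IdeallySep
import Groth.Agent.Lib.Helper54.CPFModNoeth

/-!
# Fibre criterion for modules, part I: vanishing of `Tor_1(A/𝔪, M)` in the form `nu` injective

* `mem_smul_top_of_nu_injective` (T): `K → F → M → 0` exact, `I ⊗ M → M` injective
  ⇒ `K ∩ I F ⊆ I K`.
* `nu_injective_of_mem_smul_top` (T'): converse when `F` is flat.
* `rTensor_injective_of_fibre`: `I ⊗ M → M` injective and `M / I M` flat over `A / I`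
  ⇒ `𝔞 ⊗ M → M` injective for `𝔞 ⊇ I`.
* `nu_maximalIdeal_injective_of_fibre`: local homomorphism `R → A`, `M` flat over `R`,
  `M / 𝔪_R M` flat over `A / 𝔪_R A` ⇒ `𝔪_A ⊗ M → M` injective.
* `nu_injective_of_localization`: transfer from `A = (A₀)_p` to `A₀`.
-/

set_option autoImplicit false
set_option linter.style.haveILetI false

namespace Groth.Agent.Lib.Helper55.FL

open TensorProduct

universe u

section T

variable {R : Type*} [CommRing R] (I : Ideal R)
  {K F M : Type*} [AddCommGroup K] [Module R K] [AddCommGroup F] [Module R F]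
  [AddCommGroup M] [Module R M] (ι : K →ₗ[R] F) (π : F →ₗ[R] M)

theorem mem_smul_top_of_nu_injective (hι : Function.Injective ι) (hex : Function.Exact ι π)
    (hπ : Function.Surjective π) (h : Function.Injective (nu I M)) (k : K)
    (hk : ι k ∈ I • (⊤ : Submodule R F)) : k ∈ I • (⊤ : Submodule R K) := by
  obtain ⟨z, hz⟩ := exists_nu_eq I hk
  have h1 : nu I M (LinearMap.rTensor I π z) = 0 := by
    rw [nu_natural, hz]
    exact hex.apply_apply_eq_zero k
  have h2 : LinearMap.rTensor I π z = 0 := h (by rw [h1, map_zero])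
  have hex' : Function.Exact (LinearMap.rTensor I ι) (LinearMap.rTensor I π) :=
    rTensor_exact I hex hπ
  obtain ⟨w, hw⟩ := (hex' z).1 h2
  have h3 : ι (nu I K w) = ι k := by
    rw [← nu_natural, hw, hz]
  rw [← hι h3]
  exact nu_mem I w

theorem nu_injective_of_mem_smul_top [Module.Flat R F] (hex : Function.Exact ι π)
    (hπ : Function.Surjective π)
    (h : ∀ k : K, ι k ∈ I • (⊤ : Submodule R F) → k ∈ I • (⊤ : Submodule R K)) :
    Function.Injective (nu I M) := by
  rw [injective_iff_map_eq_zero]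
  intro z hz
  obtain ⟨z', rfl⟩ := LinearMap.rTensor_surjective I hπ z
  rw [nu_natural] at hz
  obtain ⟨k, hk⟩ := (hex (nu I F z')).1 hz
  have hk' : k ∈ I • (⊤ : Submodule R K) := h k (hk ▸ nu_mem I z')
  obtain ⟨w, hw⟩ := exists_nu_eq I hk'
  have h3 : LinearMap.rTensor I ι w = z' := by
    apply nu_injective_of_flat I
    rw [nu_natural, hw, hk]
  rw [← h3, ← LinearMap.comp_apply, ← LinearMap.rTensor_comp]
  have : π ∘ₗ ι = 0 := hex.linearMap_comp_eq_zero
  rw [this, LinearMap.rTensor_zero, LinearMap.zero_apply]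

theorem nu_injective_iff_rTensor (M : Type*) [AddCommGroup M] [Module R M] :
    Function.Injective (nu I M) ↔ Function.Injective (LinearMap.rTensor M I.subtype) := by
  rw [← LinearMap.lTensor_inj_iff_rTensor_inj]
  unfold nu
  rw [LinearMap.coe_comp]
  constructor
  · intro h
    exact Function.Injective.of_comp h
  · intro h
    exact (TensorProduct.rid R M).injective.comp h

end T

section fibre

variable {A : Type u} [CommRing A] (I 𝔞 : Ideal A) (M : Type u) [AddCommGroup M] [Module A M]

theorem rTensor_injective_of_fibre (hI : I ≤ 𝔞)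
    [Module.Flat (A ⧸ I) ((A ⧸ I) ⊗[A] M)]
    (h0 : Function.Injective (LinearMap.rTensor M I.subtype)) :
    Function.Injective (LinearMap.rTensor M 𝔞.subtype) := by
  let inc : I →ₗ[A] 𝔞 := Submodule.inclusion hI
  let J' : Submodule A 𝔞 := Submodule.comap 𝔞.subtype I
  let q : 𝔞 →ₗ[A] (𝔞 ⧸ J') := J'.mkQ
  have hle : J' ≤ LinearMap.ker ((Submodule.mkQ I) ∘ₗ 𝔞.subtype) := by
    intro x hx
    rw [LinearMap.mem_ker, LinearMap.comp_apply, Submodule.mkQ_apply,
      Submodule.Quotient.mk_eq_zero]
    exact hx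
  let f : (𝔞 ⧸ J') →ₗ[A] (A ⧸ I) := J'.liftQ ((Submodule.mkQ I) ∘ₗ 𝔞.subtype) hle
  have hf : Function.Injective f := by
    rw [← LinearMap.ker_eq_bot]
    apply Submodule.ker_liftQ_eq_bot
    intro x hx
    rw [LinearMap.mem_ker, LinearMap.comp_apply, Submodule.mkQ_apply,
      Submodule.Quotient.mk_eq_zero] at hx
    exact hx
  have hG : ∀ a ∈ I, ∀ g : 𝔞 ⧸ J', a • g = 0 := by
    intro a ha g
    obtain ⟨x, rfl⟩ := Submodule.Quotient.mk_surjective _ g
    rw [← Submodule.Quotient.mk_smul, Submodule.Quotient.mk_eq_zero]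
    show ((a • x : 𝔞) : A) ∈ I
    rw [Submodule.coe_smul, smul_eq_mul]
    exact I.mul_mem_right _ ha
  have hG' : ∀ a ∈ I, ∀ g : A ⧸ I, a • g = 0 := by
    intro a ha g
    obtain ⟨x, rfl⟩ := Submodule.Quotient.mk_surjective _ g
    rw [← Submodule.Quotient.mk_smul, Submodule.Quotient.mk_eq_zero, smul_eq_mul]
    exact I.mul_mem_right _ ha
  have hfM : Function.Injective (f.rTensor M) :=
    Groth.Agent.Lib.Helper24.IdeallySep.rTensor_injective_of_flat_quotient I M f hf hG hG'
  have hexact : Function.Exact inc q := by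
    rw [LinearMap.exact_iff, Submodule.ker_mkQ, Submodule.range_inclusion]
  have hex' : Function.Exact (inc.rTensor M) (q.rTensor M) :=
    rTensor_exact M hexact (Submodule.mkQ_surjective _)
  have hfq : f ∘ₗ q = (Submodule.mkQ I) ∘ₗ 𝔞.subtype := Submodule.liftQ_mkQ _ _ _
  have hsub : 𝔞.subtype ∘ₗ inc = I.subtype := Submodule.subtype_comp_inclusion _ _ hI
  rw [injective_iff_map_eq_zero]
  intro z hz
  have h1 : f.rTensor M (q.rTensor M z) = 0 := by
    rw [← LinearMap.comp_apply, ← LinearMap.rTensor_comp, hfq, LinearMap.rTensor_comp,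
      LinearMap.comp_apply, hz, map_zero]
  have h2 : q.rTensor M z = 0 := hfM (by rw [h1, map_zero])
  obtain ⟨z', rfl⟩ := (hex' z).1 h2
  have h3 : LinearMap.rTensor M I.subtype z' = 0 := by
    rw [← hsub, LinearMap.rTensor_comp, LinearMap.comp_apply]
    exact hz
  have h4 : z' = 0 := h0 (by rw [h3, map_zero])
  rw [h4, map_zero]

end fibre

section loc

open IsLocalRing

theorem nu_maximalIdeal_injective_of_fibre {R A : Type u} [CommRing R] [CommRing A] [Algebra R A]
    [IsLocalRing R] [IsLocalRing A] [IsLocalHom (algebraMap R A)]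
    (M : Type u) [AddCommGroup M] [Module A M] [Module R M] [IsScalarTower R A M]
    [Module.Flat R M]
    (hfib : Module.Flat (A ⧸ (maximalIdeal R).map (algebraMap R A))
      (M ⧸ ((maximalIdeal R).map (algebraMap R A)) • (⊤ : Submodule A M))) :
    Function.Injective (nu (maximalIdeal A) M) := by
  rw [nu_injective_iff_rTensor]
  haveI : Module.Flat (A ⧸ (maximalIdeal R).map (algebraMap R A))
      ((A ⧸ (maximalIdeal R).map (algebraMap R A)) ⊗[A] M) :=
    (Groth.Agent.Lib.Helper54.CPF.flat_quot_iff _).1 hfib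
  exact rTensor_injective_of_fibre ((maximalIdeal R).map (algebraMap R A)) (maximalIdeal A) M
    Groth.Agent.Lib.Helper6.LocalFlat.map_maximalIdeal_le
    (Groth.Agent.Lib.Helper6.LocalFlat.rTensor_map_subtype_injective (maximalIdeal R))

end loc

section bridge

open IsLocalRing

theorem nu_injective_of_localization {A₀ A : Type u} [CommRing A₀] [CommRing A] [Algebra A₀ A]
    (p : Ideal A₀) [p.IsPrime] [IsLocalization.AtPrime A p] [IsLocalRing A]
    (M : Type u) [AddCommGroup M] [Module A M] [Module A₀ M] [IsScalarTower A₀ A M]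
    (h : Function.Injective (nu (maximalIdeal A) M)) :
    Function.Injective (nu p M) := by
  let F := M →₀ A
  let π : F →ₗ[A] M := Finsupp.linearCombination A id
  have hπ : Function.Surjective π := Finsupp.linearCombination_id_surjective A M
  let K := LinearMap.ker π
  let ι : K →ₗ[A] F := K.subtype
  have hex : Function.Exact ι π := LinearMap.exact_subtype_ker_map π
  haveI : Module.Flat A₀ A := IsLocalization.flat A p.primeCompl
  haveI : Module.Flat A₀ F := Module.Flat.trans A₀ A F
  have hmap : p.map (algebraMap A₀ A) = maximalIdeal A :=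
    IsLocalization.AtPrime.map_eq_maximalIdeal p A
  have hex' : Function.Exact (ι.restrictScalars A₀) (π.restrictScalars A₀) := hex
  have hπ' : Function.Surjective (π.restrictScalars A₀) := hπ
  refine nu_injective_of_mem_smul_top (R := A₀) (K := K) (F := F) (M := M) p
    (ι.restrictScalars A₀) (π.restrictScalars A₀) hex' hπ' ?_
  intro k hk
  have hk1 : ι k ∈ (maximalIdeal A) • (⊤ : Submodule A F) := by
    rw [← hmap, mem_smul_top_map_iff]
    exact hk
  have hk2 := mem_smul_top_of_nu_injective (maximalIdeal A) ι π (Submodule.injective_subtype K)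
    hex hπ h k hk1
  rw [← hmap] at hk2
  exact (mem_smul_top_map_iff (S := A) (Y := K) p k).1 hk2

end bridge

end Groth.Agent.Lib.Helper55.FL
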