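import Mathlib
import Groth.Agent.Lib.Helper55.FL.FibreK2

/-!
# Regular elements on fibres: `a x ∈ p M ⇒ r x ∈ p M` for some `r ∉ p`
-/

namespace Groth.Agent.Lib.Helper55.FL

open TensorProduct

universe u

set_option linter.style.haveILetI false

attribute [local instance] Algebra.TensorProduct.rightAlgebra

theorem isNoetherianRing_fibre {A B : Type u} [CommRing A] [CommRing B] [Algebra A B]
    [Algebra.FiniteType A B] (p : Ideal A) [p.IsPrime] :
    IsNoetherianRing (B ⊗[A] p.ResidueField) := by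
  haveI : IsNoetherianRing (p.ResidueField ⊗[A] B) :=
    Algebra.FiniteType.isNoetherianRing p.ResidueField (p.ResidueField ⊗[A] B)
  exact isNoetherianRing_of_ringEquiv (p.ResidueField ⊗[A] B)
    (Algebra.TensorProduct.comm A p.ResidueField B).toRingEquiv

theorem fibre_one_tmul_eq_zero {A B M : Type u} [CommRing A] [CommRing B] [Algebra A B]
    [AddCommGroup M] [Module B M] [Module A M] [IsScalarTower A B M]
    (p : Ideal A) [p.IsPrime] {y : M} (hy : y ∈ p • (⊤ : Submodule A M)) :
    (1 : B ⊗[A] p.ResidueField) ⊗ₜ[B] y = 0 := by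
  refine Submodule.smul_induction_on hy ?_ ?_
  · intro r hr n _
    rw [← algebraMap_smul B r n, ← TensorProduct.smul_tmul, Algebra.smul_def, mul_one,
      Algebra.TensorProduct.algebraMap_apply, Algebra.algebraMap_self, RingHom.id_apply]
    have : (algebraMap A B r) ⊗ₜ[A] (1 : p.ResidueField) = (0 : B ⊗[A] p.ResidueField) := by
      rw [Algebra.algebraMap_eq_smul_one, TensorProduct.smul_tmul, Algebra.smul_def, mul_one,
        (Ideal.algebraMap_residueField_eq_zero (I := p)).2 hr, TensorProduct.tmul_zero]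
    rw [this, TensorProduct.zero_tmul]
  · intro x y hx hy
    rw [TensorProduct.tmul_add, hx, hy, add_zero]

theorem fibre_regular_key {A B M : Type u} [CommRing A] [CommRing B] [Algebra A B]
    [Algebra.FiniteType A B]
    [AddCommGroup M] [Module B M] [Module A M] [IsScalarTower A B M] [Module.Finite B M]
    (p : Ideal A) [p.IsPrime]
    (hS1 : associatedPrimes (B ⊗[A] p.ResidueField) ((B ⊗[A] p.ResidueField) ⊗[B] M) ⊆
      (Module.annihilator (B ⊗[A] p.ResidueField)
        ((B ⊗[A] p.ResidueField) ⊗[B] M)).minimalPrimes)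
    (a : B)
    (ha : ∀ P ∈ (Module.annihilator (B ⊗[A] p.ResidueField)
        ((B ⊗[A] p.ResidueField) ⊗[B] M)).minimalPrimes,
        a ⊗ₜ[A] (1 : p.ResidueField) ∉ P)
    (y : M) (hy : a • y ∈ p • (⊤ : Submodule A M)) :
    ∃ r : A, r ∉ p ∧ r • y ∈ p • (⊤ : Submodule A M) := by
  haveI := isNoetherianRing_fibre (B := B) p
  have hreg : IsSMulRegular ((B ⊗[A] p.ResidueField) ⊗[B] M) (a ⊗ₜ[A] (1 : p.ResidueField)) := by
    by_contra hnot
    have hmem : (a ⊗ₜ[A] (1 : p.ResidueField)) ∈
        ({ r : B ⊗[A] p.ResidueField |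
          IsSMulRegular ((B ⊗[A] p.ResidueField) ⊗[B] M) r }ᶜ : Set _) := hnot
    have hU := biUnion_associatedPrimes_eq_compl_regular (B ⊗[A] p.ResidueField)
      ((B ⊗[A] p.ResidueField) ⊗[B] M)
    rw [← hU] at hmem
    obtain ⟨P, hP, haP⟩ := Set.mem_iUnion₂.1 hmem
    exact ha P (hS1 hP) haP
  have h1 : (a ⊗ₜ[A] (1 : p.ResidueField)) • ((1 : B ⊗[A] p.ResidueField) ⊗ₜ[B] y) = 0 := by
    rw [TensorProduct.smul_tmul', smul_eq_mul, mul_one]
    have : a ⊗ₜ[A] (1 : p.ResidueField) = a • (1 : B ⊗[A] p.ResidueField) := by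
      rw [Algebra.TensorProduct.one_def, TensorProduct.smul_tmul', smul_eq_mul, mul_one]
    rw [this, TensorProduct.smul_tmul]
    exact fibre_one_tmul_eq_zero p hy
  have h2 : (1 : B ⊗[A] p.ResidueField) ⊗ₜ[B] y = 0 := by
    have := hreg (h1.trans (smul_zero _).symm)
    exact this
  have h3 : (1 : p.ResidueField) ⊗ₜ[A] y = 0 := by
    have := congrArg (Algebra.IsPushout.cancelBaseChange A p.ResidueField B
      (B ⊗[A] p.ResidueField) M) h2
    rwa [Algebra.IsPushout.cancelBaseChange_tmul, map_zero] at this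
  exact exists_smul_mem_of_one_tmul_eq_zero p h3

end Groth.Agent.Lib.Helper55.FL
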