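import Mathlib
import Groth.Agent.Lib.Helper55.FL.FlatOfUI

/-!
# Universally injective maps: pure maps and localization maps
-/

namespace Groth.Agent.Lib.Helper55.FL

open TensorProduct

universe u

section pure

variable {R : Type*} [CommRing R] {M N : Type*} [AddCommGroup M] [Module R M]
  [AddCommGroup N] [Module R N]

/-- A pure map into a flat module is universally injective. -/
theorem lTensor_injective_of_ui [Module.Flat R N] (u : M →ₗ[R] N)
    (h : ∀ (𝔞 : Ideal R) (x : M), u x ∈ 𝔞 • (⊤ : Submodule R N) →
      x ∈ 𝔞 • (⊤ : Submodule R M))
    (Q : Type*) [AddCommGroup Q] [Module R Q] : Function.Injective (u.lTensor Q) := by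
  have : Module.Flat R (N ⧸ LinearMap.range u) := flat_quotient_of_ui u h
  have hinj : Function.Injective u := by
    rw [injective_iff_map_eq_zero]
    intro x hx
    have := h ⊥ x (by rw [hx]; exact zero_mem _)
    rw [Submodule.bot_smul] at this
    exact this
  exact LinearMap.lTensor_injective_of_exact_of_flat (LinearMap.range u).mkQ
    (Submodule.mkQ_surjective _) u hinj (LinearMap.exact_map_mkQ_range u) Q

end pure

section loc

variable {R S : Type*} [CommRing R] [CommRing S] [Algebra R S]
  {N : Type*} [AddCommGroup N] [Module S N] [Module R N] [IsScalarTower R S N]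

theorem lTensor_mkLinearMap_injective (T : Submonoid S)
    (Q : Type*) [AddCommGroup Q] [Module R Q]
    (h : ∀ t ∈ T, Function.Injective (((LinearMap.lsmul S N t).restrictScalars R).lTensor Q)) :
    Function.Injective (((LocalizedModule.mkLinearMap T N).restrictScalars R).lTensor Q) := by
  rw [injective_iff_map_eq_zero]
  intro z hz
  have h1 : TensorProduct.AlgebraTensorModule.rTensor R Q (LocalizedModule.mkLinearMap T N)
      (TensorProduct.comm R Q N z) = 0 := by
    have : ∀ z' : Q ⊗[R] N,
        TensorProduct.AlgebraTensorModule.rTensor R Q (LocalizedModule.mkLinearMap T N)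
          (TensorProduct.comm R Q N z') =
        TensorProduct.comm R Q (LocalizedModule T N)
          (((LocalizedModule.mkLinearMap T N).restrictScalars R).lTensor Q z') := by
      intro z'
      induction z' using TensorProduct.induction_on with
      | zero => simp
      | tmul a b => simp
      | add a b ha hb => simp only [map_add, ha, hb]
    rw [this, hz, map_zero]
  obtain ⟨t, ht⟩ := (IsLocalizedModule.eq_zero_iff T
    (TensorProduct.AlgebraTensorModule.rTensor R Q (LocalizedModule.mkLinearMap T N))).1 h1
  have h2 : ∀ z' : Q ⊗[R] N, (t : S) • (TensorProduct.comm R Q N z') =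
      TensorProduct.comm R Q N
        (((LinearMap.lsmul S N (t : S)).restrictScalars R).lTensor Q z') := by
    intro z'
    induction z' using TensorProduct.induction_on with
    | zero => simp
    | tmul a b => simp [TensorProduct.smul_tmul']
    | add a b ha hb => simp only [map_add, smul_add, ha, hb]
  have h3 : (t : S) • (TensorProduct.comm R Q N z) = 0 := ht
  rw [h2, LinearEquiv.map_eq_zero_iff] at h3
  exact (h t t.2) (h3.trans (map_zero _).symm)

end loc

end Groth.Agent.Lib.Helper55.FL
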