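import Mathlib
import Groth.Prelude.Def_FlatCA
import Groth.Agent.Lib.Helper55.FL.EssFp
import Groth.Agent.Lib.Helper55.FL.UnivInjLoc
import Groth.Agent.Lib.Helper24.FiberAss

/-!
# Universal injectivity of `N → S' ⊗ N` for flat `S'` hitting the fibre associated primes
-/

namespace Groth.Agent.Lib.Helper55.FL

open TensorProduct

universe u

set_option linter.style.haveILetI false

attribute [local instance] Algebra.TensorProduct.rightAlgebra

section noeth

theorem isNoetherianRing_fiber_of_ess {R S : Type u} [CommRing R] [CommRing S] [Algebra R S]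
    (hS : ∃ (S₀ : Type u) (_ : CommRing S₀) (_ : Algebra R S₀) (_ : Algebra S₀ S)
      (_ : IsScalarTower R S₀ S) (T : Submonoid S₀),
      Algebra.FinitePresentation R S₀ ∧ IsLocalization T S)
    (p : Ideal R) [p.IsPrime] : IsNoetherianRing (p.Fiber S) := by
  obtain ⟨S₀, _, _, _, _, T, hfp, hloc⟩ := hS
  haveI : IsNoetherianRing (p.ResidueField ⊗[R] S₀) :=
    Algebra.FiniteType.isNoetherianRing p.ResidueField (p.ResidueField ⊗[R] S₀)
  letI : Algebra (p.ResidueField ⊗[R] S₀) (p.ResidueField ⊗[R] S) :=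
    (Algebra.TensorProduct.map (AlgHom.id p.ResidueField p.ResidueField)
      (IsScalarTower.toAlgHom R S₀ S)).toRingHom.toAlgebra
  haveI : IsScalarTower p.ResidueField (p.ResidueField ⊗[R] S₀) (p.ResidueField ⊗[R] S) :=
    IsScalarTower.of_algebraMap_eq (fun k => by
      show k ⊗ₜ[R] (1 : S) = (Algebra.TensorProduct.map (AlgHom.id p.ResidueField p.ResidueField)
        (IsScalarTower.toAlgHom R S₀ S)) (k ⊗ₜ[R] (1 : S₀))
      rw [Algebra.TensorProduct.map_tmul, map_one]
      rfl)
  have H : (algebraMap (p.ResidueField ⊗[R] S₀) (p.ResidueField ⊗[R] S)).comp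
      Algebra.TensorProduct.includeRight.toRingHom =
      Algebra.TensorProduct.includeRight.toRingHom.comp (algebraMap S₀ S) := by
    ext s
    show (Algebra.TensorProduct.map (AlgHom.id p.ResidueField p.ResidueField)
      (IsScalarTower.toAlgHom R S₀ S)) ((1 : p.ResidueField) ⊗ₜ[R] s) = 1 ⊗ₜ[R] algebraMap S₀ S s
    rw [Algebra.TensorProduct.map_tmul, map_one]
    rfl
  haveI := IsLocalization.tensorProduct_tensorProduct_right R p.ResidueField T S H
  exact IsLocalization.isNoetherianRing
    (T.map (Algebra.TensorProduct.includeRight (R := R) (A := p.ResidueField)))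
    (p.ResidueField ⊗[R] S) inferInstance

end noeth

section ass

variable {S F X : Type*} [CommRing S] [CommRing F] [Algebra S F] [AddCommGroup X] [Module F X]
  [Module S X] [IsScalarTower S F X]

theorem comap_mem_associatedPrimes (Q : Ideal F) (hQ : Q ∈ associatedPrimes F X) :
    Q.comap (algebraMap S F) ∈ associatedPrimes S X := by
  obtain ⟨hprime, x, hx⟩ := hQ
  refine ⟨Ideal.comap_isPrime _ _, x, ?_⟩
  ext s
  rw [Ideal.mem_comap, hx, Ideal.mem_radical_iff, Ideal.mem_radical_iff]
  simp_rw [Submodule.mem_colon_singleton, Submodule.mem_bot, ← map_pow, algebraMap_smul]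

theorem exists_le_associatedPrime [IsNoetherianRing F] [Module.Finite F X] (P : Ideal S)
    [P.IsPrime] (hP : ∀ s ∈ P, ∃ v : X, v ≠ 0 ∧ s • v = 0) :
    ∃ q ∈ associatedPrimes S X, P ≤ q := by
  have hsub : (P : Set S) ⊆ ⋃ Q ∈ associatedPrimes F X, (Q.comap (algebraMap S F) : Set S) := by
    intro s hs
    obtain ⟨v, hv0, hv⟩ := hP s hs
    have hmem : algebraMap S F s ∈ { r : F | ∃ x : X, x ≠ 0 ∧ r • x = 0 } :=
      ⟨v, hv0, by rw [algebraMap_smul]; exact hv⟩
    rw [← biUnion_associatedPrimes_eq_zero_divisors] at hmem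
    obtain ⟨Q, hQ, hsQ⟩ := Set.mem_iUnion₂.1 hmem
    exact Set.mem_iUnion₂.2 ⟨Q, hQ, hsQ⟩
  obtain ⟨Q, hQ, hPQ⟩ := (Ideal.subset_union_prime_finite (associatedPrimes.finite F X)
    (f := fun Q : Ideal F => Q.comap (algebraMap S F)) ⊥ ⊥
    (fun Q hQ _ _ => by haveI := hQ.isPrime; exact Ideal.comap_isPrime _ _)).1 hsub
  exact ⟨_, comap_mem_associatedPrimes Q hQ, hPQ⟩

theorem disjoint_nonZeroSMulDivisors_of_mem_associatedPrimes (q : Ideal S)
    (hq : q ∈ associatedPrimes S X) :
    Disjoint (nonZeroSMulDivisors S X : Set S) (q : Set S) := by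
  obtain ⟨hprime, x, hx⟩ := hq
  rw [Set.disjoint_left]
  intro s hs hsq
  rw [hx, SetLike.mem_coe, Ideal.mem_radical_iff] at hsq
  obtain ⟨n, hn⟩ := hsq
  rw [Submodule.mem_colon_singleton, Submodule.mem_bot] at hn
  have hx0 : x = 0 := by
    have := pow_mem hs n
    exact (mem_nonZeroSMulDivisors_iff.1 this) x hn
  apply hprime.ne_top
  rw [hx, hx0]
  rw [Ideal.radical_eq_top, Ideal.eq_top_iff_one, Submodule.mem_colon_singleton]
  simp

end ass

section ff

theorem faithfullyFlat_localization_tensor {S S' : Type u} [CommRing S] [CommRing S']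
    [Algebra S S'] [Module.Flat S S'] (Sg : Submonoid S)
    (hSg : ∀ (P : Ideal S) [P.IsPrime], Disjoint (Sg : Set S) (P : Set S) →
      ∃ q' : Ideal S', q'.IsPrime ∧ P ≤ q'.comap (algebraMap S S') ∧
        Disjoint (Sg : Set S) (q'.comap (algebraMap S S') : Set S)) :
    Module.FaithfullyFlat (Localization Sg) (Localization Sg ⊗[S] S') := by
  refine ⟨fun 𝔫 h𝔫 htop => ?_⟩
  haveI := h𝔫.isPrime
  have hdisj : Disjoint (Sg : Set S) ((𝔫.comap (algebraMap S (Localization Sg)) : Ideal S) : Set S) := by
    rw [Set.disjoint_left]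
    intro σ hσ hmem
    exact h𝔫.ne_top (Ideal.eq_top_of_isUnit_mem _ hmem
      (IsLocalization.map_units (Localization Sg) ⟨σ, hσ⟩))
  obtain ⟨q', hq', hPq', hdisj'⟩ := hSg _ hdisj
  letI : Algebra S q'.ResidueField :=
    ((algebraMap S' q'.ResidueField).comp (algebraMap S S')).toAlgebra
  haveI : IsScalarTower S S' q'.ResidueField := IsScalarTower.of_algebraMap_eq (fun _ => rfl)
  have hzero : ∀ s : S, s ∈ q'.comap (algebraMap S S') → algebraMap S q'.ResidueField s = 0 := by
    intro s hs
    show algebraMap S' q'.ResidueField (algebraMap S S' s) = 0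
    exact (Ideal.algebraMap_residueField_eq_zero).2 hs
  have hunits : ∀ σ : Sg, IsUnit ((Algebra.ofId S q'.ResidueField) (σ : S)) := by
    intro σ
    apply IsUnit.mk0
    show algebraMap S' q'.ResidueField (algebraMap S S' σ) ≠ 0
    rw [Ne, Ideal.algebraMap_residueField_eq_zero]
    intro hmem
    exact (Set.disjoint_left.1 hdisj') σ.2 hmem
  let fA : Localization Sg →ₐ[S] q'.ResidueField :=
    IsLocalization.liftAlgHom (M := Sg) (f := Algebra.ofId S q'.ResidueField) hunits
  have hfA : ∀ a ∈ 𝔫, fA a = 0 := by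
    intro a ha
    obtain ⟨s, σ, rfl⟩ := IsLocalization.exists_mk'_eq Sg a
    have h1 : algebraMap S (Localization Sg) s ∈ 𝔫 := (IsLocalization.mk'_mem_iff).1 ha
    have h2 : algebraMap S q'.ResidueField s = 0 := hzero s (hPq' h1)
    have h3 : fA (IsLocalization.mk' (Localization Sg) s σ) *
        fA (algebraMap S (Localization Sg) (σ : S)) = fA (algebraMap S (Localization Sg) s) := by
      rw [← map_mul, IsLocalization.mk'_spec]
    rw [AlgHom.commutes, AlgHom.commutes, h2] at h3
    exact (mul_eq_zero.1 h3).resolve_right (hunits σ).ne_zero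
  let φ : Localization Sg ⊗[S] S' →ₐ[S] q'.ResidueField :=
    Algebra.TensorProduct.productMap fA (IsScalarTower.toAlgHom S S' q'.ResidueField)
  have hφ : ∀ w ∈ 𝔫 • (⊤ : Submodule (Localization Sg) (Localization Sg ⊗[S] S')), φ w = 0 := by
    intro w hw
    refine Submodule.smul_induction_on hw ?_ ?_
    · intro a ha w _
      have hsm : ∀ w' : Localization Sg ⊗[S] S', a • w' = (a ⊗ₜ[S] (1 : S')) * w' := by
        intro w'
        induction w' using TensorProduct.induction_on with
        | zero => simp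
        | tmul b s' =>
          rw [TensorProduct.smul_tmul', Algebra.TensorProduct.tmul_mul_tmul, one_mul, smul_eq_mul]
        | add x y hx hy => rw [smul_add, hx, hy, mul_add]
      rw [hsm, map_mul]
      have : φ (a ⊗ₜ[S] (1 : S')) = fA a := by
        simp [φ]
      rw [this, hfA a ha, zero_mul]
    · intro a b ha hb
      rw [map_add, ha, hb, add_zero]
  have h1 : φ 1 = 0 := hφ 1 (by rw [htop]; exact Submodule.mem_top)
  rw [map_one] at h1
  exact one_ne_zero h1

end ff

section chase

theorem lTensor_mk_injective_of_faithfullyFlat {R S S' : Type u} [CommRing R] [CommRing S]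
    [CommRing S'] [Algebra R S] [Algebra S S'] [Algebra R S'] [IsScalarTower R S S']
    (Sg : Submonoid S)
    [Module.FaithfullyFlat (Localization Sg) (Localization Sg ⊗[S] S')]
    (N : Type u) [AddCommGroup N] [Module S N] [Module R N] [IsScalarTower R S N]
    (Q : Type u) [AddCommGroup Q] [Module R Q]
    (hSg : ∀ s ∈ Sg,
      Function.Injective (((LinearMap.lsmul S N s).restrictScalars R).lTensor Q)) :
    Function.Injective (((TensorProduct.mk S S' N 1).restrictScalars R).lTensor Q) := by
  rw [injective_iff_map_eq_zero]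
  intro z hz
  have key : ∀ z' : Q ⊗[R] N,
      (TensorProduct.AlgebraTensorModule.assoc R S S S' N Q)
        (TensorProduct.comm R Q (S' ⊗[S] N)
          ((((TensorProduct.mk S S' N 1).restrictScalars R).lTensor Q) z')) =
      (1 : S') ⊗ₜ[S] (TensorProduct.comm R Q N z') := by
    intro z'
    induction z' using TensorProduct.induction_on with
    | zero => simp
    | tmul q n => simp
    | add a b ha hb => simp only [map_add, ha, hb, TensorProduct.tmul_add]
  have L1 : (1 : S') ⊗ₜ[S] (TensorProduct.comm R Q N z) = 0 := by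
    rw [← key, hz, map_zero, map_zero]
  have L2 : (1 : S') ⊗ₜ[S] (LocalizedModule.mkLinearMap Sg (N ⊗[R] Q)
      (TensorProduct.comm R Q N z)) = 0 := by
    have := congrArg (LinearMap.lTensor S' (LocalizedModule.mkLinearMap Sg (N ⊗[R] Q))) L1
    rwa [LinearMap.lTensor_tmul, map_zero] at this
  have L3 : (LocalizedModule.mkLinearMap Sg (N ⊗[R] Q) (TensorProduct.comm R Q N z)) ⊗ₜ[S]
      (1 : S') = 0 := by
    have := congrArg (TensorProduct.comm S S' (LocalizedModule Sg (N ⊗[R] Q))) L2
    rwa [TensorProduct.comm_tmul, map_zero] at this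
  have L4 : (LocalizedModule.mkLinearMap Sg (N ⊗[R] Q) (TensorProduct.comm R Q N z))
      ⊗ₜ[Localization Sg] ((1 : Localization Sg) ⊗ₜ[S] (1 : S')) = 0 := by
    have := congrArg (TensorProduct.AlgebraTensorModule.cancelBaseChange S (Localization Sg)
      (Localization Sg) (LocalizedModule Sg (N ⊗[R] Q)) S').symm L3
    rwa [TensorProduct.AlgebraTensorModule.cancelBaseChange_symm_tmul, map_zero] at this
  have L5 : TensorProduct.mk (Localization Sg) (Localization Sg ⊗[S] S')
      (LocalizedModule Sg (N ⊗[R] Q)) 1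
      (LocalizedModule.mkLinearMap Sg (N ⊗[R] Q) (TensorProduct.comm R Q N z)) = 0 := by
    have := congrArg (TensorProduct.comm (Localization Sg) (LocalizedModule Sg (N ⊗[R] Q))
      (Localization Sg ⊗[S] S')) L4
    rw [TensorProduct.comm_tmul, map_zero] at this
    rw [TensorProduct.mk_apply, Algebra.TensorProduct.one_def]
    exact this
  have L6 : LocalizedModule.mkLinearMap Sg (N ⊗[R] Q) (TensorProduct.comm R Q N z) = 0 :=
    Module.FaithfullyFlat.tensorProduct_mk_injective (LocalizedModule Sg (N ⊗[R] Q))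
      (L5.trans (map_zero _).symm)
  obtain ⟨t, ht⟩ := (IsLocalizedModule.eq_zero_iff Sg
    (LocalizedModule.mkLinearMap Sg (N ⊗[R] Q))).1 L6
  have h2 : ∀ z' : Q ⊗[R] N, (t : S) • (TensorProduct.comm R Q N z') =
      TensorProduct.comm R Q N
        (((LinearMap.lsmul S N (t : S)).restrictScalars R).lTensor Q z') := by
    intro z'
    induction z' using TensorProduct.induction_on with
    | zero => simp
    | tmul a b => simp [TensorProduct.smul_tmul']
    | add a b ha hb => simp only [map_add, smul_add, ha, hb]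
  have h3 : (t : S) • (TensorProduct.comm R Q N z) = 0 := ht
  rw [h2, LinearEquiv.map_eq_zero_iff] at h3
  exact (hSg t t.2) (h3.trans (map_zero _).symm)

end chase

end Groth.Agent.Lib.Helper55.FL
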