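import Mathlib
import Groth.Agent.Lib.Helper55.FL.CPFMTor
import Groth.Agent.Lib.Helper55.FL.UnivInjFF
import Groth.Agent.Lib.Helper55.FL.FibreReg

/-!
# Fibre criterion for modules, part II: from `Tor_1(κ(p), M) = 0` to flatness

`flat_of_nu_injective_ess`: `A₀ → P₀` finitely presented, `P = (P₀)_𝔫` flat over `A₀`,
`M` a finitely presented `P`-module with `p ⊗ M → M` injective (`p = 𝔫 ∩ A₀`).  Then `M` is flat
over `A₀`.
-/

set_option autoImplicit false
set_option linter.style.haveILetI false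

namespace Groth.Agent.Lib.Helper55.FL

open TensorProduct

universe u

attribute [local instance] Algebra.TensorProduct.rightAlgebra

section fibrezero

theorem exists_smul_mem_of_fibre_one_tmul_eq_zero {A B M : Type u} [CommRing A] [CommRing B]
    [Algebra A B] [AddCommGroup M] [Module B M] [Module A M] [IsScalarTower A B M]
    (p : Ideal A) [p.IsPrime] {y : M}
    (h2 : (1 : B ⊗[A] p.ResidueField) ⊗ₜ[B] y = 0) :
    ∃ r : A, r ∉ p ∧ r • y ∈ p • (⊤ : Submodule A M) := by
  have h3 : (1 : p.ResidueField) ⊗ₜ[A] y = 0 := by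
    have := congrArg (Algebra.IsPushout.cancelBaseChange A p.ResidueField B
      (B ⊗[A] p.ResidueField) M) h2
    rwa [Algebra.IsPushout.cancelBaseChange_tmul, map_zero] at this
  exact exists_smul_mem_of_one_tmul_eq_zero p h3

end fibrezero

section upgrade

variable {A₀ P₀ P : Type u} [CommRing A₀] [CommRing P₀] [CommRing P]
  [Algebra A₀ P₀] [Algebra P₀ P] [Algebra A₀ P] [IsScalarTower A₀ P₀ P]
  (𝔫 : Ideal P₀) [𝔫.IsPrime] [IsLocalization.AtPrime P 𝔫]

include 𝔫 in
theorem isUnit_algebraMap_of_notMem {r : A₀} (hr : r ∉ 𝔫.comap (algebraMap A₀ P₀)) :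
    IsUnit (algebraMap A₀ P r) := by
  rw [IsScalarTower.algebraMap_apply A₀ P₀ P]
  exact IsLocalization.map_units P (⟨algebraMap A₀ P₀ r, hr⟩ : 𝔫.primeCompl)

include 𝔫 in
theorem exists_unit_smul_eq_algebraMap
    (φ : P ⊗[A₀] (𝔫.comap (algebraMap A₀ P₀)).ResidueField) :
    ∃ t : P, IsUnit t ∧ ∃ b : P,
      t • φ = algebraMap P (P ⊗[A₀] (𝔫.comap (algebraMap A₀ P₀)).ResidueField) b := by
  obtain ⟨r, hr, y, hy⟩ := exists_smul_eq_one_tmul (𝔫.comap (algebraMap A₀ P₀))
    (TensorProduct.comm A₀ P _ φ)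
  refine ⟨algebraMap A₀ P r, isUnit_algebraMap_of_notMem 𝔫 hr, y, ?_⟩
  rw [algebraMap_smul, ← LinearEquiv.map_smul] at hy
  have h1 := congrArg (TensorProduct.comm A₀ P (𝔫.comap (algebraMap A₀ P₀)).ResidueField).symm hy
  rw [LinearEquiv.symm_apply_apply, TensorProduct.comm_symm_tmul] at h1
  rw [algebraMap_smul, h1, Algebra.TensorProduct.algebraMap_apply, Algebra.algebraMap_self,
    RingHom.id_apply]

variable [Algebra.FinitePresentation A₀ P₀]

theorem exists_fg_le_sup_smul
    {N : Type u} [AddCommGroup N] [Module P N] [Module A₀ N] [IsScalarTower A₀ P N]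
    [Module.Finite P N] (L : Submodule P N) :
    ∃ L' : Submodule P N, L'.FG ∧ L' ≤ L ∧ ∀ x ∈ L, ∃ y ∈ L',
      x - y ∈ (𝔫.comap (algebraMap A₀ P₀)) • (⊤ : Submodule A₀ N) := by
  classical
  set p := 𝔫.comap (algebraMap A₀ P₀) with hp
  let Φ := P ⊗[A₀] p.ResidueField
  haveI : IsNoetherianRing Φ := by
    haveI h1 : IsNoetherianRing (p.ResidueField ⊗[A₀] P) :=
      isNoetherianRing_fiber_of_ess (R := A₀) (S := P)
        ⟨P₀, inferInstance, inferInstance, inferInstance, inferInstance, 𝔫.primeCompl,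
          inferInstance, inferInstance⟩ p
    exact isNoetherianRing_of_ringEquiv (p.ResidueField ⊗[A₀] P)
      (Algebra.TensorProduct.comm A₀ p.ResidueField P).toRingEquiv
  haveI : IsNoetherian Φ (Φ ⊗[P] N) := isNoetherian_of_isNoetherianRing_of_finite Φ _
  let e : N →ₗ[P] Φ ⊗[P] N := TensorProduct.mk P Φ N 1
  have hW : (Submodule.span Φ (e '' (L : Set N))).FG := IsNoetherian.noetherian _
  obtain ⟨t, ht, hspan⟩ := (Submodule.fg_span_iff_fg_span_finset_subset _).1 hW
  obtain ⟨t', ht'L, rfl⟩ := Finset.subset_set_image_iff.1 ht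
  refine ⟨Submodule.span P (t' : Set N), ⟨t', rfl⟩, Submodule.span_le.2 ht'L, ?_⟩
  have c2 : ∀ w ∈ Submodule.span Φ (e '' (t' : Set N)),
      ∃ s : P, IsUnit s ∧ ∃ y ∈ Submodule.span P (t' : Set N), s • w = e y := by
    intro w hw
    induction hw using Submodule.span_induction with
    | mem w hw =>
      obtain ⟨l, hl, rfl⟩ := hw
      exact ⟨1, isUnit_one, l, Submodule.subset_span hl, one_smul _ _⟩
    | zero => exact ⟨1, isUnit_one, 0, Submodule.zero_mem _, by rw [smul_zero, map_zero]⟩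
    | add w₁ w₂ _ _ h₁ h₂ =>
      obtain ⟨s₁, hs₁, y₁, hy₁, e₁⟩ := h₁
      obtain ⟨s₂, hs₂, y₂, hy₂, e₂⟩ := h₂
      refine ⟨s₁ * s₂, hs₁.mul hs₂, s₂ • y₁ + s₁ • y₂,
        add_mem (Submodule.smul_mem _ _ hy₁) (Submodule.smul_mem _ _ hy₂), ?_⟩
      rw [smul_add, map_add, map_smul, map_smul, ← e₁, ← e₂, mul_smul, mul_smul,
        smul_comm s₁ s₂ w₁]
    | smul φ w _ h =>
      obtain ⟨s, hs, y, hy, e₁⟩ := h
      obtain ⟨s', hs', b, hb⟩ := exists_unit_smul_eq_algebraMap 𝔫 φ
      refine ⟨s' * s, hs'.mul hs, b • y, Submodule.smul_mem _ _ hy, ?_⟩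
      rw [mul_smul, smul_comm s φ w, ← smul_assoc s' φ (s • w), hb, e₁, algebraMap_smul,
        map_smul]
  intro x hx
  have hxW : e x ∈ Submodule.span Φ (e '' (t' : Set N)) := by
    have h1 : e x ∈ Submodule.span Φ (e '' (L : Set N)) :=
      Submodule.subset_span ⟨x, hx, rfl⟩
    rw [hspan, Finset.coe_image] at h1
    exact h1
  obtain ⟨s, hs, y, hy, e₁⟩ := c2 _ hxW
  have h0 : (1 : Φ) ⊗ₜ[P] (s • x - y) = 0 := by
    have : e (s • x - y) = 0 := by rw [map_sub, map_smul, e₁, sub_self]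
    exact this
  obtain ⟨r, hr, hry⟩ := exists_smul_mem_of_fibre_one_tmul_eq_zero (A := A₀) (B := P) p h0
  have h1 : s • x - y ∈ p • (⊤ : Submodule A₀ N) := by
    rw [← algebraMap_smul P r] at hry
    exact mem_of_unit_smul_mem p _ (isUnit_algebraMap_of_notMem 𝔫 hr) hry
  obtain ⟨u, rfl⟩ := hs
  refine ⟨((u⁻¹ : Pˣ) : P) • y, Submodule.smul_mem _ _ hy, ?_⟩
  apply mem_of_unit_smul_mem p (u : P) u.isUnit
  rw [smul_sub, smul_smul, Units.mul_inv, one_smul]
  exact h1

end upgrade

section main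

variable {A₀ P₀ P : Type u} [CommRing A₀] [CommRing P₀] [CommRing P]
  [Algebra A₀ P₀] [Algebra P₀ P] [Algebra A₀ P] [IsScalarTower A₀ P₀ P]
  [Algebra.FinitePresentation A₀ P₀]
  (𝔫 : Ideal P₀) [𝔫.IsPrime] [IsLocalization.AtPrime P 𝔫]

/-- **Fibre criterion, second half.** -/
theorem flat_of_nu_injective_ess [Module.Flat A₀ P]
    {M : Type u} [AddCommGroup M] [Module P M] [Module A₀ M] [IsScalarTower A₀ P M]
    [Module.FinitePresentation P M]
    (h : Function.Injective (nu (𝔫.comap (algebraMap A₀ P₀)) M)) :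
    Module.Flat A₀ M := by
  classical
  set p := 𝔫.comap (algebraMap A₀ P₀) with hp
  obtain ⟨m, π, hπ⟩ := Module.Finite.exists_fin' P M
  let F := Fin m → P
  let K : Submodule P F := LinearMap.ker π
  have hKfg : K.FG := Module.FinitePresentation.fg_ker π hπ
  haveI : Module.Flat A₀ F := Module.Flat.trans A₀ P F
  haveI : Module.Finite P K := Module.Finite.of_fg hKfg
  obtain ⟨k, g, hg⟩ := Module.Finite.exists_fin' P K
  let N := Fin k → P
  let v : N →ₗ[P] F := K.subtype ∘ₗ g
  let L : Submodule P N := LinearMap.ker v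
  obtain ⟨L', hL'fg, hL'le, hL'⟩ := exists_fg_le_sup_smul (A₀ := A₀) 𝔫 L
  haveI : Module.FinitePresentation P (N ⧸ L') :=
    Module.finitePresentation_of_surjective L'.mkQ (Submodule.mkQ_surjective _)
      (by rw [Submodule.ker_mkQ]; exact hL'fg)
  let u' : (N ⧸ L') →ₗ[P] F := L'.liftQ v hL'le
  have hfib : ∀ x' : N ⧸ L', u' x' ∈ p • (⊤ : Submodule A₀ F) →
      x' ∈ p • (⊤ : Submodule A₀ (N ⧸ L')) := by
    intro x' hx'
    obtain ⟨x, rfl⟩ := Submodule.Quotient.mk_surjective _ x'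
    have h1 : u' (Submodule.Quotient.mk x) = ((g x : K) : F) := rfl
    rw [h1] at hx'
    have h2 : g x ∈ p • (⊤ : Submodule A₀ K) :=
      mem_smul_top_of_nu_injective (R := A₀) (K := K) (F := F) (M := M) p
        (K.subtype.restrictScalars A₀) (π.restrictScalars A₀)
        (Submodule.injective_subtype K) (LinearMap.exact_subtype_ker_map π) hπ h (g x) hx'
    have h3 : ∃ n₁ ∈ p • (⊤ : Submodule A₀ N), g n₁ = g x := by
      have hm : (p • (⊤ : Submodule A₀ K)) =
          Submodule.map (g.restrictScalars A₀) (p • (⊤ : Submodule A₀ N)) := by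
        rw [Submodule.map_smul'', Submodule.map_top]
        congr 1
        symm
        rw [LinearMap.range_eq_top]
        exact hg
      rw [hm] at h2
      obtain ⟨n₁, hn₁, e⟩ := h2
      exact ⟨n₁, hn₁, e⟩
    obtain ⟨n₁, hn₁, e₁⟩ := h3
    have h4 : x - n₁ ∈ L := by
      show v (x - n₁) = 0
      show ((g (x - n₁) : K) : F) = 0
      rw [map_sub, e₁, sub_self]
      rfl
    obtain ⟨y, hy, h5⟩ := hL' _ h4
    have h6 : (Submodule.Quotient.mk x : N ⧸ L') = L'.mkQ (n₁ + (x - n₁ - y)) := by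
      rw [Submodule.mkQ_apply, Submodule.Quotient.eq]
      have : x - (n₁ + (x - n₁ - y)) = y := by abel
      rw [this]
      exact hy
    rw [h6]
    exact map_mem_smul_top' L'.mkQ p (add_mem hn₁ h5)
  have hui := ess_ui (R := A₀) (S' := P₀) (S := P) 𝔫 u' hfib
  have hflat : Module.Flat A₀ (F ⧸ LinearMap.range (u'.restrictScalars A₀)) :=
    flat_quotient_of_ui (u'.restrictScalars A₀) hui
  have hrange : LinearMap.range u' = K := by
    rw [Submodule.range_liftQ, LinearMap.range_comp, LinearMap.range_eq_top.2 hg,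
      Submodule.map_top, Submodule.range_subtype]
  have hrange' : LinearMap.range (u'.restrictScalars A₀) =
      LinearMap.ker (π.restrictScalars A₀) := by
    ext x
    rw [LinearMap.mem_ker, LinearMap.coe_restrictScalars]
    constructor
    · rintro ⟨z, rfl⟩
      have : u' z ∈ K := hrange ▸ LinearMap.mem_range_self u' z
      exact this
    · intro hx
      have : x ∈ LinearMap.range u' := by rw [hrange]; exact hx
      obtain ⟨z, rfl⟩ := this
      exact ⟨z, rfl⟩
  let e1 : (F ⧸ LinearMap.range (u'.restrictScalars A₀)) ≃ₗ[A₀] M :=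
    (Submodule.quotEquivOfEq _ _ hrange').trans
      ((π.restrictScalars A₀).quotKerEquivOfSurjective hπ)
  exact Module.Flat.of_linearEquiv e1.symm

end main

end Groth.Agent.Lib.Helper55.FL
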