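import Mathlib
import Groth.Agent.Lib.Helper55.FL.CPFMCore

/-!
# Fibre criterion for modules: chart form

`flat_of_fibre_chart`: `A₀ → B₀` finitely presented, `q ⊂ B₀` prime, `M = (M₀)_q` with `M₀` finitely
presented over `B₀`, `A = (A₀)_p` (`p = q ∩ A₀`), `R → A` local.  If `M` is `R`-flat and
`M / 𝔪_R M` is flat over `A / 𝔪_R A`, then `M` is flat over `A`.
-/

set_option autoImplicit false
set_option linter.style.haveILetI false

namespace Groth.Agent.Lib.Helper55.FL

open TensorProduct IsLocalRing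

universe u

theorem faithfullyFlat_of_flat_of_finite' {S S' M : Type u} [CommRing S] [CommRing S']
    [IsLocalRing S] [IsLocalRing S'] [Algebra S S'] [IsLocalHom (algebraMap S S')]
    [AddCommGroup M] [Module S' M] [Module S M] [IsScalarTower S S' M]
    [Module.Finite S' M] [Nontrivial M] [Module.Flat S M] :
    Module.FaithfullyFlat S M := by
  refine ⟨fun m hm => ?_⟩
  rw [IsLocalRing.eq_maximalIdeal hm]
  intro htop
  have h1 : (⊤ : Submodule S' M) ≤ maximalIdeal S' • (⊤ : Submodule S' M) := by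
    intro x _
    have hx : x ∈ (maximalIdeal S) • (⊤ : Submodule S M) := by
      rw [htop]; trivial
    have h2 : x ∈ ((maximalIdeal S).map (algebraMap S S')) • (⊤ : Submodule S' M) :=
      (mem_smul_top_map_iff (S := S') (maximalIdeal S) x).2 hx
    exact Submodule.smul_mono_left
      (Groth.Agent.Lib.Helper6.LocalFlat.map_maximalIdeal_le (R := S) (S := S')) h2
  have h3 := Submodule.eq_bot_of_le_smul_of_le_jacobson_bot (maximalIdeal S')
    (⊤ : Submodule S' M) Module.Finite.fg_top h1 (IsLocalRing.maximalIdeal_le_jacobson ⊥)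
  exact top_ne_bot h3

theorem flat_of_fibre_chart
    {R A₀ B₀ A : Type u} [CommRing R] [CommRing A₀] [CommRing B₀] [CommRing A]
    [Algebra A₀ B₀] [Algebra.FinitePresentation A₀ B₀] [Algebra A₀ A]
    (q : Ideal B₀) [q.IsPrime] (p : Ideal A₀) [p.IsPrime] [IsLocalization.AtPrime A p]
    (hpq : p = q.comap (algebraMap A₀ B₀))
    [IsLocalRing R] [IsLocalRing A] [Algebra R A] [IsLocalHom (algebraMap R A)]
    {M₀ M : Type u} [AddCommGroup M₀] [Module B₀ M₀] [Module.FinitePresentation B₀ M₀]
    [AddCommGroup M] [Module B₀ M] [Module A₀ M] [IsScalarTower A₀ B₀ M]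
    [Module A M] [IsScalarTower A₀ A M] [Module R M] [IsScalarTower R A M]
    (g₀ : M₀ →ₗ[B₀] M) [IsLocalizedModule q.primeCompl g₀]
    [Module.Flat R M]
    (hfib : Module.Flat (A ⧸ (maximalIdeal R).map (algebraMap R A))
      (M ⧸ ((maximalIdeal R).map (algebraMap R A)) • (⊤ : Submodule A M))) :
    Module.Flat A M := by
  classical
  obtain ⟨n, φ₀, hφ₀, hker⟩ := Algebra.FinitePresentation.out (R := A₀) (A := B₀)
  let P₀ := MvPolynomial (Fin n) A₀
  letI algPB : Algebra P₀ B₀ := φ₀.toRingHom.toAlgebra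
  haveI : IsScalarTower A₀ P₀ B₀ :=
    IsScalarTower.of_algebraMap_eq (fun a => (φ₀.commutes a).symm)
  let 𝔫 : Ideal P₀ := q.comap (algebraMap P₀ B₀)
  haveI : 𝔫.IsPrime := Ideal.comap_isPrime _ _
  letI : Module P₀ M₀ := Module.compHom M₀ (algebraMap P₀ B₀)
  haveI : IsScalarTower P₀ B₀ M₀ := IsScalarTower.of_algebraMap_smul fun _ _ => rfl
  letI : Module P₀ M := Module.compHom M (algebraMap P₀ B₀)
  haveI : IsScalarTower P₀ B₀ M := IsScalarTower.of_algebraMap_smul fun _ _ => rfl
  have hsurj : Function.Surjective (algebraMap P₀ B₀) := hφ₀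
  haveI : Module.FinitePresentation P₀ B₀ := by
    refine Module.finitePresentation_of_surjective (Algebra.linearMap P₀ B₀) hsurj ?_
    have : LinearMap.ker (Algebra.linearMap P₀ B₀) = RingHom.ker φ₀.toRingHom :=
      Submodule.ext fun x => Iff.rfl
    rw [this]
    exact hker
  haveI : Module.FinitePresentation P₀ M₀ := Module.FinitePresentation.trans P₀ M₀ B₀
  have hsub : Algebra.algebraMapSubmonoid B₀ 𝔫.primeCompl = q.primeCompl := by
    ext b
    constructor
    · rintro ⟨t, ht, rfl⟩
      exact ht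
    · intro hb
      obtain ⟨t, rfl⟩ := hsurj b
      exact ⟨t, hb, rfl⟩
  haveI : IsLocalizedModule (Algebra.algebraMapSubmonoid B₀ 𝔫.primeCompl) g₀ := by
    rw [hsub]; infer_instance
  haveI hloc : IsLocalizedModule 𝔫.primeCompl (g₀.restrictScalars P₀) :=
    IsLocalizedModule.restrictScalars 𝔫.primeCompl g₀
  let P := Localization.AtPrime 𝔫
  letI : Module P M := IsLocalizedModule.module 𝔫.primeCompl (g₀.restrictScalars P₀)
  haveI : IsScalarTower P₀ P M :=
    IsLocalizedModule.isScalarTower_module 𝔫.primeCompl (g₀.restrictScalars P₀)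
  haveI : IsScalarTower A₀ P M := IsScalarTower.of_algebraMap_smul (fun a m => by
    rw [IsScalarTower.algebraMap_apply A₀ P₀ P a, algebraMap_smul P (algebraMap A₀ P₀ a) m,
      ← algebraMap_smul B₀ (algebraMap A₀ P₀ a) m, ← IsScalarTower.algebraMap_apply A₀ P₀ B₀,
      algebraMap_smul B₀ a m])
  haveI : Module.FinitePresentation P M :=
    FinitePresentation.of_isBaseChange (g₀.restrictScalars P₀)
      ((isLocalizedModule_iff_isBaseChange 𝔫.primeCompl P _).1 hloc)
  haveI : Module.Flat A₀ P := Module.Flat.trans A₀ P₀ P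
  have h1 := nu_maximalIdeal_injective_of_fibre (R := R) (A := A) M hfib
  have h2 := nu_injective_of_localization p M h1
  have hp : p = 𝔫.comap (algebraMap A₀ P₀) := by
    rw [hpq, Ideal.comap_comap, ← IsScalarTower.algebraMap_eq]
  rw [hp] at h2
  have h3 : Module.Flat A₀ M := flat_of_nu_injective_ess (P := P) 𝔫 h2
  exact (Module.flat_iff_of_isLocalization A p.primeCompl M).2 h3

end Groth.Agent.Lib.Helper55.FL
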