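import Mathlib

/-!
# Cancellation for essentially finitely presented algebras

If `S` is a localization of a finite type `R`-algebra, `S'` is a localization of a finitely
presented `R`-algebra `C`, and `S → S'` is an `R`-algebra map with `S'` local, then `S'` is the
localization at a prime of a finitely presented `S`-algebra.
-/

set_option autoImplicit false
set_option linter.style.haveILetI false

namespace Groth.Agent.Lib.Helper55.FL

open TensorProduct

universe u

theorem exists_fp_localization_of_ess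
    {R D S C S' : Type u} [CommRing R] [CommRing D] [CommRing S] [CommRing C] [CommRing S']
    [Algebra R D] [Algebra.FiniteType R D] [Algebra D S] [Algebra R S] [IsScalarTower R D S]
    (T : Submonoid D) [IsLocalization T S]
    [Algebra R C] [Algebra.FinitePresentation R C] [Algebra C S'] [Algebra R S']
    [IsScalarTower R C S']
    (T' : Submonoid C) [IsLocalization T' S']
    [Algebra S S'] [IsScalarTower R S S'] [IsLocalRing S'] :
    ∃ (B : Type u) (_ : CommRing B) (_ : Algebra S B) (_ : Algebra B S')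
      (_ : IsScalarTower S B S'),
      Algebra.FinitePresentation S B ∧
      IsLocalization.AtPrime S' ((IsLocalRing.maximalIdeal S').comap (algebraMap B S')) := by
  classical
  obtain ⟨k, π, hπ⟩ := Algebra.FiniteType.iff_quotient_mvPolynomial''.1 ‹Algebra.FiniteType R D›
  let θ : D →+* S' := (algebraMap S S').comp (algebraMap D S)
  obtain ⟨b, hb⟩ := IsLocalization.exist_integer_multiples_of_finite T'
    (fun i : Fin k => θ (π (MvPolynomial.X i)))
  choose c hc using hb
  let E := S ⊗[R] C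
  let e : Fin k → E := fun i =>
    (algebraMap D S (π (MvPolynomial.X i))) ⊗ₜ[R] (b : C) - (1 : S) ⊗ₜ[R] c i
  let J₀ : Ideal E := Ideal.span (Set.range e)
  let B := E ⧸ J₀
  haveI : Algebra.FinitePresentation S B :=
    Algebra.FinitePresentation.quotient (Submodule.fg_span (Set.finite_range e))
  let μ : E →ₐ[S] S' := Algebra.TensorProduct.lift (Algebra.ofId S S')
    (IsScalarTower.toAlgHom R C S') (fun _ _ => Commute.all _ _)
  have hμt : ∀ (s : S) (c' : C), μ (s ⊗ₜ[R] c') = algebraMap S S' s * algebraMap C S' c' :=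
    fun s c' => (Algebra.TensorProduct.lift_tmul _ _ _ s c').trans rfl
  have hμe : ∀ i, μ (e i) = 0 := by
    intro i
    have h1 := hc i
    rw [Algebra.smul_def] at h1
    show μ ((algebraMap D S (π (MvPolynomial.X i))) ⊗ₜ[R] (b : C) - (1 : S) ⊗ₜ[R] c i) = 0
    rw [map_sub, hμt, hμt, map_one, one_mul, h1]
    show algebraMap S S' (algebraMap D S (π (MvPolynomial.X i))) * algebraMap C S' b -
      algebraMap C S' b * algebraMap S S' (algebraMap D S (π (MvPolynomial.X i))) = 0
    ring
  have hμ : ∀ x ∈ J₀, μ x = 0 := by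
    intro x hx
    have hle : J₀ ≤ RingHom.ker μ.toRingHom := Ideal.span_le.2 (by
      rintro _ ⟨i, rfl⟩
      exact hμe i)
    exact hle hx
  let μ' : B →ₐ[S] S' := Ideal.Quotient.liftₐ J₀ μ hμ
  letI algBS' : Algebra B S' := μ'.toRingHom.toAlgebra
  haveI towSBS' : IsScalarTower S B S' :=
    IsScalarTower.of_algebraMap_eq (fun s => (μ'.commutes s).symm)
  refine ⟨B, inferInstance, inferInstance, algBS', towSBS', inferInstance, ?_⟩
  let ιS : S →+* B := algebraMap S B
  let ιC : C →+* B := (Ideal.Quotient.mk J₀).comp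
    (Algebra.TensorProduct.includeRight : C →ₐ[R] E).toRingHom
  have f1 : ∀ (s : S) (c' : C), Ideal.Quotient.mk J₀ (s ⊗ₜ[R] c') = ιS s * ιC c' := by
    intro s c'
    show _ = Ideal.Quotient.mk J₀ (algebraMap S E s) * Ideal.Quotient.mk J₀ ((1 : S) ⊗ₜ[R] c')
    rw [← map_mul, Algebra.TensorProduct.algebraMap_apply, Algebra.algebraMap_self,
      RingHom.id_apply, Algebra.TensorProduct.tmul_mul_tmul, mul_one, one_mul]
  have f2 : ∀ i, ιC b * ιS (algebraMap D S (π (MvPolynomial.X i))) = ιC (c i) := by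
    intro i
    have h0 : Ideal.Quotient.mk J₀ (e i) = 0 :=
      Ideal.Quotient.eq_zero_iff_mem.2 (Ideal.subset_span ⟨i, rfl⟩)
    simp only [e, map_sub, f1] at h0
    have h1 : ιC (1 : C) = 1 := map_one _
    have h2 : ιS (1 : S) = 1 := map_one _
    rw [h2, one_mul] at h0
    linear_combination h0
  have f3S : ∀ s, algebraMap B S' (ιS s) = algebraMap S S' s := fun s =>
    (IsScalarTower.algebraMap_apply S B S' s).symm
  have f3C : ∀ c', algebraMap B S' (ιC c') = algebraMap C S' c' := by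
    intro c'
    show μ ((1 : S) ⊗ₜ[R] c') = _
    rw [hμt, map_one, one_mul]
  have f4 : ∀ r : R, ιC (algebraMap R C r) = ιS (algebraMap R S r) := by
    intro r
    show Ideal.Quotient.mk J₀ ((1 : S) ⊗ₜ[R] (algebraMap R C r)) =
      Ideal.Quotient.mk J₀ (algebraMap S E (algebraMap R S r))
    congr 1
    rw [Algebra.TensorProduct.algebraMap_apply, Algebra.algebraMap_self, RingHom.id_apply,
      Algebra.algebraMap_eq_smul_one, Algebra.algebraMap_eq_smul_one, TensorProduct.smul_tmul]
  have hbunit : IsUnit (algebraMap C S' b) := IsLocalization.map_units S' b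
  -- Claim P
  have claimP : ∀ p : MvPolynomial (Fin k) R, ∃ (N : ℕ) (c' : C),
      ιC ((b : C) ^ N) * ιS (algebraMap D S (π p)) = ιC c' := by
    intro p
    induction p using MvPolynomial.induction_on with
    | C r =>
      refine ⟨0, algebraMap R C r, ?_⟩
      rw [pow_zero, map_one, one_mul, f4]
      congr 1
      rw [← MvPolynomial.algebraMap_eq, AlgHom.commutes, ← IsScalarTower.algebraMap_apply]
    | add p q hp hq =>
      obtain ⟨N₁, c₁, h₁⟩ := hp
      obtain ⟨N₂, c₂, h₂⟩ := hq
      refine ⟨N₁ + N₂, (b : C) ^ N₂ * c₁ + (b : C) ^ N₁ * c₂, ?_⟩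
      simp only [map_add, map_mul, map_pow, pow_add] at h₁ h₂ ⊢
      linear_combination (ιC (b : C) ^ N₂) * h₁ + (ιC (b : C) ^ N₁) * h₂
    | mul_X p i hp =>
      obtain ⟨N, c₁, h₁⟩ := hp
      refine ⟨N + 1, c₁ * c i, ?_⟩
      have h2 := f2 i
      simp only [map_mul, map_pow, pow_succ] at h₁ h2 ⊢
      linear_combination (ιC (b : C) * ιS (algebraMap D S (π (MvPolynomial.X i)))) * h₁ +
        (ιC c₁) * h2
  -- Claim S
  have claimS : ∀ s : S, ∃ t c' : C, IsUnit (algebraMap C S' t) ∧ ιC t * ιS s = ιC c' := by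
    intro s
    obtain ⟨⟨d, τ⟩, hdτ⟩ := IsLocalization.surj T s
    obtain ⟨pd, hpd⟩ := hπ d
    obtain ⟨pτ, hpτ⟩ := hπ (τ : D)
    obtain ⟨N₁, c₁, h₁⟩ := claimP pd
    obtain ⟨N₂, c₂, h₂⟩ := claimP pτ
    rw [hpd] at h₁
    rw [hpτ] at h₂
    have hs : ιS s * ιS (algebraMap D S (τ : D)) = ιS (algebraMap D S d) := by
      rw [← map_mul]
      exact congrArg ιS hdτ
    refine ⟨c₂ * (b : C) ^ N₁, (b : C) ^ N₂ * c₁, ?_, ?_⟩
    · rw [map_mul, map_pow]
      refine IsUnit.mul ?_ (hbunit.pow _)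
      rw [← f3C, ← h₂, map_mul, f3C, f3S, map_pow]
      exact (hbunit.pow _).mul ((IsLocalization.map_units S τ).map (algebraMap S S'))
    · simp only [map_mul, map_pow] at h₁ h₂ ⊢
      linear_combination (-(ιC (b : C) ^ N₁ * ιS s)) * h₂ +
        (ιC (b : C) ^ N₂ * ιC (b : C) ^ N₁) * hs + (ιC (b : C) ^ N₂) * h₁
  -- Claim A
  have claimA : ∀ x : B, ∃ t c' : C, IsUnit (algebraMap C S' t) ∧ ιC t * x = ιC c' := by
    intro x
    obtain ⟨ε, rfl⟩ := Ideal.Quotient.mk_surjective x
    induction ε using TensorProduct.induction_on with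
    | zero => exact ⟨1, 0, by rw [map_one]; exact isUnit_one, by simp⟩
    | tmul s c₀ =>
      obtain ⟨t, c₁, ht, h⟩ := claimS s
      refine ⟨t, c₁ * c₀, ht, ?_⟩
      rw [f1, map_mul]
      linear_combination (ιC c₀) * h
    | add x y hx hy =>
      obtain ⟨t₁, c₁, ht₁, h₁⟩ := hx
      obtain ⟨t₂, c₂, ht₂, h₂⟩ := hy
      refine ⟨t₁ * t₂, t₂ * c₁ + t₁ * c₂, ?_, ?_⟩
      · rw [map_mul]; exact ht₁.mul ht₂
      · simp only [map_add, map_mul] at h₁ h₂ ⊢
        linear_combination (ιC t₂) * h₁ + (ιC t₁) * h₂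
  -- the localization property
  have hmem : ∀ x : B, x ∈ ((IsLocalRing.maximalIdeal S').comap (algebraMap B S')).primeCompl ↔
      IsUnit (algebraMap B S' x) := by
    intro x
    show ¬ (algebraMap B S' x ∈ IsLocalRing.maximalIdeal S') ↔ _
    rw [IsLocalRing.mem_maximalIdeal, mem_nonunits_iff, not_not]
  show IsLocalization _ S'
  rw [isLocalization_iff]
  refine ⟨fun y => (hmem _).1 y.2, ?_, ?_⟩
  · intro z
    obtain ⟨⟨c₀, t'⟩, h⟩ := IsLocalization.surj T' z
    refine ⟨⟨ιC c₀, ⟨ιC (t' : C), (hmem _).2 ?_⟩⟩, ?_⟩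
    · rw [f3C]; exact IsLocalization.map_units S' t'
    · show z * algebraMap B S' (ιC (t' : C)) = algebraMap B S' (ιC c₀)
      rw [f3C, f3C]
      exact h
  · intro x y hxy
    obtain ⟨t, c', ht, h⟩ := claimA (x - y)
    have h1 : algebraMap C S' c' = 0 := by
      rw [← f3C, ← h, map_mul, map_sub, hxy, sub_self, mul_zero]
    obtain ⟨m, hm⟩ := (IsLocalization.map_eq_zero_iff T' S' c').1 h1
    refine ⟨⟨ιC ((m : C) * t), (hmem _).2 ?_⟩, ?_⟩
    · rw [f3C, map_mul]
      exact (IsLocalization.map_units S' m).mul ht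
    · show ιC ((m : C) * t) * x = ιC ((m : C) * t) * y
      rw [← sub_eq_zero, ← mul_sub, map_mul, mul_assoc, h, ← map_mul, hm, map_zero]

end Groth.Agent.Lib.Helper55.FL
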