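import Groth.Agent.Lib.Helper55.FL.CPFMChart
import Groth.Agent.Lib.Helper55.FL.EssCancel

/-!
# Fibre criterion of flatness for modules: essentially finitely presented local rings
-/

set_option autoImplicit false
set_option linter.style.haveILetI false

namespace Groth.Agent.Lib.Helper55.FL

open TensorProduct IsLocalRing

universe u

theorem cpf_module_ess {R S S' M : Type u} [CommRing R] [CommRing S] [CommRing S']
    [IsLocalRing R] [IsLocalRing S] [IsLocalRing S'] [Algebra R S] [Algebra S S'] [Algebra R S']
    [IsScalarTower R S S']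
    [IsLocalHom (algebraMap R S)] [IsLocalHom (algebraMap S S')]
    (hS : ∃ (S₀ : Type u) (_ : CommRing S₀) (_ : Algebra R S₀) (_ : Algebra S₀ S)
      (_ : IsScalarTower R S₀ S) (T : Submonoid S₀),
      Algebra.FinitePresentation R S₀ ∧ IsLocalization T S)
    (hS' : ∃ (S₀ : Type u) (_ : CommRing S₀) (_ : Algebra R S₀) (_ : Algebra S₀ S')
      (_ : IsScalarTower R S₀ S') (T : Submonoid S₀),
      Algebra.FinitePresentation R S₀ ∧ IsLocalization T S')
    [AddCommGroup M] [Module S' M] [Module S M] [Module R M] [IsScalarTower S S' M]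
    [IsScalarTower R S' M]
    [IsScalarTower R S M] [Module.FinitePresentation S' M] [Nontrivial M] [Module.Flat R M]
    (hfib : Module.Flat (S ⧸ (maximalIdeal R).map (algebraMap R S))
      (M ⧸ (maximalIdeal R).map (algebraMap R S) • (⊤ : Submodule S M))) :
    Module.Flat R S ∧ Module.Flat S M := by
  obtain ⟨D, _, _, _, _, T, hDfp, hDloc⟩ := hS
  obtain ⟨C, _, _, _, _, T', hCfp, hCloc⟩ := hS'
  obtain ⟨B, _, _, _, _, hBfp, hBloc⟩ :=
    exists_fp_localization_of_ess (R := R) (D := D) (S := S) (C := C) (S' := S') T T'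
  let q : Ideal B := (maximalIdeal S').comap (algebraMap B S')
  letI : Module B M := Module.compHom M (algebraMap B S')
  haveI : IsScalarTower B S' M := IsScalarTower.of_algebraMap_smul fun _ _ => rfl
  obtain ⟨M₀, _, _, g₀, hM₀fp, hg₀⟩ :=
    exists_fp_model_of_isLocalization (S' := B) (S := S') q.primeCompl M
  haveI : IsLocalization.AtPrime S (maximalIdeal S) := by
    apply IsLocalization.of_le_isUnit
    intro x hx
    have : x ∉ maximalIdeal S := hx
    rw [mem_maximalIdeal, mem_nonunits_iff, not_not] at this
    exact this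
  have hpq : maximalIdeal S = q.comap (algebraMap S B) := by
    rw [Ideal.comap_comap, ← IsScalarTower.algebraMap_eq]
    have h4 : (maximalIdeal S').comap (algebraMap S S') = maximalIdeal S :=
      ((local_hom_TFAE (algebraMap S S')).out 0 4).1 ‹IsLocalHom (algebraMap S S')›
    exact h4.symm
  haveI : IsScalarTower S B M := IsScalarTower.of_algebraMap_smul (fun s m => by
    show algebraMap B S' (algebraMap S B s) • m = s • m
    rw [← IsScalarTower.algebraMap_apply S B S', algebraMap_smul])
  have hM : Module.Flat S M :=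
    flat_of_fibre_chart (R := R) (A₀ := S) (B₀ := B) (A := S) q (maximalIdeal S) hpq g₀ hfib
  haveI := hM
  haveI ff : Module.FaithfullyFlat S M :=
    faithfullyFlat_of_flat_of_finite' (S := S) (S' := S') (M := M)
  exact ⟨Groth.Agent.Lib.Helper6.LocalFlat.flat_of_faithfullyFlat_of_flat
    (R := R) (S := S) (M := M), hM⟩

end Groth.Agent.Lib.Helper55.FL
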