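import Groth.Agent.Lib.Helper55.FL.CPFMChart
import Groth.Agent.Lib.Helper55.FL.ModSchemeOpen
import Groth.Agent.Lib.Lead.PullbackAff4

/-!
# Critère de platitude par fibres for a module on schemes (pointwise form)
-/

set_option autoImplicit false
set_option linter.style.haveILetI false
universe u

open AlgebraicGeometry CategoryTheory CategoryTheory.Limits Opposite

namespace Groth.Agent.Lib.Helper55.FL

open Groth.Agent.Lib.Lead.QCohAff IsLocalRing

theorem exists_affines₃ {X Y S : Scheme.{u}} (f : X ⟶ Y) (g : Y ⟶ S) (x : X) :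
    ∃ (W : S.Opens) (V : Y.Opens) (U : X.Opens), IsAffineOpen W ∧ IsAffineOpen V ∧ IsAffineOpen U ∧
      x ∈ U ∧ U ≤ f ⁻¹ᵁ V ∧ V ≤ g ⁻¹ᵁ W := by
  obtain ⟨_, ⟨W, hW : IsAffineOpen W, rfl⟩, hsW, -⟩ :=
    (S.isBasis_affineOpens).exists_subset_of_mem_open (Set.mem_univ (g (f x))) isOpen_univ
  obtain ⟨_, ⟨V, hV : IsAffineOpen V, rfl⟩, hyV, hVW⟩ :=
    (Y.isBasis_affineOpens).exists_subset_of_mem_open (show f x ∈ (g ⁻¹ᵁ W : Set Y) from hsW)
      (g ⁻¹ᵁ W).isOpen
  obtain ⟨_, ⟨U, hU : IsAffineOpen U, rfl⟩, hxU, hUV⟩ :=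
    (X.isBasis_affineOpens).exists_subset_of_mem_open (show x ∈ (f ⁻¹ᵁ V : Set X) from hyV)
      (f ⁻¹ᵁ V).isOpen
  exact ⟨W, V, U, hW, hV, hU, hxU, hUV, hVW⟩

theorem cpf_module_scheme {X Y S : Scheme.{u}} (f : X ⟶ Y) (g : Y ⟶ S)
    [LocallyOfFinitePresentation (f ≫ g)] [LocallyOfFiniteType g]
    (F : X.Modules) [F.IsQuasicoherent]
    (hfp : SheafOfModules.IsFinitePresentation (R := X.ringCatSheaf) F) (x : X)
    (hx : Nontrivial ↑(F.presheaf.stalk x)) :
    letI := FlatMod.moduleStalkOver f F x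
    (FlatMod.IsFlatOverAt (f ≫ g) F x ∧
      Module.Flat (↑(Y.presheaf.stalk (f x)) ⧸ Ideal.map (g.stalkMap (f x)).hom (IsLocalRing.maximalIdeal ↑(S.presheaf.stalk (g (f x)))))
        (↑(F.presheaf.stalk x) ⧸ (Ideal.map (g.stalkMap (f x)).hom (IsLocalRing.maximalIdeal ↑(S.presheaf.stalk (g (f x)))) •
          (⊤ : Submodule ↑(Y.presheaf.stalk (f x)) ↑(F.presheaf.stalk x))))) ↔
    ((g.stalkMap (f x)).hom.Flat ∧ FlatMod.IsFlatOverAt f F x) := by
  letI modA : Module (Y.presheaf.stalk (f x)) (F.presheaf.stalk x) :=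
    FlatMod.moduleStalkOver f F x
  letI modR : Module (S.presheaf.stalk (g (f x))) (F.presheaf.stalk x) :=
    FlatMod.moduleStalkOver (f ≫ g) F x
  letI algRA : Algebra (S.presheaf.stalk (g (f x))) (Y.presheaf.stalk (f x)) :=
    (g.stalkMap (f x)).hom.toAlgebra
  haveI towRAM : IsScalarTower (S.presheaf.stalk (g (f x))) (Y.presheaf.stalk (f x))
      (F.presheaf.stalk x) := IsScalarTower.of_algebraMap_smul (fun r m => by
    show (f.stalkMap x).hom ((g.stalkMap (f x)).hom r) • m = ((f ≫ g).stalkMap x).hom r • m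
    rw [Scheme.Hom.stalkMap_comp]
    rfl)
  haveI locRA : IsLocalHom (algebraMap (S.presheaf.stalk (g (f x))) (Y.presheaf.stalk (f x))) :=
    inferInstanceAs (IsLocalHom (g.stalkMap (f x)).hom)
  constructor
  · rintro ⟨hR, hfib⟩
    have hRflat : Module.Flat (S.presheaf.stalk (g (f x))) (F.presheaf.stalk x) := hR
    obtain ⟨W, V, U, hW, hV, hU, hxU, hUV, hVW⟩ := exists_affines₃ f g x
    have hyV : f x ∈ V := hUV hxU
    have hUW : U ≤ (f ≫ g) ⁻¹ᵁ W := fun z hz => hVW (hUV hz)
    -- the chart algebra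
    letI algAB : Algebra Γ(Y, V) Γ(X, U) := (f.appLE V U hUV).hom.toAlgebra
    haveI fpAB : Algebra.FinitePresentation Γ(Y, V) Γ(X, U) := by
      have h1 : ((f ≫ g).appLE W U hUW).hom.FinitePresentation :=
        (f ≫ g).finitePresentation_appLE hW hU hUW
      have h2 : (g.appLE W V hVW).hom.FiniteType := g.finiteType_appLE hW hV hVW
      have h3 : ((f.appLE V U hUV).hom.comp (g.appLE W V hVW).hom).FinitePresentation := by
        rw [← CommRingCat.hom_comp, Scheme.Hom.appLE_comp_appLE]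
        exact h1
      exact RingHom.FinitePresentation.of_comp_finiteType _ h3 h2
    letI algA : Algebra Γ(Y, V) (Y.presheaf.stalk (f x)) :=
      Y.presheaf.algebra_section_stalk ⟨f x, hyV⟩
    haveI locA : IsLocalization.AtPrime (Y.presheaf.stalk (f x))
        (hV.primeIdealOf ⟨f x, hyV⟩).asIdeal := hV.isLocalization_stalk ⟨f x, hyV⟩
    have hpq : (hV.primeIdealOf ⟨f x, hyV⟩).asIdeal =
        (hU.primeIdealOf ⟨x, hxU⟩).asIdeal.comap (algebraMap Γ(Y, V) Γ(X, U)) :=
      (congrArg PrimeSpectrum.asIdeal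
        (IsAffineOpen.comap_primeIdealOf_appLE V hV U hU hUV hxU)).symm
    -- module structures on the stalk
    letI modA' : Module (Y.presheaf.stalk (f x)) (StalkOver F U x hxU) := modA
    letI modR' : Module (S.presheaf.stalk (g (f x))) (StalkOver F U x hxU) := modR
    haveI towRAM' : IsScalarTower (S.presheaf.stalk (g (f x))) (Y.presheaf.stalk (f x))
        (StalkOver F U x hxU) := towRAM
    letI modA₀ : Module Γ(Y, V) (StalkOver F U x hxU) :=
      Module.compHom (StalkOver F U x hxU) (algebraMap Γ(Y, V) (Y.presheaf.stalk (f x)))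
    haveI towA₀A : IsScalarTower Γ(Y, V) (Y.presheaf.stalk (f x)) (StalkOver F U x hxU) :=
      IsScalarTower.of_algebraMap_smul fun _ _ => rfl
    haveI towA₀B₀ : IsScalarTower Γ(Y, V) Γ(X, U) (StalkOver F U x hxU) :=
      IsScalarTower.of_algebraMap_smul (fun a m => by
        show X.presheaf.germ U x hxU (f.appLE V U hUV a) • m.toStalk =
          f.stalkMap x (Y.presheaf.germ V (f x) hyV a) • m.toStalk
        rw [stalkMap_germ_appLE f hUV x hxU a])
    haveI : Module.FinitePresentation Γ(X, U) Γ(F, U) :=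
      Groth.Agent.Lib.Helper2.FinTypeAff.finitePresentation_sections F hU
    haveI : Module.Flat (S.presheaf.stalk (g (f x))) (StalkOver F U x hxU) := hRflat
    have hA : Module.Flat (Y.presheaf.stalk (f x)) (StalkOver F U x hxU) :=
      flat_of_fibre_chart (R := S.presheaf.stalk (g (f x))) (A₀ := Γ(Y, V)) (B₀ := Γ(X, U))
        (A := Y.presheaf.stalk (f x)) (hU.primeIdealOf ⟨x, hxU⟩).asIdeal
        (hV.primeIdealOf ⟨f x, hyV⟩).asIdeal hpq (germL F U x hxU) hfib
    have hA' : Module.Flat (Y.presheaf.stalk (f x)) (F.presheaf.stalk x) := hA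
    refine ⟨?_, hA'⟩
    -- flatness of `g` at `f x` via faithful flatness of the stalk
    letI algAB' : Algebra (Y.presheaf.stalk (f x)) (X.presheaf.stalk x) :=
      (f.stalkMap x).hom.toAlgebra
    haveI locAB : IsLocalHom (algebraMap (Y.presheaf.stalk (f x)) (X.presheaf.stalk x)) :=
      inferInstanceAs (IsLocalHom (f.stalkMap x).hom)
    haveI towABM : IsScalarTower (Y.presheaf.stalk (f x)) (X.presheaf.stalk x)
        (F.presheaf.stalk x) := IsScalarTower.of_algebraMap_smul fun _ _ => rfl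
    letI algB : Algebra Γ(X, U) (X.presheaf.stalk x) :=
      X.presheaf.algebra_section_stalk ⟨x, hxU⟩
    haveI locB : IsLocalization.AtPrime (X.presheaf.stalk x)
        (hU.primeIdealOf ⟨x, hxU⟩).asIdeal := hU.isLocalization_stalk ⟨x, hxU⟩
    letI modB : Module (X.presheaf.stalk x) (StalkOver F U x hxU) :=
      FlatMod.moduleStalk F x
    haveI towB₀B : IsScalarTower Γ(X, U) (X.presheaf.stalk x) (StalkOver F U x hxU) :=
      IsScalarTower.of_algebraMap_smul fun _ _ => rfl
    haveI finM : Module.Finite (X.presheaf.stalk x) (StalkOver F U x hxU) :=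
      Module.Finite.of_isLocalizedModule (hU.primeIdealOf ⟨x, hxU⟩).asIdeal.primeCompl
        (Rₚ := X.presheaf.stalk x) (germL F U x hxU)
    haveI finM' : Module.Finite (X.presheaf.stalk x) (F.presheaf.stalk x) := finM
    haveI := hA'
    haveI := hRflat
    haveI ff : Module.FaithfullyFlat (Y.presheaf.stalk (f x)) (F.presheaf.stalk x) :=
      faithfullyFlat_of_flat_of_finite' (S := Y.presheaf.stalk (f x))
        (S' := X.presheaf.stalk x) (M := F.presheaf.stalk x)
    exact Groth.Agent.Lib.Helper6.LocalFlat.flat_of_faithfullyFlat_of_flat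
      (R := S.presheaf.stalk (g (f x))) (S := Y.presheaf.stalk (f x)) (M := F.presheaf.stalk x)
  · rintro ⟨hg, hA⟩
    haveI hRA : Module.Flat (S.presheaf.stalk (g (f x))) (Y.presheaf.stalk (f x)) := hg
    haveI hA' : Module.Flat (Y.presheaf.stalk (f x)) (F.presheaf.stalk x) := hA
    refine ⟨?_, ?_⟩
    · exact Module.Flat.trans (S.presheaf.stalk (g (f x))) (Y.presheaf.stalk (f x))
        (F.presheaf.stalk x)
    · exact (Groth.Agent.Lib.Helper54.CPF.flat_quot_iff _).2 inferInstance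

end Groth.Agent.Lib.Helper55.FL
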