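import Groth.Agent.Lib.Helper55.FL.ModuleDescent
import Groth.Prelude.Def_FlatCA

set_option autoImplicit false
universe u v

namespace Groth.Agent.Lib.Helper55.FL

open TensorProduct

section lift

variable {k : Type u} [CommRing k] [IsNoetherianRing k]
  {ι : Type u} [Preorder ι] (G : ι → Type u) [∀ i, CommRing (G i)] [∀ i, Algebra k (G i)]
  (g : ∀ i j, i ≤ j → G i →+* G j)
  (hgk : ∀ i j (h : i ≤ j), (g i j h).comp (algebraMap k (G i)) = algebraMap k (G j))
  (A : Type u) [CommRing A] [Algebra k A] [∀ i, Algebra (G i) A] [∀ i, IsScalarTower k (G i) A]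
  (hcolim : FlatCA.IsDirectedColimitRing G g A)

include hgk hcolim in
theorem exists_algHom_of_fg (A' : Subalgebra k A) (hA' : A'.FG) :
    ∃ j : ι, Nonempty (↥A' →ₐ[k] G j) := by
  classical
  obtain ⟨hdir, hne, hid, hcomp, hcompat, hsurj, hker⟩ := hcolim
  haveI := hdir
  haveI := hne
  haveI : Algebra.FiniteType k ↥A' := (Subalgebra.fg_iff_finiteType A').1 hA'
  haveI : Algebra.FinitePresentation k ↥A' :=
    Algebra.FinitePresentation.of_finiteType.1 inferInstance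
  obtain ⟨n, f, hf, hfg⟩ := Algebra.FinitePresentation.out (R := k) (A := ↥A')
  have hl : ∀ l : Fin n, ∃ i, ∃ x : G i,
      algebraMap (G i) A x = (f (MvPolynomial.X l) : A) := fun l => hsurj _
  choose il xl hxl using hl
  obtain ⟨i₀, hi₀⟩ := Finset.exists_le (Finset.univ.image il)
  have hil : ∀ l, il l ≤ i₀ := fun l => hi₀ _ (Finset.mem_image_of_mem _ (Finset.mem_univ l))
  let x' : Fin n → G i₀ := fun l => g (il l) i₀ (hil l) (xl l)
  have hx' : ∀ l, algebraMap (G i₀) A (x' l) = (f (MvPolynomial.X l) : A) := fun l => by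
    rw [← hxl l]
    exact RingHom.congr_fun (hcompat (il l) i₀ (hil l)) (xl l)
  let φ₀ : MvPolynomial (Fin n) k →ₐ[k] G i₀ := MvPolynomial.aeval x'
  have hφ₀ : ∀ p, algebraMap (G i₀) A (φ₀ p) = (f p : A) := by
    intro p
    have : (IsScalarTower.toAlgHom k (G i₀) A).comp φ₀ = A'.val.comp f := by
      apply MvPolynomial.algHom_ext
      intro l
      simp [φ₀, hx']
    exact AlgHom.congr_fun this p
  obtain ⟨T, hT⟩ := hfg
  have hz : ∀ t ∈ T, ∃ j, i₀ ≤ j ∧ ∀ h : i₀ ≤ j, g i₀ j h (φ₀ t) = 0 := by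
    intro t ht
    have h0 : algebraMap (G i₀) A (φ₀ t) = 0 := by
      rw [hφ₀]
      have : t ∈ RingHom.ker f := hT ▸ Ideal.subset_span ht
      rw [RingHom.mem_ker] at this
      rw [this]
      rfl
    obtain ⟨j, h, hj⟩ := hker i₀ _ h0
    exact ⟨j, h, fun _ => hj⟩
  choose! jt hjt hjt0 using hz
  obtain ⟨j, hj⟩ := Finset.exists_le (insert i₀ (T.image jt))
  have hi₀j : i₀ ≤ j := hj _ (Finset.mem_insert_self _ _)
  have hjtj : ∀ t ∈ T, jt t ≤ j := fun t ht =>
    hj _ (Finset.mem_insert_of_mem (Finset.mem_image_of_mem _ ht))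
  let gj : G i₀ →ₐ[k] G j :=
    { g i₀ j hi₀j with commutes' := fun c => RingHom.congr_fun (hgk i₀ j hi₀j) c }
  let φj : MvPolynomial (Fin n) k →ₐ[k] G j := gj.comp φ₀
  have hkill : ∀ a ∈ RingHom.ker f, φj a = 0 := by
    have hle : RingHom.ker f ≤ RingHom.ker φj := by
      have hT' : Ideal.span (T : Set (MvPolynomial (Fin n) k)) = RingHom.ker f := hT
      rw [← hT', Ideal.span_le]
      intro t ht
      show φj t = 0
      have h1 : g i₀ j hi₀j (φ₀ t) = g (jt t) j (hjtj t ht) (g i₀ (jt t) (hjt t ht) (φ₀ t)) :=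
        (RingHom.congr_fun (hcomp i₀ (jt t) j (hjt t ht) (hjtj t ht)) (φ₀ t)).symm
      show g i₀ j hi₀j (φ₀ t) = 0
      rw [h1, hjt0 t ht, map_zero]
    exact fun a ha => hle ha
  exact ⟨j, ⟨(Ideal.Quotient.liftₐ (RingHom.ker f) φj hkill).comp
    (Ideal.quotientKerAlgEquivOfSurjective hf).symm.toAlgHom⟩⟩

end lift

section main

theorem flat_colim_iff {A₀ : Type u} [CommRing A₀]
    {ι : Type u} [Preorder ι] (G : ι → Type u) [∀ i, CommRing (G i)] [∀ i, Algebra A₀ (G i)]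
    (g : ∀ i j, i ≤ j → G i →+* G j)
    (hgA : ∀ i j (h : i ≤ j), (g i j h).comp (algebraMap A₀ (G i)) = algebraMap A₀ (G j))
    (A : Type u) [CommRing A] [Algebra A₀ A] [∀ i, Algebra (G i) A] [∀ i, IsScalarTower A₀ (G i) A]
    (hcolim : FlatCA.IsDirectedColimitRing G g A)
    {B₀ : Type u} [CommRing B₀] [Algebra A₀ B₀] [Algebra.FinitePresentation A₀ B₀]
    (M₀ : Type u) [AddCommGroup M₀] [Module B₀ M₀] [Module A₀ M₀] [IsScalarTower A₀ B₀ M₀]
    [Module.FinitePresentation B₀ M₀] :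
    Module.Flat A (A ⊗[A₀] M₀) ↔ ∃ i : ι, Module.Flat (G i) (G i ⊗[A₀] M₀) := by
  constructor
  · intro hfl
    obtain ⟨k₁, _, _, S₁, _, _, M₁, _, _, _, _, hk₁, hS₁, hM₁, ⟨eRM⟩⟩ :=
      exists_module_model (R := A₀) (S := B₀) (M := M₀)
    haveI : IsNoetherianRing k₁ := Algebra.FiniteType.isNoetherianRing ℤ k₁
    letI algG : ∀ i, Algebra k₁ (G i) := fun i =>
      ((algebraMap A₀ (G i)).comp (algebraMap k₁ A₀)).toAlgebra
    letI algA : Algebra k₁ A := ((algebraMap A₀ A).comp (algebraMap k₁ A₀)).toAlgebra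
    haveI tG : ∀ i, IsScalarTower k₁ A₀ (G i) := fun i => .of_algebraMap_eq fun _ => rfl
    haveI tA : IsScalarTower k₁ A₀ A := .of_algebraMap_eq fun _ => rfl
    haveI tGA : ∀ i, IsScalarTower k₁ (G i) A := fun i => .of_algebraMap_eq fun x => by
      show algebraMap A₀ A (algebraMap k₁ A₀ x) =
        algebraMap (G i) A (algebraMap A₀ (G i) (algebraMap k₁ A₀ x))
      rw [← IsScalarTower.algebraMap_apply A₀ (G i) A]
    have tr : ∀ (C : Type u) [CommRing C] [Algebra A₀ C] [Algebra k₁ C] [IsScalarTower k₁ A₀ C],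
        Nonempty (C ⊗[A₀] M₀ ≃ₗ[C] C ⊗[k₁] M₁) := fun C _ _ _ _ =>
      ⟨(AlgebraTensorModule.congr (LinearEquiv.refl C C) eRM.symm).trans
        (AlgebraTensorModule.cancelBaseChange k₁ A₀ C C M₁)⟩
    obtain ⟨eA⟩ := tr A
    have hfl' : Module.Flat A (A ⊗[k₁] M₁) := Module.Flat.of_linearEquiv eA.symm
    obtain ⟨A', hA', hflA'⟩ :=
      exists_fg_flat_module (k := k₁) (R := A) (S₁ := S₁) (M₁ := M₁) hfl'
    have hgk : ∀ i j (h : i ≤ j), (g i j h).comp (algebraMap k₁ (G i)) = algebraMap k₁ (G j) := by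
      intro i j h
      show (g i j h).comp ((algebraMap A₀ (G i)).comp (algebraMap k₁ A₀)) =
        (algebraMap A₀ (G j)).comp (algebraMap k₁ A₀)
      rw [← RingHom.comp_assoc, hgA]
    obtain ⟨j, ⟨ψ⟩⟩ := exists_algHom_of_fg G g hgk A hcolim A' hA'
    letI algA'G : Algebra ↥A' (G j) := ψ.toRingHom.toAlgebra
    haveI : IsScalarTower k₁ ↥A' (G j) := .of_algebraMap_eq fun x => (ψ.commutes x).symm
    have h1 : Module.Flat (G j) (G j ⊗[↥A'] (↥A' ⊗[k₁] M₁)) := inferInstance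
    have h2 : Module.Flat (G j) (G j ⊗[k₁] M₁) :=
      Module.Flat.of_linearEquiv
        (AlgebraTensorModule.cancelBaseChange k₁ ↥A' (G j) (G j) M₁).symm
    obtain ⟨eG⟩ := tr (G j)
    exact ⟨j, Module.Flat.of_linearEquiv eG⟩
  · rintro ⟨i, hi⟩
    exact Module.Flat.of_linearEquiv
      (AlgebraTensorModule.cancelBaseChange A₀ (G i) A A M₀).symm

end main

end Groth.Agent.Lib.Helper55.FL
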