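import Mathlib.Algebra.Colimit.TensorProduct
import Mathlib.RingTheory.TensorProduct.Basic
import Mathlib.RingTheory.TensorProduct.Maps
import Mathlib.RingTheory.FiniteType
import Mathlib.LinearAlgebra.TensorProduct.Finiteness

set_option autoImplicit false
universe u v

namespace Groth.Agent.Lib.Helper55.FL

open TensorProduct

section

variable {k : Type u} [CommRing k] (R : Type u) [CommRing R] [Algebra k R]
  (N : Type u) [CommRing N] [Algebra k N]

noncomputable def phi (R₁ : Subalgebra k R) : ↥R₁ ⊗[k] N →ₐ[k] R ⊗[k] N :=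
  Algebra.TensorProduct.map R₁.val (AlgHom.id k N)

noncomputable def iota {R₁ R₂ : Subalgebra k R} (h : R₁ ≤ R₂) : ↥R₁ ⊗[k] N →ₐ[k] ↥R₂ ⊗[k] N :=
  Algebra.TensorProduct.map (Subalgebra.inclusion h) (AlgHom.id k N)

variable {R N}

@[simp]
lemma phi_tmul (R₁ : Subalgebra k R) (a : ↥R₁) (n : N) :
    phi R N R₁ (a ⊗ₜ[k] n) = (a : R) ⊗ₜ[k] n := by
  simp [phi]

@[simp]
lemma iota_tmul {R₁ R₂ : Subalgebra k R} (h : R₁ ≤ R₂) (a : ↥R₁) (n : N) :
    iota R N h (a ⊗ₜ[k] n) = Subalgebra.inclusion h a ⊗ₜ[k] n := by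
  simp [iota]

lemma phi_iota {R₁ R₂ : Subalgebra k R} (h : R₁ ≤ R₂) (z : ↥R₁ ⊗[k] N) :
    phi R N R₂ (iota R N h z) = phi R N R₁ z := by
  induction z using TensorProduct.induction_on with
  | zero => simp
  | add a b ha hb => simp only [map_add, ha, hb]
  | tmul a n => simp

lemma iota_iota {R₁ R₂ R₃ : Subalgebra k R} (h : R₁ ≤ R₂) (h' : R₂ ≤ R₃) (z : ↥R₁ ⊗[k] N) :
    iota R N h' (iota R N h z) = iota R N (h.trans h') z := by
  induction z using TensorProduct.induction_on with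
  | zero => simp
  | add a b ha hb => simp only [map_add, ha, hb]
  | tmul a n => simp [Subalgebra.inclusion_inclusion]

lemma phi_eq_rTensor (R₁ : Subalgebra k R) (z : ↥R₁ ⊗[k] N) :
    phi R N R₁ z = (R₁.val.toLinearMap.rTensor N) z := by
  induction z using TensorProduct.induction_on with
  | zero => simp
  | add a b ha hb => simp only [map_add, ha, hb]
  | tmul a n => simp

lemma iota_eq_rTensor {R₁ R₂ : Subalgebra k R} (h : R₁ ≤ R₂) (z : ↥R₁ ⊗[k] N) :
    iota R N h z = ((Subalgebra.inclusion h).toLinearMap.rTensor N) z := by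
  induction z using TensorProduct.induction_on with
  | zero => simp
  | add a b ha hb => simp only [map_add, ha, hb]
  | tmul a n => simp

lemma phi_smul (R₁ : Subalgebra k R) (s : ↥R₁) (z : ↥R₁ ⊗[k] N) :
    phi R N R₁ (s • z) = (s : R) • phi R N R₁ z := by
  induction z using TensorProduct.induction_on with
  | zero => simp
  | add a b ha hb => simp only [smul_add, map_add, ha, hb]
  | tmul a n => simp [TensorProduct.smul_tmul']

lemma iota_smul {R₁ R₂ : Subalgebra k R} (h : R₁ ≤ R₂) (s : ↥R₁) (z : ↥R₁ ⊗[k] N) :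
    iota R N h (s • z) = Subalgebra.inclusion h s • iota R N h z := by
  induction z using TensorProduct.induction_on with
  | zero => simp
  | add a b ha hb => simp only [smul_add, map_add, ha, hb]
  | tmul a n => simp [TensorProduct.smul_tmul']

lemma range_phi_mono {R₁ R₂ : Subalgebra k R} (h : R₁ ≤ R₂) {z : R ⊗[k] N}
    (hz : z ∈ Set.range (phi R N R₁)) : z ∈ Set.range (phi R N R₂) := by
  obtain ⟨y, rfl⟩ := hz
  exact ⟨iota R N h y, phi_iota h y⟩

lemma exists_fg_mem_range (z : R ⊗[k] N) :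
    ∃ R₁ : Subalgebra k R, R₁.FG ∧ z ∈ Set.range (phi R N R₁) := by
  induction z using TensorProduct.induction_on with
  | zero => exact ⟨⊥, Subalgebra.fg_bot, 0, map_zero _⟩
  | tmul a n =>
    refine ⟨Algebra.adjoin k {a}, Subalgebra.fg_adjoin_finset {a} |> fun h => by simpa using h,
      (⟨a, Algebra.subset_adjoin (Set.mem_singleton a)⟩ : ↥(Algebra.adjoin k {a})) ⊗ₜ[k] n,
      phi_tmul _ _ _⟩
  | add a b ha hb =>
    obtain ⟨R₁, h₁, ha⟩ := ha
    obtain ⟨R₂, h₂, hb⟩ := hb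
    obtain ⟨a', rfl⟩ := range_phi_mono (le_sup_left : R₁ ≤ R₁ ⊔ R₂) ha
    obtain ⟨b', rfl⟩ := range_phi_mono (le_sup_right : R₂ ≤ R₁ ⊔ R₂) hb
    exact ⟨R₁ ⊔ R₂, h₁.sup h₂, a' + b', map_add _ _ _⟩

lemma exists_fg_forall_mem_range (D : Finset (R ⊗[k] N)) :
    ∃ R₁ : Subalgebra k R, R₁.FG ∧ ∀ z ∈ D, z ∈ Set.range (phi R N R₁) := by
  classical
  induction D using Finset.induction_on with
  | empty => exact ⟨⊥, Subalgebra.fg_bot, by simp⟩
  | insert z D _ ih =>
    obtain ⟨R₁, h₁, hD⟩ := ih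
    obtain ⟨R₂, h₂, hz⟩ := exists_fg_mem_range z
    refine ⟨R₁ ⊔ R₂, h₁.sup h₂, ?_⟩
    intro y hy
    rcases Finset.mem_insert.1 hy with rfl | hy
    · exact range_phi_mono le_sup_right hz
    · exact range_phi_mono le_sup_left (hD y hy)

theorem exists_fg_iota_eq_zero (R' : Subalgebra k R) (hR' : R'.FG) (z : ↥R' ⊗[k] N)
    (hz : phi R N R' z = 0) :
    ∃ (R₁ : Subalgebra k R) (h : R' ≤ R₁), R₁.FG ∧ iota R N h z = 0 := by
  classical
  obtain ⟨M', hM', hzM'⟩ := TensorProduct.exists_finite_submodule_left_of_setFinite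
    ({z} : Set (↥R' ⊗[k] N)) (Set.finite_singleton z)
  obtain ⟨z₀, hz₀⟩ := hzM' (Set.mem_singleton z)
  let v : ↥R' →ₗ[k] R := R'.val.toLinearMap
  let L : Submodule k R := M'.map v
  let e₀ : ↥M' →ₗ[k] ↥L := v.submoduleMap M'
  have hL : L.FG := (Module.Finite.iff_fg.1 hM').map v
  have hcomp : L.subtype ∘ₗ e₀ = v ∘ₗ M'.subtype := by
    ext y
    rfl
  have h1 : L.subtype.rTensor N (e₀.rTensor N z₀) = L.subtype.rTensor N 0 := by
    rw [← LinearMap.comp_apply, ← LinearMap.rTensor_comp, hcomp, LinearMap.rTensor_comp,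
      LinearMap.comp_apply, hz₀, map_zero, ← phi_eq_rTensor]
    exact hz
  obtain ⟨L', hL', hle, hzero⟩ := hL.exists_rTensor_fg_inclusion_eq h1
  obtain ⟨s, hs⟩ := hL'
  let R₁ : Subalgebra k R := R' ⊔ Algebra.adjoin k (s : Set R)
  have hR₁ : R₁.FG := hR'.sup (Subalgebra.fg_adjoin_finset s)
  have hL'R₁ : ∀ y ∈ L', y ∈ R₁ := by
    intro y hy
    rw [← hs] at hy
    refine Submodule.span_induction ?_ (zero_mem _) (fun _ _ _ _ => add_mem)
      (fun c _ _ h => Subalgebra.smul_mem _ h c) hy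
    intro w hw
    exact (le_sup_right : _ ≤ R₁) (Algebra.subset_adjoin hw)
  let j' : ↥L' →ₗ[k] ↥R₁ :=
    { toFun := fun y => ⟨y.1, hL'R₁ y.1 y.2⟩
      map_add' := fun _ _ => rfl
      map_smul' := fun _ _ => rfl }
  refine ⟨R₁, le_sup_left, hR₁, ?_⟩
  have hcomp2 : (Subalgebra.inclusion (le_sup_left : R' ≤ R₁)).toLinearMap ∘ₗ M'.subtype =
      j' ∘ₗ Submodule.inclusion hle ∘ₗ e₀ := by
    ext y
    rfl
  rw [iota_eq_rTensor, ← hz₀, ← LinearMap.comp_apply, ← LinearMap.rTensor_comp, hcomp2,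
    LinearMap.rTensor_comp, LinearMap.rTensor_comp, LinearMap.comp_apply, LinearMap.comp_apply,
    hzero, map_zero, map_zero]

theorem exists_fg_forall_iota_eq_zero (R' : Subalgebra k R) (hR' : R'.FG)
    (D : Finset (↥R' ⊗[k] N)) (hD : ∀ z ∈ D, phi R N R' z = 0) :
    ∃ (R₁ : Subalgebra k R) (h : R' ≤ R₁), R₁.FG ∧ ∀ z ∈ D, iota R N h z = 0 := by
  classical
  induction D using Finset.induction_on with
  | empty => exact ⟨R', le_rfl, hR', by simp⟩
  | insert z D _ ih =>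
    obtain ⟨R₁, h, hR₁, hz⟩ := ih (fun y hy => hD y (Finset.mem_insert_of_mem hy))
    have h0 : phi R N R₁ (iota R N h z) = 0 := by
      rw [phi_iota]
      exact hD z (Finset.mem_insert_self z D)
    obtain ⟨R₂, h', hR₂, hz'⟩ := exists_fg_iota_eq_zero R₁ hR₁ (iota R N h z) h0
    refine ⟨R₂, h.trans h', hR₂, ?_⟩
    intro y hy
    rw [← iota_iota h h']
    rcases Finset.mem_insert.1 hy with rfl | hy
    · exact hz'
    · rw [hz y hy, map_zero]

end

end Groth.Agent.Lib.Helper55.FL
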