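import Groth.Agent.Lib.Helper55.FL.RelA
import Groth.Agent.Lib.Helper55.FL.FiniteStage

set_option autoImplicit false
universe u v

namespace Groth.Agent.Lib.Helper55.FL

open TensorProduct

section top

variable {k : Type u} [CommRing k] {r : ℕ} (x : Fin r → k)
  (R : Type u) [CommRing R] [Algebra k R] (N : Type u) [CommRing N] [Algebra k N]

set_option backward.isDefEq.respectTransparency false in
theorem exists_top_data (q : Ideal (R ⊗[k] N)) [q.IsPrime]
    (hq : Module.Flat R (Localization.AtPrime q)) (ν : Fin r → N) (hν : sig x N ν = 0) :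
    ∃ (K : ℕ) (a : Fin r → Fin K → R) (β : Fin K → R ⊗[k] N) (τ : R ⊗[k] N), τ ∉ q ∧
      (∀ j, ∑ i, algebraMap k R (x i) * a i j = 0) ∧
      ∀ i, τ * ((1 : R) ⊗ₜ[k] ν i) = ∑ j, a i j • β j := by
  classical
  let A := R ⊗[k] N
  let C := Localization.AtPrime q
  let y : Fin r → C := fun i => algebraMap A C ((1 : R) ⊗ₜ[k] ν i)
  have hy : ∑ i, algebraMap k R (x i) • y i = 0 := by
    have h1 : ∀ i, algebraMap k R (x i) • y i = algebraMap A C ((1 : R) ⊗ₜ[k] (x i • ν i)) := by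
      intro i
      rw [TensorProduct.tmul_smul, algebraMap_smul, ← algebraMap_smul A (x i) (y i)]
      simp only [y]
      rw [Algebra.smul_def, Algebra.smul_def, map_mul, ← IsScalarTower.algebraMap_apply]
    simp only [h1]
    have h0 : ∑ i, x i • ν i = 0 := (sig_apply x N ν).symm.trans hν
    rw [← map_sum, ← TensorProduct.tmul_sum, h0, TensorProduct.tmul_zero, map_zero]
  obtain ⟨K, a, Y, hY, ha⟩ := Module.Flat.isTrivialRelation_of_sum_smul_eq_zero (R := R) (M := C)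
    (f := fun i => algebraMap k R (x i)) (x := y) hy
  obtain ⟨b, hb⟩ := IsLocalization.exist_integer_multiples q.primeCompl Finset.univ Y
  choose β hβ using fun j => hb j (Finset.mem_univ j)
  have h2 : ∀ i, algebraMap A C ((b : A) * ((1 : R) ⊗ₜ[k] ν i)) =
      algebraMap A C (∑ j, a i j • β j) := by
    intro i
    rw [map_mul, map_sum]
    change algebraMap A C b * y i = _
    rw [hY i, Finset.mul_sum]
    refine Finset.sum_congr rfl fun j _ => ?_
    rw [Algebra.smul_def (a i j) (β j), map_mul, hβ j, ← IsScalarTower.algebraMap_apply,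
      Algebra.smul_def (a i j) (Y j), Algebra.smul_def]
    ring
  choose s hs using fun i => (IsLocalization.eq_iff_exists q.primeCompl C).1 (h2 i)
  refine ⟨K, a, fun j => (∏ i, (s i : A)) * β j, (∏ i, (s i : A)) * b, ?_, ha, ?_⟩
  · intro hmem
    rcases (Ideal.IsPrime.mem_or_mem inferInstance hmem) with h | h
    · rw [Ideal.IsPrime.prod_mem_iff] at h
      obtain ⟨i, _, hi⟩ := h
      exact (s i).2 hi
    · exact b.2 h
  · intro i
    have hi := hs i
    have hdvd : (s i : A) ∣ ∏ i, (s i : A) := Finset.dvd_prod_of_mem _ (Finset.mem_univ i)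
    obtain ⟨u, hu⟩ := hdvd
    beta_reduce
    rw [hu]
    calc (s i : A) * u * (b : A) * ((1 : R) ⊗ₜ[k] ν i)
        = u * ((s i : A) * ((b : A) * ((1 : R) ⊗ₜ[k] ν i))) := by ring
      _ = u * ((s i : A) * ∑ j, a i j • β j) := by rw [hi]
      _ = ∑ j, a i j • ((s i : A) * u * β j) := by
        rw [Finset.mul_sum, Finset.mul_sum]
        refine Finset.sum_congr rfl fun j _ => ?_
        rw [mul_smul_comm, mul_smul_comm]
        congr 1
        ring

end top

section good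

variable {k : Type u} [CommRing k] {r : ℕ} (x : Fin r → k)
  (R : Type u) [CommRing R] [Algebra k R] (N : Type u) [CommRing N] [Algebra k N]

def Good (q : Ideal (R ⊗[k] N)) (R₁ : Subalgebra k R) (ν : Fin r → N) : Prop :=
  ∃ τ : ↥R₁ ⊗[k] N, phi R N R₁ τ ∉ q ∧
    τ • (fun i => (1 : ↥R₁) ⊗ₜ[k] ν i) ∈
      trivRel (R := ↥R₁) (S := ↥R₁ ⊗[k] N) (fun i => algebraMap k ↥R₁ (x i))

variable {R N}

lemma trivRel_iota {R₁ R₂ : Subalgebra k R} (h : R₁ ≤ R₂) (c : Fin r → ↥R₁ ⊗[k] N)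
    (hc : c ∈ trivRel (R := ↥R₁) (S := ↥R₁ ⊗[k] N) (fun i => algebraMap k ↥R₁ (x i))) :
    (fun i => iota R N h (c i)) ∈
      trivRel (R := ↥R₂) (S := ↥R₂ ⊗[k] N) (fun i => algebraMap k ↥R₂ (x i)) := by
  refine Submodule.span_induction ?_ ?_ ?_ ?_ hc
  · rintro _ ⟨ρ, a, hρ, rfl⟩
    refine Submodule.subset_span ⟨fun i => Subalgebra.inclusion h (ρ i), iota R N h a, ?_, ?_⟩
    · have := congrArg (Subalgebra.inclusion h) hρ
      rw [map_sum, map_zero] at this
      rw [← this]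
      refine Finset.sum_congr rfl fun i _ => ?_
      rw [map_mul]
      rfl
    · ext i
      rw [iota_smul]
  · simp only [Pi.zero_apply, map_zero]
    exact zero_mem _
  · intro a b _ _ ha hb
    simp only [Pi.add_apply, map_add]
    exact add_mem ha hb
  · intro s a _ ha
    simp only [Pi.smul_apply, smul_eq_mul, map_mul]
    exact Submodule.smul_mem _ (iota R N h s) ha

lemma Good.mono {q : Ideal (R ⊗[k] N)} {R₁ R₂ : Subalgebra k R} (h : R₁ ≤ R₂) {ν : Fin r → N}
    (hg : Good x R N q R₁ ν) : Good x R N q R₂ ν := by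
  obtain ⟨τ, hτ, hmem⟩ := hg
  refine ⟨iota R N h τ, by rwa [phi_iota], ?_⟩
  have := trivRel_iota x h _ hmem
  convert this using 1
  ext i
  simp

theorem exists_good (q : Ideal (R ⊗[k] N)) [q.IsPrime]
    (hq : Module.Flat R (Localization.AtPrime q)) (ν : Fin r → N) (hν : sig x N ν = 0) :
    ∃ R₁ : Subalgebra k R, R₁.FG ∧ Good x R N q R₁ ν := by
  classical
  obtain ⟨K, a, β, τ, hτ, ha, heq⟩ := exists_top_data x R N q hq ν hν
  obtain ⟨Ra, hRa, haRa⟩ : ∃ Ra : Subalgebra k R, Ra.FG ∧ ∀ i j, a i j ∈ Ra := by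
    have hfin : (Set.range (Function.uncurry a)).Finite := Set.finite_range _
    refine ⟨Algebra.adjoin k (Set.range (Function.uncurry a)), ?_, fun i j =>
      Algebra.subset_adjoin ⟨(i, j), rfl⟩⟩
    rw [← hfin.coe_toFinset]
    exact Subalgebra.fg_adjoin_finset _
  obtain ⟨Rb, hRb, hD⟩ := exists_fg_forall_mem_range (insert τ (Finset.univ.image β))
  obtain ⟨R', hR', hRaR', hRbR'⟩ : ∃ R' : Subalgebra k R, R'.FG ∧ Ra ≤ R' ∧ Rb ≤ R' :=
    ⟨Ra ⊔ Rb, hRa.sup hRb, le_sup_left, le_sup_right⟩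
  have ha' : ∀ i j, a i j ∈ R' := fun i j => hRaR' (haRa i j)
  obtain ⟨τ', hτ'⟩ := range_phi_mono hRbR' (hD τ (Finset.mem_insert_self _ _))
  choose β' hβ' using fun j => range_phi_mono hRbR'
    (hD (β j) (Finset.mem_insert_of_mem (Finset.mem_image_of_mem β (Finset.mem_univ j))))
  let δ : Fin r → ↥R' ⊗[k] N := fun i =>
    τ' * ((1 : ↥R') ⊗ₜ[k] ν i) - ∑ j, (⟨a i j, ha' i j⟩ : ↥R') • β' j
  have hδ : ∀ z ∈ Finset.univ.image δ, phi R N R' z = 0 := by
    intro z hz
    obtain ⟨i, _, rfl⟩ := Finset.mem_image.1 hz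
    simp only [δ, map_sub, map_mul, map_sum, phi_smul, hτ', hβ']
    rw [show phi R N R' ((1 : ↥R') ⊗ₜ[k] ν i) = (1 : R) ⊗ₜ[k] ν i from phi_tmul _ _ _, heq i,
      sub_self]
  obtain ⟨R₁, h, hR₁, hzero⟩ := exists_fg_forall_iota_eq_zero R' hR' _ hδ
  refine ⟨R₁, hR₁, iota R N h τ', by rwa [phi_iota, hτ'], ?_⟩
  have hsum : (iota R N h τ') • (fun i => (1 : ↥R₁) ⊗ₜ[k] ν i) =
      ∑ j, (fun i => Subalgebra.inclusion h (⟨a i j, ha' i j⟩ : ↥R') • iota R N h (β' j)) := by
    ext i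
    have hi := hzero (δ i) (Finset.mem_image_of_mem δ (Finset.mem_univ i))
    simp only [δ, map_sub, map_mul, map_sum, iota_smul] at hi
    rw [sub_eq_zero] at hi
    rw [Finset.sum_apply, Pi.smul_apply, smul_eq_mul, ← hi]
    congr 1
  rw [hsum]
  refine Submodule.sum_mem _ fun j _ => Submodule.subset_span
    ⟨fun i => Subalgebra.inclusion h (⟨a i j, ha' i j⟩ : ↥R'), iota R N h (β' j), ?_, rfl⟩
  apply Subtype.val_injective
  change R₁.val (∑ i, _) = R₁.val 0
  rw [map_sum, map_zero, ← ha j]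
  refine Finset.sum_congr rfl fun i _ => ?_
  rw [map_mul]
  rfl

end good

end Groth.Agent.Lib.Helper55.FL
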