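import Groth.Agent.Lib.Helper55.FL.DescentMain

set_option autoImplicit false

universe u

namespace Groth.Agent.Lib.Helper55.FL

open TensorProduct

attribute [local instance] Algebra.TensorProduct.rightAlgebra

section nonflat

variable {R S M : Type u} [CommRing R] [CommRing S] [Algebra R S] [AddCommGroup M] [Module S M]
  [Module R M] [IsScalarTower R S M]

theorem descent_of_model_nonflat (k₁ : Type u) [CommRing k₁] [Algebra k₁ R] (S₁ : Type u)
    [CommRing S₁]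
    [Algebra k₁ S₁] (e₁ : R ⊗[k₁] S₁ ≃ₐ[R] S) (n : ℕ) (G' : Set (Fin n → S₁))
    [Algebra.FiniteType ℤ k₁] [Algebra.FiniteType k₁ S₁]
    (eM : M ≃ₗ[S] (Fin n → S) ⧸ Submodule.span S
      ((fun (h : Fin n → S₁) (i : Fin n) => e₁ ((1 : R) ⊗ₜ[k₁] h i)) '' G')) :
    ∃ (R₀ : Type u) (_ : CommRing R₀) (_ : Algebra R₀ R) (S₀ : Type u) (_ : CommRing S₀)
      (_ : Algebra R₀ S₀) (_ : Algebra S₀ S) (_ : Algebra R₀ S) (_ : IsScalarTower R₀ R S)
      (_ : IsScalarTower R₀ S₀ S) (M₀ : Type u) (_ : AddCommGroup M₀) (_ : Module S₀ M₀)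
      (_ : Module R₀ M₀) (_ : IsScalarTower R₀ S₀ M₀) (_ : Module S₀ M) (_ : IsScalarTower S₀ S M)
      (f : M₀ →ₗ[S₀] M),
      Algebra.FiniteType ℤ R₀ ∧ Algebra.FiniteType R₀ S₀ ∧ Module.Finite S₀ M₀ ∧
        Algebra.IsPushout R₀ R S₀ S ∧ IsBaseChange S f := by
  classical
  letI algS₁S : Algebra S₁ S :=
    ((e₁ : R ⊗[k₁] S₁ →+* S).comp (algebraMap S₁ (R ⊗[k₁] S₁))).toAlgebra
  letI algk₁S : Algebra k₁ S := ((algebraMap R S).comp (algebraMap k₁ R)).toAlgebra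
  haveI t1 : IsScalarTower k₁ R S := IsScalarTower.of_algebraMap_eq fun _ => rfl
  haveI t2 : IsScalarTower k₁ S₁ S := IsScalarTower.of_algebraMap_eq fun x => by
    show algebraMap R S (algebraMap k₁ R x) =
      e₁ (algebraMap S₁ (R ⊗[k₁] S₁) (algebraMap k₁ S₁ x))
    rw [← e₁.commutes, ← IsScalarTower.algebraMap_apply k₁ S₁ (R ⊗[k₁] S₁),
      IsScalarTower.algebraMap_apply k₁ R (R ⊗[k₁] S₁)]
  haveI hpo : Algebra.IsPushout k₁ R S₁ S :=
    Algebra.IsPushout.of_equiv (h := (inferInstance : Algebra.IsPushout k₁ R S₁ (R ⊗[k₁] S₁)))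
      e₁ rfl
  letI modS₁M : Module S₁ M := Module.compHom M (algebraMap S₁ S)
  haveI t3 : IsScalarTower S₁ S M := IsScalarTower.of_algebraMap_smul fun _ _ => rfl
  have hspan : spanB S₁ S n G' = Submodule.span S
      ((fun (h : Fin n → S₁) (i : Fin n) => e₁ ((1 : R) ⊗ₜ[k₁] h i)) '' G') := rfl
  let eQ : ((Fin n → S) ⧸ spanB S₁ S n G') ≃ₗ[S] M :=
    (Submodule.quotEquivOfEq _ _ hspan).trans eM.symm
  let f₁ : ((Fin n → S₁) ⧸ Submodule.span S₁ G') →ₗ[S₁] M :=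
    (eQ.toLinearMap.restrictScalars S₁) ∘ₗ quotMap S₁ S n G'
  have hf₁ : IsBaseChange S f₁ :=
    IsBaseChange.of_equiv ((isBaseChange_quotMap S₁ S n G').equiv.trans eQ) fun x => by
      rw [LinearEquiv.trans_apply, IsBaseChange.equiv_tmul, one_smul]
      rfl
  exact ⟨k₁, inferInstance, inferInstance, S₁, inferInstance, inferInstance, algS₁S, algk₁S, t1,
    t2, (Fin n → S₁) ⧸ Submodule.span S₁ G', inferInstance, inferInstance, inferInstance,
    inferInstance, modS₁M, t3, f₁, inferInstance, inferInstance, inferInstance, hpo, hf₁⟩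

end nonflat

/-- Noetherian descent of a finitely presented module over a finitely presented algebra;
flatness descends too when assumed (`P` is a flag). -/
theorem exists_descent (P : Prop) (R : Type u) [CommRing R]
    (S : Type u) [CommRing S] [Algebra R S] [Algebra.FinitePresentation R S] (M : Type u)
    [AddCommGroup M] [Module S M] [Module R M] [IsScalarTower R S M]
    [Module.FinitePresentation S M] (hfl : P → Module.Flat R M) :
    ∃ (R₀ : Type u) (_ : CommRing R₀) (_ : Algebra R₀ R) (S₀ : Type u) (_ : CommRing S₀)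
      (_ : Algebra R₀ S₀) (_ : Algebra S₀ S) (_ : Algebra R₀ S) (_ : IsScalarTower R₀ R S)
      (_ : IsScalarTower R₀ S₀ S) (M₀ : Type u) (_ : AddCommGroup M₀) (_ : Module S₀ M₀)
      (_ : Module R₀ M₀) (_ : IsScalarTower R₀ S₀ M₀) (_ : Module S₀ M) (_ : IsScalarTower S₀ S M)
      (f : M₀ →ₗ[S₀] M),
      Algebra.FiniteType ℤ R₀ ∧ Algebra.FiniteType R₀ S₀ ∧ Module.Finite S₀ M₀ ∧
        (P → Module.Flat R₀ M₀) ∧ Algebra.IsPushout R₀ R S₀ S ∧ IsBaseChange S f := by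
  obtain ⟨k₁, _, _, S₁, _, _, e₁, n, G', h1, h2, -, ⟨eM⟩⟩ :=
    exists_model (R := R) (S := S) (M := M)
  by_cases hP : P
  · haveI := hfl hP
    obtain ⟨R₀, i1, i2, S₀, i3, i4, i5, i6, i7, i8, M₀, i9, i10, i11, i12, i13, i14, f, h1, h2,
      h3, h4, h5, h6⟩ := descent_of_model k₁ S₁ e₁ n G' eM
    exact ⟨R₀, i1, i2, S₀, i3, i4, i5, i6, i7, i8, M₀, i9, i10, i11, i12, i13, i14, f, h1, h2,
      h3, fun _ => h4, h5, h6⟩
  · obtain ⟨R₀, i1, i2, S₀, i3, i4, i5, i6, i7, i8, M₀, i9, i10, i11, i12, i13, i14, f, h1, h2,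
      h3, h5, h6⟩ := descent_of_model_nonflat k₁ S₁ e₁ n G' eM
    exact ⟨R₀, i1, i2, S₀, i3, i4, i5, i6, i7, i8, M₀, i9, i10, i11, i12, i13, i14, f, h1, h2,
      h3, fun h => absurd h hP, h5, h6⟩

end Groth.Agent.Lib.Helper55.FL
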