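import Groth.Agent.Lib.Helper55.FL.StalkFlat
import Groth.Agent.Lib.Helper41.LocImmEssFactor
import Groth.Agent.Lib.Helper41.LocImmStalk
import Groth.Agent.Lib.Helper41.LocImmOpen

set_option autoImplicit false
universe u

namespace Groth.Agent.Lib.Helper55.FL

open AlgebraicGeometry CategoryTheory LocImm Groth.Agent.Lib.Helper41

variable {X Y Z : Scheme.{u}}

theorem flat_of_comp_isIso {A B C : CommRingCat.{u}} (a : A ⟶ B) (b : B ⟶ C) [IsIso b]
    (h : (a ≫ b).hom.Flat) : a.hom.Flat := by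
  have h2 : a = (a ≫ b) ≫ inv b := by simp
  rw [h2, CommRingCat.hom_comp]
  exact RingHom.Flat.comp h
    (RingHom.Flat.of_bijective (ConcreteCategory.bijective_of_isIso (inv b)))

theorem flat_comp_isIso {A B C : CommRingCat.{u}} (a : A ⟶ B) (b : B ⟶ C) [IsIso b]
    (h : a.hom.Flat) : (a ≫ b).hom.Flat := by
  rw [CommRingCat.hom_comp]
  exact RingHom.Flat.comp h
    (RingHom.Flat.of_bijective (ConcreteCategory.bijective_of_isIso b))

theorem stalkMap_comp_flat_iff (k : X ⟶ Z) (p : Z ⟶ Y) (hk : IsLocalizing k) (x : X) :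
    ((k ≫ p).stalkMap x).hom.Flat ↔ (p.stalkMap (k x)).hom.Flat := by
  have := isIso_stalkMap_of_isLocalizing hk x
  rw [Scheme.Hom.stalkMap_comp]
  exact ⟨flat_of_comp_isIso _ _, flat_comp_isIso _ _⟩

theorem flat_fromSpecStalk_comp_iff (f : X ⟶ Y) (x : X) :
    Flat (X.fromSpecStalk x ≫ f) ↔ (f.stalkMap x).hom.Flat := by
  constructor
  · intro h
    have h1 := Flat.stalkMap (X.fromSpecStalk x ≫ f)
      (IsLocalRing.closedPoint (X.presheaf.stalk x))
    rw [stalkMap_comp_flat_iff _ _ (isLocImmersion_fromSpecStalk X x).1] at h1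
    have key : ∀ y : X, y = x → (f.stalkMap y).hom.Flat → (f.stalkMap x).hom.Flat := by
      rintro _ rfl h
      exact h
    exact key _ Scheme.fromSpecStalk_closedPoint h1
  · intro h
    rw [← Scheme.SpecMap_stalkMap_fromSpecStalk]
    have : Flat (Spec.map (f.stalkMap x)) := Flat.SpecMap_iff.2 h
    have : Flat (Y.fromSpecStalk (f x)) :=
      flat_of_isLocalizing (isLocImmersion_fromSpecStalk Y (f x)).1
    infer_instance

theorem isNoetherian_opens [IsNoetherian Z] (W : Z.Opens) : IsNoetherian W.toScheme where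
  toCompactSpace := isCompact_iff_compactSpace.1 (TopologicalSpace.NoetherianSpace.isCompact _)

theorem isOpen_flat_fromSpecStalk_comp [IsNoetherian X] [IsNoetherian Y] (f : X ⟶ Y)
    [IsSeparated f] [EssFT.EssFiniteType f] :
    IsOpen {x : X | Flat (X.fromSpecStalk x ≫ f)} := by
  obtain ⟨Z, k, p, hZ, hk, hsep, hft, hqc, rfl⟩ := exists_factor_of_essFiniteType_scheme f
  have hopen := isOpen_stalkMap_flat p
  have : {x : X | Flat (X.fromSpecStalk x ≫ k ≫ p)} =
      k ⁻¹' {z : Z | (p.stalkMap z).hom.Flat} := by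
    ext x
    rw [Set.mem_ofPred_eq, flat_fromSpecStalk_comp_iff, stalkMap_comp_flat_iff k p hk.1]
    rfl
  rw [this]
  exact hopen.preimage k.continuous

theorem exists_flat_factor [IsNoetherian X] [IsNoetherian Y] (f : X ⟶ Y)
    [IsSeparated f] [EssFT.EssFiniteType f] (hf : Flat f) :
    ∃ (Z : Scheme.{u}) (i : X ⟶ Z) (h : Z ⟶ Y), IsNoetherian Z ∧ LocImm.IsLocImmersion i ∧
      IsSeparated h ∧ LocallyOfFiniteType h ∧ QuasiCompact h ∧ Flat h ∧ i ≫ h = f := by
  obtain ⟨Z, k, p, hZ, hk, hsep, hft, hqc, rfl⟩ := exists_factor_of_essFiniteType_scheme f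
  have hopen := isOpen_stalkMap_flat p
  let W : Z.Opens := ⟨{z : Z | (p.stalkMap z).hom.Flat}, hopen⟩
  have hkW : ∀ x : X, k x ∈ W := fun x =>
    (stalkMap_comp_flat_iff k p hk.1 x).1 (Flat.stalkMap (k ≫ p) x)
  have hrange : Set.range k ⊆ Set.range W.ι := by
    rintro _ ⟨x, rfl⟩
    rw [Scheme.Opens.range_ι]
    exact hkW x
  let i : X ⟶ W.toScheme := IsOpenImmersion.lift W.ι k hrange
  have hi : i ≫ W.ι = k := IsOpenImmersion.lift_fac _ _ _
  refine ⟨W.toScheme, i, W.ι ≫ p, isNoetherian_opens W, ?_, inferInstance, inferInstance,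
    inferInstance, ?_, ?_⟩
  · exact isLocImmersion_of_comp_openImmersion i W.ι (hi ▸ hk)
  · refine (Flat.iff_flat_stalkMap _).2 fun w => ?_
    rw [Scheme.Hom.stalkMap_comp]
    haveI : IsIso (W.ι.stalkMap w) := inferInstance
    exact flat_comp_isIso _ _ w.2
  · rw [← Category.assoc, hi]

end Groth.Agent.Lib.Helper55.FL
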