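import Mathlib
import Groth.Agent.Lib.Lead.FlatTensor
import Groth.Agent.Lib.Helper55.FL.FreeBC

/-!
# Descent of fibrewise flatness along an arbitrary base change

Ring-level ingredients for: the locus where a module flat over `S` is flat over `Y` commutes with
base change `S' → S`.
-/

set_option autoImplicit false
set_option linter.style.haveILetI false
set_option linter.unusedSectionVars false
universe u
open TensorProduct IsLocalRing

namespace Groth.Agent.Lib.Helper55.FL.FibFlatDescent

section split

/-- An injective linear map between modules killed by the maximal ideal of a local ring splits. -/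
theorem exists_retraction_of_torsion (Rs : Type u) [CommRing Rs] [IsLocalRing Rs]
    {K F : Type u} [AddCommGroup K] [Module Rs K] [AddCommGroup F] [Module Rs F]
    (ι : K →ₗ[Rs] F) (hι : Function.Injective ι)
    (hK : ∀ a ∈ maximalIdeal Rs, ∀ k : K, a • k = 0)
    (hF : ∀ a ∈ maximalIdeal Rs, ∀ x : F, a • x = 0) :
    ∃ σ : F →ₗ[Rs] K, ∀ k, σ (ι k) = k := by
  have hTK : Module.IsTorsionBySet Rs K (maximalIdeal Rs) := fun k a => hK a.1 a.2 k
  have hTF : Module.IsTorsionBySet Rs F (maximalIdeal Rs) := fun x a => hF a.1 a.2 x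
  letI : Module (Rs ⧸ maximalIdeal Rs) K := hTK.module
  letI : Module (Rs ⧸ maximalIdeal Rs) F := hTF.module
  haveI : IsScalarTower Rs (Rs ⧸ maximalIdeal Rs) K := hTK.isScalarTower
  haveI : IsScalarTower Rs (Rs ⧸ maximalIdeal Rs) F := hTF.isScalarTower
  letI : Field (Rs ⧸ maximalIdeal Rs) := Ideal.Quotient.field _
  let ι' : K →ₗ[Rs ⧸ maximalIdeal Rs] F :=
    LinearMap.extendScalarsOfSurjective Ideal.Quotient.mk_surjective ι
  have hι' : Function.Injective ι' := hι
  obtain ⟨σ, hσ⟩ := ι'.exists_leftInverse_of_injective (LinearMap.ker_eq_bot.2 hι')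
  exact ⟨σ.restrictScalars Rs, fun k => LinearMap.congr_fun hσ k⟩

end split

section pushout

/-- second half of Tor-independence: a flat module over `B'` preserves injectivity of a base
changed map. -/
theorem lTensor_injective_of_baseChange_injective
    (B B' : Type u) [CommRing B] [CommRing B'] [Algebra B B']
    (T : Type u) [AddCommGroup T] [Module B' T] [Module B T] [IsScalarTower B B' T]
    [Module.Flat B' T]
    {K F : Type u} [AddCommGroup K] [Module B K] [AddCommGroup F] [Module B F]
    (ι : K →ₗ[B] F) (h2 : Function.Injective (ι.baseChange B')) :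
    Function.Injective (ι.lTensor T) := by
  have h3 : Function.Injective ((ι.baseChange B').lTensor T) :=
    Module.Flat.lTensor_preserves_injective_linearMap _ h2
  let cK := AlgebraTensorModule.cancelBaseChange B B' B' T K
  let cF := AlgebraTensorModule.cancelBaseChange B B' B' T F
  have natd : ∀ w : T ⊗[B'] (B' ⊗[B] K),
      ι.lTensor T (cK w) = cF ((ι.baseChange B').lTensor T w) := by
    intro w
    induction w using TensorProduct.induction_on with
    | zero => simp
    | add x y hx hy => simp only [map_add, hx, hy]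
    | tmul c z =>
      induction z using TensorProduct.induction_on with
      | zero => simp
      | add x y hx hy => simp only [tmul_add, map_add, hx, hy]
      | tmul t x => simp [cK, cF]
  intro a b hab
  obtain ⟨a', rfl⟩ := cK.surjective a
  obtain ⟨b', rfl⟩ := cK.surjective b
  rw [natd, natd] at hab
  rw [h3 (cF.injective hab)]

/-- first half: over a pushout square, `B' ⊗_B -` is `A' ⊗_A -`. -/
theorem baseChange_injective_of_isPushout
    (A A' B B' : Type u) [CommRing A] [CommRing A'] [CommRing B] [CommRing B']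
    [Algebra A A'] [Algebra A B] [Algebra A B'] [Algebra B B'] [Algebra A' B']
    [IsScalarTower A B B'] [IsScalarTower A A' B'] [Algebra.IsPushout A A' B B']
    {K F : Type u} [AddCommGroup K] [Module B K] [Module A K] [IsScalarTower A B K]
    [AddCommGroup F] [Module B F] [Module A F] [IsScalarTower A B F]
    (ι : K →ₗ[B] F) (h1 : Function.Injective ((ι.restrictScalars A).lTensor A')) :
    Function.Injective (ι.baseChange B') := by
  let eK := Algebra.IsPushout.cancelBaseChange A A' B B' K
  let eF := Algebra.IsPushout.cancelBaseChange A A' B B' F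
  have natb : ∀ w : A' ⊗[A] K,
      ι.baseChange B' (eK.symm w) = eF.symm ((ι.restrictScalars A).lTensor A' w) := by
    intro w
    induction w using TensorProduct.induction_on with
    | zero => simp
    | add x y hx hy => simp only [map_add, hx, hy]
    | tmul a k =>
      simp only [eK, eF, Algebra.IsPushout.cancelBaseChange_symm_tmul, LinearMap.baseChange_tmul,
        LinearMap.lTensor_tmul, LinearMap.coe_restrictScalars]
  intro a b hab
  obtain ⟨a', rfl⟩ := eK.symm.surjective a
  obtain ⟨b', rfl⟩ := eK.symm.surjective b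
  rw [natb, natb] at hab
  rw [h1 (eF.symm.injective hab)]

/-- An `A`-split injection of modules over a localization `R` of `B` stays injective after
tensoring with a flat algebra `T` over the pushout `B' = B ⊗_A A'`. -/
theorem lTensor_injective_of_split
    (A A' B B' R T : Type u) [CommRing A] [CommRing A'] [CommRing B] [CommRing B'] [CommRing R]
    [CommRing T]
    [Algebra A A'] [Algebra A B] [Algebra A B'] [Algebra B B'] [Algebra A' B']
    [IsScalarTower A B B'] [IsScalarTower A A' B'] [Algebra.IsPushout A A' B B']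
    [Algebra B R] (Sb : Submonoid B) [IsLocalization Sb R]
    [Algebra B' T] [Module.Flat B' T]
    [Algebra R T] [Algebra B T] [IsScalarTower B R T] [IsScalarTower B B' T]
    {K F : Type u} [AddCommGroup K] [Module R K] [Module B K] [IsScalarTower B R K]
    [Module A K] [IsScalarTower A B K]
    [AddCommGroup F] [Module R F] [Module B F] [IsScalarTower B R F]
    [Module A F] [IsScalarTower A B F]
    (ι : K →ₗ[R] F) (σ : F →ₗ[A] K) (hσ : ∀ k, σ (ι k) = k) :
    Function.Injective (ι.lTensor T) := by
  have h1 : Function.Injective (((ι.restrictScalars B).restrictScalars A).lTensor A') := by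
    have hcomp : (σ.lTensor A') ∘ₗ (((ι.restrictScalars B).restrictScalars A).lTensor A') =
        LinearMap.id := by
      rw [← LinearMap.lTensor_comp]
      have : σ ∘ₗ ((ι.restrictScalars B).restrictScalars A) = LinearMap.id :=
        LinearMap.ext fun k => hσ k
      rw [this, LinearMap.lTensor_id]
    intro a b hab
    have := congrArg (σ.lTensor A') hab
    rw [← LinearMap.comp_apply, ← LinearMap.comp_apply, hcomp] at this
    exact this
  have h2 := baseChange_injective_of_isPushout A A' B B' (ι.restrictScalars B) h1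
  have hTB : Function.Injective ((ι.restrictScalars B).lTensor T) :=
    lTensor_injective_of_baseChange_injective B B' T (ι.restrictScalars B) h2
  let eK := IsLocalization.moduleTensorEquiv Sb R T K
  let eF := IsLocalization.moduleTensorEquiv Sb R T F
  have nat : ∀ w : T ⊗[R] K,
      (ι.restrictScalars B).lTensor T (eK w) = eF (ι.lTensor T w) := by
    intro w
    induction w using TensorProduct.induction_on with
    | zero => simp
    | add x y hx hy => simp only [map_add, hx, hy]
    | tmul t x => rfl
  intro a b hab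
  have := congrArg eF hab
  rw [← nat, ← nat] at this
  exact eK.injective (hTB this)

end pushout

section quot

/-- Flatness of the fibre `(A/J) ⊗ M` over `A/J` from injectivity of `M ⊗ -` on maps between
modules killed by `J`. -/
theorem flat_quot_of_lTensor_injective (A : Type u) [CommRing A] (J : Ideal A) (M : Type u)
    [AddCommGroup M] [Module A M]
    (h : ∀ (N₁ N₂ : Type u) [AddCommGroup N₁] [Module A N₁] [AddCommGroup N₂] [Module A N₂]
      (ι : N₁ →ₗ[A] N₂), Function.Injective ι → (∀ a ∈ J, ∀ n : N₁, a • n = 0) →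
      (∀ a ∈ J, ∀ n : N₂, a • n = 0) → Function.Injective (ι.lTensor M)) :
    Module.Flat (A ⧸ J) ((A ⧸ J) ⊗[A] M) := by
  rw [Module.Flat.iff_rTensor_preserves_injective_linearMap]
  intro N₁ N₂ _ _ _ _ ι' hι'
  letI : Module A N₁ := Module.compHom N₁ (algebraMap A (A ⧸ J))
  haveI : IsScalarTower A (A ⧸ J) N₁ := IsScalarTower.of_algebraMap_smul fun _ _ => rfl
  letI : Module A N₂ := Module.compHom N₂ (algebraMap A (A ⧸ J))
  haveI : IsScalarTower A (A ⧸ J) N₂ := IsScalarTower.of_algebraMap_smul fun _ _ => rfl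
  have hk₁ : ∀ a ∈ J, ∀ n : N₁, a • n = 0 := by
    intro a ha n
    change (algebraMap A (A ⧸ J) a) • n = 0
    rw [Ideal.Quotient.algebraMap_eq, Ideal.Quotient.eq_zero_iff_mem.2 ha, zero_smul]
  have hk₂ : ∀ a ∈ J, ∀ n : N₂, a • n = 0 := by
    intro a ha n
    change (algebraMap A (A ⧸ J) a) • n = 0
    rw [Ideal.Quotient.algebraMap_eq, Ideal.Quotient.eq_zero_iff_mem.2 ha, zero_smul]
  have hl := h N₁ N₂ (ι'.restrictScalars A) hι' hk₁ hk₂
  have hr : Function.Injective ((ι'.restrictScalars A).rTensor M) :=
    (LinearMap.lTensor_inj_iff_rTensor_inj M _).1 hl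
  let c₁ := AlgebraTensorModule.cancelBaseChange A (A ⧸ J) (A ⧸ J) N₁ M
  let c₂ := AlgebraTensorModule.cancelBaseChange A (A ⧸ J) (A ⧸ J) N₂ M
  have nat : ∀ w : N₁ ⊗[A ⧸ J] ((A ⧸ J) ⊗[A] M),
      (ι'.restrictScalars A).rTensor M (c₁ w) = c₂ (ι'.rTensor ((A ⧸ J) ⊗[A] M) w) := by
    intro w
    induction w using TensorProduct.induction_on with
    | zero => simp
    | add x y hx hy => simp only [map_add, hx, hy]
    | tmul n z =>
      induction z using TensorProduct.induction_on with
      | zero => simp
      | add x y hx hy => simp only [tmul_add, map_add, hx, hy]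
      | tmul b m => simp [c₁, c₂]
  intro a b hab
  have := congrArg c₂ hab
  rw [← nat, ← nat] at this
  exact c₁.injective (hr this)

end quot

section main

variable (Rs A A' C C' : Type u) [CommRing Rs] [CommRing A] [CommRing A'] [CommRing C]
  [CommRing C'] [IsLocalRing Rs]
  [Algebra Rs A] [Algebra A C] [Algebra Rs C] [IsScalarTower Rs A C]
  [Algebra A A'] [Algebra C C'] [Algebra A' C'] [Algebra A C'] [IsScalarTower A A' C']
  [IsScalarTower A C C'] [SMulCommClass C A' C']
  [IsLocalRing C] [IsLocalRing C'] [IsLocalHom (algebraMap C C')]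

/-- faithfulness of `C' ⊗_C -` on modules killed by `𝔪`. -/
theorem subsingleton_of_subsingleton_tensor
    (HC : ∀ (K F : Type u) [AddCommGroup K] [Module C K] [AddCommGroup F] [Module C F]
      (ι : K →ₗ[C] F), Function.Injective ι →
      (∀ a ∈ maximalIdeal Rs, ∀ k : K, algebraMap Rs C a • k = 0) →
      (∀ a ∈ maximalIdeal Rs, ∀ x : F, algebraMap Rs C a • x = 0) →
      Function.Injective (ι.lTensor C'))
    (K : Type u) [AddCommGroup K] [Module C K]
    (hK : ∀ a ∈ maximalIdeal Rs, ∀ k : K, algebraMap Rs C a • k = 0)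
    [Subsingleton (C' ⊗[C] K)] : Subsingleton K := by
  by_contra hns
  rw [not_subsingleton_iff_nontrivial] at hns
  obtain ⟨k, hk⟩ := exists_ne (0 : K)
  let φ : C →ₗ[C] K := LinearMap.toSpanSingleton C K k
  have hφ : ∀ c : C, φ c = c • k := fun c => rfl
  let 𝔞 : Ideal C := LinearMap.ker φ
  have h𝔞 : 𝔞 ≠ ⊤ := by
    intro h
    have h1 : (1 : C) ∈ 𝔞 := h ▸ Submodule.mem_top
    have h2 : φ 1 = 0 := h1
    rw [hφ, one_smul] at h2
    exact hk h2
  let ψ : (C ⧸ 𝔞) →ₗ[C] K := Submodule.liftQ 𝔞 φ le_rfl
  have hψ : Function.Injective ψ := by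
    rw [← LinearMap.ker_eq_bot]
    exact Submodule.ker_liftQ_eq_bot _ _ _ le_rfl
  have hE : ∀ a ∈ maximalIdeal Rs, ∀ e : C ⧸ 𝔞, algebraMap Rs C a • e = 0 := by
    intro a ha e
    obtain ⟨c, rfl⟩ := Submodule.Quotient.mk_surjective _ e
    rw [← Submodule.Quotient.mk_smul, Submodule.Quotient.mk_eq_zero]
    change φ (algebraMap Rs C a • c) = 0
    rw [hφ, smul_eq_mul, mul_comm, mul_smul, hK a ha k, smul_zero]
  have hinj := HC (C ⧸ 𝔞) K ψ hψ hE hK
  haveI : Subsingleton (C' ⊗[C] (C ⧸ 𝔞)) := hinj.subsingleton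
  let e := TensorProduct.tensorQuotEquivQuotSMul C' 𝔞
  haveI : Subsingleton (C' ⧸ (𝔞 • ⊤ : Submodule C C')) := e.symm.injective.subsingleton
  have htop : (𝔞 • ⊤ : Submodule C C') = ⊤ := Submodule.Quotient.subsingleton_iff.1 inferInstance
  have h1 : (1 : C') ∈ (𝔞 • ⊤ : Submodule C C') := by rw [htop]; exact Submodule.mem_top
  have hle : ∀ x ∈ (𝔞 • ⊤ : Submodule C C'), x ∈ maximalIdeal C' := by
    intro x hx
    refine Submodule.smul_induction_on hx ?_ ?_
    · intro a ha c' _
      rw [Algebra.smul_def]
      apply Ideal.mul_mem_right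
      have : a ∈ maximalIdeal C := IsLocalRing.le_maximalIdeal h𝔞 ha
      exact map_nonunit (algebraMap C C') a this
    · intro x y hx hy
      exact add_mem hx hy
  exact (Ideal.ne_top_iff_one _).1 (IsLocalRing.maximalIdeal.isMaximal C').ne_top (hle 1 h1)

open Groth.Agent.Lib.Lead.FlatTensor in
/-- **Descent of fibrewise flatness.** -/
theorem flat_fibre_of_flat_tensor
    (HA : ∀ (K F : Type u) [AddCommGroup K] [Module A K] [AddCommGroup F] [Module A F]
      (ι : K →ₗ[A] F), Function.Injective ι →
      (∀ a ∈ maximalIdeal Rs, ∀ k : K, algebraMap Rs A a • k = 0) →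
      (∀ a ∈ maximalIdeal Rs, ∀ x : F, algebraMap Rs A a • x = 0) →
      Function.Injective (ι.lTensor A'))
    (HC : ∀ (K F : Type u) [AddCommGroup K] [Module C K] [AddCommGroup F] [Module C F]
      (ι : K →ₗ[C] F), Function.Injective ι →
      (∀ a ∈ maximalIdeal Rs, ∀ k : K, algebraMap Rs C a • k = 0) →
      (∀ a ∈ maximalIdeal Rs, ∀ x : F, algebraMap Rs C a • x = 0) →
      Function.Injective (ι.lTensor C'))
    (M : Type u) [AddCommGroup M] [Module C M] [Module A M] [IsScalarTower A C M]
    [Module.Flat A' (C' ⊗[C] M)] :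
    Module.Flat (A ⧸ (maximalIdeal Rs).map (algebraMap Rs A))
      ((A ⧸ (maximalIdeal Rs).map (algebraMap Rs A)) ⊗[A] M) := by
  apply flat_quot_of_lTensor_injective
  intro N₁ N₂ _ _ _ _ ι hι hN₁ hN₂
  have hN₁' : ∀ a ∈ maximalIdeal Rs, ∀ n : N₁, algebraMap Rs A a • n = 0 :=
    fun a ha n => hN₁ _ (Ideal.mem_map_of_mem _ ha) n
  have hN₂' : ∀ a ∈ maximalIdeal Rs, ∀ n : N₂, algebraMap Rs A a • n = 0 :=
    fun a ha n => hN₂ _ (Ideal.mem_map_of_mem _ ha) n
  let θ : M ⊗[A] N₁ →ₗ[C] M ⊗[A] N₂ := lTensorB (B := C) (M := M) ι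
  change Function.Injective θ
  have hkill : ∀ (N : Type u) [AddCommGroup N] [Module A N],
      (∀ a ∈ maximalIdeal Rs, ∀ n : N, algebraMap Rs A a • n = 0) →
      ∀ a ∈ maximalIdeal Rs, ∀ z : M ⊗[A] N, algebraMap Rs C a • z = 0 := by
    intro N _ _ hN a ha z
    induction z using TensorProduct.induction_on with
    | zero => simp
    | add x y hx hy => rw [smul_add, hx, hy, add_zero]
    | tmul m n =>
      rw [TensorProduct.smul_tmul', IsScalarTower.algebraMap_apply Rs A C, algebraMap_smul C,
        TensorProduct.smul_tmul, hN a ha n, tmul_zero]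
  have hKθ : ∀ a ∈ maximalIdeal Rs, ∀ z : LinearMap.ker θ, algebraMap Rs C a • z = 0 :=
    fun a ha z => Subtype.ext (hkill N₁ hN₁' a ha z.1)
  have hj := HC (LinearMap.ker θ) (M ⊗[A] N₁) (LinearMap.ker θ).subtype
    (LinearMap.ker θ).subtype_injective hKθ (hkill N₁ hN₁')
  have hθ' : Function.Injective (θ.lTensor C') := by
    have hιM' : Function.Injective (ι.lTensor (C' ⊗[C] M)) := by
      apply lTensor_injective_of_baseChange_injective A A' (C' ⊗[C] M) ι
      exact HA N₁ N₂ ι hι hN₁' hN₂'
    let e₁ := AlgebraTensorModule.assoc A C C' C' M N₁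
    let e₂ := AlgebraTensorModule.assoc A C C' C' M N₂
    intro a b hab
    obtain ⟨a', rfl⟩ := e₁.surjective a
    obtain ⟨b', rfl⟩ := e₁.surjective b
    have ha := assoc_lTensor C C' M ι a'
    have hb := assoc_lTensor C C' M ι b'
    change θ.lTensor C' (e₁ a') = e₂ _ at ha
    change θ.lTensor C' (e₁ b') = e₂ _ at hb
    rw [ha, hb] at hab
    rw [hιM' (e₂.injective hab)]
  have hzero : ∀ w : C' ⊗[C] (LinearMap.ker θ), (LinearMap.ker θ).subtype.lTensor C' w = 0 := by
    intro w
    apply hθ'
    rw [map_zero, ← LinearMap.comp_apply, ← LinearMap.lTensor_comp]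
    have : θ ∘ₗ (LinearMap.ker θ).subtype = 0 := by
      ext z
      exact z.2
    rw [this, LinearMap.lTensor_zero, LinearMap.zero_apply]
  haveI : Subsingleton (C' ⊗[C] (LinearMap.ker θ)) :=
    ⟨fun a b => hj (by rw [hzero a, hzero b])⟩
  haveI : Subsingleton (LinearMap.ker θ) :=
    subsingleton_of_subsingleton_tensor Rs C C' HC (LinearMap.ker θ) hKθ
  rw [← LinearMap.ker_eq_bot]
  exact Submodule.eq_bot_of_subsingleton

end main

end Groth.Agent.Lib.Helper55.FL.FibFlatDescent
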