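import Groth.Agent.Lib.Helper55.FL.ModSchemeOpen
import Groth.Agent.Lib.Helper41.QCClosure

/-!
# Openness of the set of points over whose generizations a module is flat
-/

set_option autoImplicit false
set_option linter.style.haveILetI false
universe u

open AlgebraicGeometry CategoryTheory CategoryTheory.Limits

namespace Groth.Agent.Lib.Helper55.FL

/-- For `f` quasi-compact and `N ⊆ X` closed, the set of specializations of points of `f '' N` is
closed. -/
theorem isClosed_specializations_image {X Y : Scheme.{u}} (f : X ⟶ Y) [QuasiCompact f]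
    {N : Set X} (hN : IsClosed N) :
    IsClosed {y : Y | ∃ y' : Y, y' ⤳ y ∧ ∃ x ∈ N, f x = y'} := by
  let I := Scheme.IdealSheafData.vanishingIdeal (X := X) ⟨N, hN⟩
  have hr : Set.range (I.subschemeι ≫ f) = f '' N := by
    rw [Scheme.Hom.comp_base, TopCat.coe_comp, Set.range_comp,
      Scheme.IdealSheafData.range_subschemeι, Scheme.IdealSheafData.coe_support_vanishingIdeal]
    rfl
  have heq : {y : Y | ∃ y' : Y, y' ⤳ y ∧ ∃ x ∈ N, f x = y'} = closure (f '' N) := by
    ext y
    constructor
    · rintro ⟨y', hsp, x, hx, rfl⟩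
      exact hsp.mem_closed isClosed_closure (subset_closure ⟨x, hx, rfl⟩)
    · intro hy
      rw [← hr] at hy
      obtain ⟨z, hz⟩ := Groth.Agent.Lib.Helper41.exists_specializes_of_mem_closure_range
        (I.subschemeι ≫ f) y hy
      have hmem : (I.subschemeι ≫ f) z ∈ f '' N := hr ▸ Set.mem_range_self z
      obtain ⟨x, hx, hxz⟩ := hmem
      exact ⟨_, hz, x, hx, hxz⟩
  rw [heq]
  exact isClosed_closure

theorem isOpen_flat_over_generizations {X Y Z : Scheme.{u}} (f : X ⟶ Y) (g : Y ⟶ Z)
    [LocallyOfFinitePresentation f] [QuasiCompact f]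
    [LocallyOfFinitePresentation g]
    (F : X.Modules) [F.IsQuasicoherent]
    (hF : SheafOfModules.IsFinitePresentation (R := X.ringCatSheaf) F) :
    IsOpen {y : Y | ∀ y' : Y, y' ⤳ y → ∀ x : X, f x = y' →
      FlatMod.IsFlatOverAt (f ≫ g) F x} := by
  have hopen : IsOpen {x : X | FlatMod.IsFlatOverAt (f ≫ g) F x} :=
    isOpen_isFlatOverAt (f ≫ g) F hF
  have hN : IsClosed {x : X | FlatMod.IsFlatOverAt (f ≫ g) F x}ᶜ := hopen.isClosed_compl
  have hcl := isClosed_specializations_image f hN
  have heq : {y : Y | ∀ y' : Y, y' ⤳ y → ∀ x : X, f x = y' →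
      FlatMod.IsFlatOverAt (f ≫ g) F x} =
      {y : Y | ∃ y' : Y, y' ⤳ y ∧ ∃ x ∈ {x : X | FlatMod.IsFlatOverAt (f ≫ g) F x}ᶜ,
        f x = y'}ᶜ := by
    ext y
    simp only [Set.mem_ofPred_eq, Set.mem_compl_iff, not_exists, not_and]
    constructor
    · intro h y' hy' x hx hxy
      exact hx (h y' hy' x hxy)
    · intro h y' hy' x hxy
      by_contra hx
      exact h y' hy' x hx hxy
  rw [heq]
  exact hcl.isOpen_compl

end Groth.Agent.Lib.Helper55.FL
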