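import Groth.Agent.Lib.Helper22.FlatBC
import Groth.Agent.Lib.Helper55.FL.FibFlatDescent
import Groth.Agent.Lib.Helper55.FL.CPFMScheme
import Groth.Agent.Lib.Helper54.CPFModNoeth

/-!
# Fibrewise exactness of stalk base change, for an arbitrary base change
-/

set_option autoImplicit false
set_option linter.style.haveILetI false
universe u
open CategoryTheory CategoryTheory.Limits AlgebraicGeometry TopologicalSpace TensorProduct IsLocalRing

namespace Groth.Agent.Lib.Helper55.FL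

open Groth.Agent.Lib.Lead.PullbackAff Groth.Agent.Lib.Lead.QCohAff Scheme.Modules

/-- For a cartesian square `X' = X ×_S S'`, tensoring with the stalk `O_{X',x'}` over `O_{X,x}`
preserves injectivity of maps between modules killed by the maximal ideal of `O_{S,f x}`. -/
theorem lTensor_stalk_injective {X S X' S' : Scheme.{u}} (f : X ⟶ S) (f' : X' ⟶ S')
    (g' : X' ⟶ X) (g : S' ⟶ S) (hc : IsPullback g' f' f g) (x' : X') (x : X) (hx : g' x' = x)
    [Algebra (X.presheaf.stalk x) (X'.presheaf.stalk x')]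
    (halg : ∀ r, algebraMap (X.presheaf.stalk x) (X'.presheaf.stalk x') r =
      g'.stalkMap x' (X.presheaf.stalkSpecializes (specializes_of_eq hx) r))
    (K F : Type u) [AddCommGroup K] [Module (X.presheaf.stalk x) K]
    [AddCommGroup F] [Module (X.presheaf.stalk x) F]
    (ι : K →ₗ[X.presheaf.stalk x] F) (hι : Function.Injective ι)
    (hK : ∀ a ∈ maximalIdeal (S.presheaf.stalk (f x)), ∀ k : K, f.stalkMap x a • k = 0)
    (hF : ∀ a ∈ maximalIdeal (S.presheaf.stalk (f x)), ∀ z : F, f.stalkMap x a • z = 0) :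
    Function.Injective (ι.lTensor (X'.presheaf.stalk x')) := by
  subst hx
  have halg' : ∀ r, algebraMap (X.presheaf.stalk (g' x')) (X'.presheaf.stalk x') r =
      g'.stalkMap x' r := by
    intro r
    rw [halg]
    have : X.presheaf.stalkSpecializes (specializes_of_eq (rfl : g' x' = g' x')) = 𝟙 _ :=
      TopCat.Presheaf.stalkSpecializes_refl _ _
    rw [this]
    rfl
  -- charts
  obtain ⟨V, hV, hxV, -⟩ := exists_isAffineOpen_mem_and_subset (U := (⊤ : S.Opens))
    (x := f (g' x')) trivial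
  have hx'V' : f' x' ∈ g ⁻¹ᵁ V := by
    change g (f' x') ∈ V
    rw [← Scheme.Hom.comp_apply, ← hc.w, Scheme.Hom.comp_apply]
    exact hxV
  obtain ⟨V', hV', hxV', e'⟩ := exists_isAffineOpen_mem_and_subset hx'V'
  replace e' : V' ≤ g ⁻¹ᵁ V := e'
  have hxU' : g' x' ∈ f ⁻¹ᵁ V := hxV
  obtain ⟨U, hU, hxU, e⟩ := exists_isAffineOpen_mem_and_subset hxU'
  replace e : U ≤ f ⁻¹ᵁ V := e
  have hpush := (isIso_pushoutSection_iff hc e' e rfl).mp
    (isIso_pushoutSection_of_isAffineOpen hc e' e rfl hV hV' hU)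
  have hW : IsAffineOpen (g' ⁻¹ᵁ U ⊓ f' ⁻¹ᵁ V') := by
    have : IsAffine V := hV
    have : IsAffine V' := hV'
    have : IsAffine U := hU
    exact .of_isIso (Scheme.Hom.isPullback_resLE hc e' e rfl).isoPullback.hom
  have hx'W : x' ∈ g' ⁻¹ᵁ U ⊓ f' ⁻¹ᵁ V' := ⟨hxU, hxV'⟩
  -- section rings
  letI algAB : Algebra Γ(S, V) Γ(X, U) := (f.appLE V U e).hom.toAlgebra
  letI algAA' : Algebra Γ(S, V) Γ(S', V') := (g.appLE V V' e').hom.toAlgebra
  letI algBB' : Algebra Γ(X, U) Γ(X', g' ⁻¹ᵁ U ⊓ f' ⁻¹ᵁ V') :=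
    (g'.appLE U _ inf_le_left).hom.toAlgebra
  letI algA'B' : Algebra Γ(S', V') Γ(X', g' ⁻¹ᵁ U ⊓ f' ⁻¹ᵁ V') :=
    (f'.appLE V' _ inf_le_right).hom.toAlgebra
  letI algAB' : Algebra Γ(S, V) Γ(X', g' ⁻¹ᵁ U ⊓ f' ⁻¹ᵁ V') :=
    ((algebraMap Γ(X, U) Γ(X', g' ⁻¹ᵁ U ⊓ f' ⁻¹ᵁ V')).comp
      (algebraMap Γ(S, V) Γ(X, U))).toAlgebra
  haveI t1 : IsScalarTower Γ(S, V) Γ(X, U) Γ(X', g' ⁻¹ᵁ U ⊓ f' ⁻¹ᵁ V') :=
    IsScalarTower.of_algebraMap_eq' rfl
  haveI t2 : IsScalarTower Γ(S, V) Γ(S', V') Γ(X', g' ⁻¹ᵁ U ⊓ f' ⁻¹ᵁ V') :=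
    IsScalarTower.of_algebraMap_eq' (by
      have := congrArg CommRingCat.Hom.hom hpush.w
      exact this)
  haveI hP : Algebra.IsPushout Γ(S, V) Γ(S', V') Γ(X, U) Γ(X', g' ⁻¹ᵁ U ⊓ f' ⁻¹ᵁ V') := by
    apply Algebra.IsPushout.symm
    exact CommRingCat.isPushout_iff_isPushout.mp hpush
  -- stalks
  letI algBR : Algebra Γ(X, U) (X.presheaf.stalk (g' x')) :=
    X.presheaf.algebra_section_stalk ⟨g' x', hxU⟩
  haveI locR := hU.isLocalization_stalk ⟨g' x', hxU⟩
  letI algB'T : Algebra Γ(X', g' ⁻¹ᵁ U ⊓ f' ⁻¹ᵁ V') (X'.presheaf.stalk x') :=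
    X'.presheaf.algebra_section_stalk ⟨x', hx'W⟩
  haveI locT := hW.isLocalization_stalk ⟨x', hx'W⟩
  haveI flT : Module.Flat Γ(X', g' ⁻¹ᵁ U ⊓ f' ⁻¹ᵁ V') (X'.presheaf.stalk x') :=
    IsLocalization.flat _ (hW.primeIdealOf ⟨x', hx'W⟩).asIdeal.primeCompl
  letI algBT : Algebra Γ(X, U) (X'.presheaf.stalk x') :=
    ((algebraMap Γ(X', g' ⁻¹ᵁ U ⊓ f' ⁻¹ᵁ V') (X'.presheaf.stalk x')).comp
      (algebraMap Γ(X, U) Γ(X', g' ⁻¹ᵁ U ⊓ f' ⁻¹ᵁ V'))).toAlgebra
  haveI t3 : IsScalarTower Γ(X, U) Γ(X', g' ⁻¹ᵁ U ⊓ f' ⁻¹ᵁ V') (X'.presheaf.stalk x') :=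
    IsScalarTower.of_algebraMap_eq' rfl
  haveI t4 : IsScalarTower Γ(X, U) (X.presheaf.stalk (g' x')) (X'.presheaf.stalk x') :=
    IsScalarTower.of_algebraMap_eq (fun b => by
      rw [halg']
      change X'.presheaf.germ _ x' hx'W (g'.appLE U _ inf_le_left b) =
        g'.stalkMap x' (X.presheaf.germ U (g' x') hxU b)
      exact (stalkMap_germ_appLE g' inf_le_left x' hx'W b).symm)
  -- module structures
  letI modBK : Module Γ(X, U) K :=
    Module.compHom K (algebraMap Γ(X, U) (X.presheaf.stalk (g' x')))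
  haveI : IsScalarTower Γ(X, U) (X.presheaf.stalk (g' x')) K :=
    IsScalarTower.of_algebraMap_smul fun _ _ => rfl
  letI modAK : Module Γ(S, V) K := Module.compHom K (algebraMap Γ(S, V) Γ(X, U))
  haveI : IsScalarTower Γ(S, V) Γ(X, U) K := IsScalarTower.of_algebraMap_smul fun _ _ => rfl
  letI modBF : Module Γ(X, U) F :=
    Module.compHom F (algebraMap Γ(X, U) (X.presheaf.stalk (g' x')))
  haveI : IsScalarTower Γ(X, U) (X.presheaf.stalk (g' x')) F :=
    IsScalarTower.of_algebraMap_smul fun _ _ => rfl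
  letI modAF : Module Γ(S, V) F := Module.compHom F (algebraMap Γ(S, V) Γ(X, U))
  haveI : IsScalarTower Γ(S, V) Γ(X, U) F := IsScalarTower.of_algebraMap_smul fun _ _ => rfl
  -- the local ring of the base
  letI modRK : Module (S.presheaf.stalk (f (g' x'))) K :=
    Module.compHom K (f.stalkMap (g' x')).hom
  letI modRF : Module (S.presheaf.stalk (f (g' x'))) F :=
    Module.compHom F (f.stalkMap (g' x')).hom
  let ιR : K →ₗ[S.presheaf.stalk (f (g' x'))] F :=
    { toFun := ι, map_add' := ι.map_add, map_smul' := fun r k => ι.map_smul _ k }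
  obtain ⟨σ, hσ⟩ := FibFlatDescent.exists_retraction_of_torsion (S.presheaf.stalk (f (g' x'))) ιR hι
    (fun a ha k => hK a ha k) (fun a ha z => hF a ha z)
  have hact : ∀ (a : Γ(S, V)) (z : F), a • z =
      (S.presheaf.germ V (f (g' x')) hxV a : S.presheaf.stalk (f (g' x'))) • z := by
    intro a z
    change (X.presheaf.germ U (g' x') hxU (f.appLE V U e a)) • z =
      (f.stalkMap (g' x') (S.presheaf.germ V (f (g' x')) hxV a)) • z
    rw [stalkMap_germ_appLE f e (g' x') hxU a]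
  have hactK : ∀ (a : Γ(S, V)) (k : K), a • k =
      (S.presheaf.germ V (f (g' x')) hxV a : S.presheaf.stalk (f (g' x'))) • k := by
    intro a k
    change (X.presheaf.germ U (g' x') hxU (f.appLE V U e a)) • k =
      (f.stalkMap (g' x') (S.presheaf.germ V (f (g' x')) hxV a)) • k
    rw [stalkMap_germ_appLE f e (g' x') hxU a]
  let σA : F →ₗ[Γ(S, V)] K :=
    { toFun := σ, map_add' := σ.map_add, map_smul' := fun a z => by
        simp only [RingHom.id_apply]
        rw [hact, hactK, σ.map_smul] }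
  exact FibFlatDescent.lTensor_injective_of_split Γ(S, V) Γ(S', V') Γ(X, U)
    Γ(X', g' ⁻¹ᵁ U ⊓ f' ⁻¹ᵁ V') (X.presheaf.stalk (g' x')) (X'.presheaf.stalk x')
    (hU.primeIdealOf ⟨g' x', hxU⟩).asIdeal.primeCompl ι σA hσ

/-- Descent of `Y`-flatness along an arbitrary base change `S' → S`, for `F` flat over `S`. -/
theorem isFlatOverAt_of_pullback_of_flat {X Y S X' Y' S' : Scheme.{u}} (f : X ⟶ Y) (g : Y ⟶ S)
    [LocallyOfFinitePresentation (f ≫ g)] [LocallyOfFiniteType g]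
    (F : X.Modules) [F.IsQuasicoherent]
    (hfp : SheafOfModules.IsFinitePresentation (R := X.ringCatSheaf) F)
    (h : S' ⟶ S) (gY : Y' ⟶ Y) (g' : Y' ⟶ S') (hY : IsPullback gY g' g h)
    (gX : X' ⟶ X) (f' : X' ⟶ Y') (hX : IsPullback gX (f' ≫ g') (f ≫ g) h)
    (w : gX ≫ f = f' ≫ gY) (x' : X')
    (hS : FlatMod.IsFlatOverAt (f ≫ g) F (gX x'))
    (hfl' : FlatMod.IsFlatOverAt f' ((Scheme.Modules.pullback gX).obj F) x') :
    FlatMod.IsFlatOverAt f F (gX x') := by
  by_cases hnt : Nontrivial ↑(F.presheaf.stalk (gX x'))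
  swap
  · rw [not_nontrivial_iff_subsingleton] at hnt
    letI := FlatMod.moduleStalkOver f F (gX x')
    show Module.Flat (Y.presheaf.stalk (f (gX x'))) (F.presheaf.stalk (gX x'))
    infer_instance
  have hy : gY (f' x') = f (gX x') := by
    have := congrArg (fun φ : X' ⟶ Y => φ x') w
    simp only [Scheme.Hom.comp_apply] at this
    exact this.symm
  -- algebra structures on the stalks
  letI algRsA : Algebra (S.presheaf.stalk (g (f (gX x')))) (Y.presheaf.stalk (f (gX x'))) :=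
    (g.stalkMap (f (gX x'))).hom.toAlgebra
  letI algAC : Algebra (Y.presheaf.stalk (f (gX x'))) (X.presheaf.stalk (gX x')) :=
    (f.stalkMap (gX x')).hom.toAlgebra
  letI algRsC : Algebra (S.presheaf.stalk (g (f (gX x')))) (X.presheaf.stalk (gX x')) :=
    ((f ≫ g).stalkMap (gX x')).hom.toAlgebra
  haveI towRsAC : IsScalarTower (S.presheaf.stalk (g (f (gX x')))) (Y.presheaf.stalk (f (gX x')))
      (X.presheaf.stalk (gX x')) := IsScalarTower.of_algebraMap_eq (fun r => by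
    show ((f ≫ g).stalkMap (gX x')).hom r =
      (f.stalkMap (gX x')).hom ((g.stalkMap (f (gX x'))).hom r)
    rw [Scheme.Hom.stalkMap_comp]
    rfl)
  letI algCC' : Algebra (X.presheaf.stalk (gX x')) (X'.presheaf.stalk x') :=
    (gX.stalkMap x').hom.toAlgebra
  letI algA'C' : Algebra (Y'.presheaf.stalk (f' x')) (X'.presheaf.stalk x') :=
    (f'.stalkMap x').hom.toAlgebra
  letI algAA' : Algebra (Y.presheaf.stalk (f (gX x'))) (Y'.presheaf.stalk (f' x')) :=
    (Y.presheaf.stalkSpecializes (specializes_of_eq hy) ≫ gY.stalkMap (f' x')).hom.toAlgebra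
  letI algAC' : Algebra (Y.presheaf.stalk (f (gX x'))) (X'.presheaf.stalk x') :=
    ((algebraMap (X.presheaf.stalk (gX x')) (X'.presheaf.stalk x')).comp
      (algebraMap (Y.presheaf.stalk (f (gX x'))) (X.presheaf.stalk (gX x')))).toAlgebra
  haveI towACC' : IsScalarTower (Y.presheaf.stalk (f (gX x'))) (X.presheaf.stalk (gX x'))
      (X'.presheaf.stalk x') := IsScalarTower.of_algebraMap_eq' rfl
  haveI towAA'C' : IsScalarTower (Y.presheaf.stalk (f (gX x'))) (Y'.presheaf.stalk (f' x'))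
      (X'.presheaf.stalk x') := IsScalarTower.of_algebraMap_eq (fun a => by
    have h1 := Scheme.Hom.stalkMap_congr_hom _ _ w x'
    rw [Scheme.Hom.stalkMap_comp, Scheme.Hom.stalkMap_comp] at h1
    exact congrArg (fun φ => φ.hom a) h1)
  haveI : SMulCommClass (X.presheaf.stalk (gX x')) (Y'.presheaf.stalk (f' x'))
      (X'.presheaf.stalk x') := ⟨fun c a z => by
    simp only [Algebra.smul_def]
    ring⟩
  haveI locCC' : IsLocalHom (algebraMap (X.presheaf.stalk (gX x')) (X'.presheaf.stalk x')) :=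
    inferInstanceAs (IsLocalHom (gX.stalkMap x').hom)
  -- the modules
  letI modA : Module (Y.presheaf.stalk (f (gX x'))) (F.presheaf.stalk (gX x')) :=
    FlatMod.moduleStalkOver f F (gX x')
  haveI towACM : IsScalarTower (Y.presheaf.stalk (f (gX x'))) (X.presheaf.stalk (gX x'))
      (F.presheaf.stalk (gX x')) := IsScalarTower.of_algebraMap_smul fun _ _ => rfl
  letI modA'M' : Module (Y'.presheaf.stalk (f' x'))
      (((Scheme.Modules.pullback gX).obj F).presheaf.stalk x') :=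
    FlatMod.moduleStalkOver f' ((Scheme.Modules.pullback gX).obj F) x'
  haveI towA'C'M' : IsScalarTower (Y'.presheaf.stalk (f' x')) (X'.presheaf.stalk x')
      (((Scheme.Modules.pullback gX).obj F).presheaf.stalk x') :=
    IsScalarTower.of_algebraMap_smul fun _ _ => rfl
  haveI flM' : Module.Flat (Y'.presheaf.stalk (f' x'))
      (((Scheme.Modules.pullback gX).obj F).presheaf.stalk x') := hfl'
  obtain ⟨eq⟩ := nonempty_stalk_pullback_equiv gX F x'
  haveI flTM : Module.Flat (Y'.presheaf.stalk (f' x'))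
      ((X'.presheaf.stalk x') ⊗[X.presheaf.stalk (gX x')] (F.presheaf.stalk (gX x'))) :=
    Module.Flat.of_linearEquiv (eq.symm.restrictScalars (Y'.presheaf.stalk (f' x')))
  -- the two exactness statements
  have HA : ∀ (K F₀ : Type u) [AddCommGroup K] [Module (Y.presheaf.stalk (f (gX x'))) K]
      [AddCommGroup F₀] [Module (Y.presheaf.stalk (f (gX x'))) F₀]
      (ι : K →ₗ[Y.presheaf.stalk (f (gX x'))] F₀), Function.Injective ι →
      (∀ a ∈ maximalIdeal (S.presheaf.stalk (g (f (gX x')))), ∀ k : K,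
        algebraMap (S.presheaf.stalk (g (f (gX x')))) (Y.presheaf.stalk (f (gX x'))) a • k = 0) →
      (∀ a ∈ maximalIdeal (S.presheaf.stalk (g (f (gX x')))), ∀ z : F₀,
        algebraMap (S.presheaf.stalk (g (f (gX x')))) (Y.presheaf.stalk (f (gX x'))) a • z = 0) →
      Function.Injective (ι.lTensor (Y'.presheaf.stalk (f' x'))) :=
    fun K F₀ _ _ _ _ ι hι hK hF₀ =>
      lTensor_stalk_injective g g' gY h hY (f' x') (f (gX x')) hy (fun r => rfl) K F₀ ι hι hK hF₀
  have HC : ∀ (K F₀ : Type u) [AddCommGroup K] [Module (X.presheaf.stalk (gX x')) K]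
      [AddCommGroup F₀] [Module (X.presheaf.stalk (gX x')) F₀]
      (ι : K →ₗ[X.presheaf.stalk (gX x')] F₀), Function.Injective ι →
      (∀ a ∈ maximalIdeal (S.presheaf.stalk (g (f (gX x')))), ∀ k : K,
        algebraMap (S.presheaf.stalk (g (f (gX x')))) (X.presheaf.stalk (gX x')) a • k = 0) →
      (∀ a ∈ maximalIdeal (S.presheaf.stalk (g (f (gX x')))), ∀ z : F₀,
        algebraMap (S.presheaf.stalk (g (f (gX x')))) (X.presheaf.stalk (gX x')) a • z = 0) →
      Function.Injective (ι.lTensor (X'.presheaf.stalk x')) :=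
    fun K F₀ _ _ _ _ ι hι hK hF₀ =>
      lTensor_stalk_injective (f ≫ g) (f' ≫ g') gX h hX x' (gX x') rfl (fun r => by
        have : X.presheaf.stalkSpecializes (specializes_of_eq (rfl : gX x' = gX x')) = 𝟙 _ :=
          TopCat.Presheaf.stalkSpecializes_refl _ _
        rw [this]
        rfl) K F₀ ι hι hK hF₀
  have hfib0 := FibFlatDescent.flat_fibre_of_flat_tensor (S.presheaf.stalk (g (f (gX x'))))
    (Y.presheaf.stalk (f (gX x'))) (Y'.presheaf.stalk (f' x')) (X.presheaf.stalk (gX x'))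
    (X'.presheaf.stalk x') HA HC (F.presheaf.stalk (gX x'))
  have hfib := (Groth.Agent.Lib.Helper54.CPF.flat_quot_iff _).2 hfib0
  exact ((cpf_module_scheme f g F hfp (gX x') hnt).1 ⟨hS, hfib⟩).2

end Groth.Agent.Lib.Helper55.FL
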