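import Groth.Agent.Lib.Helper6.NilpNakayama

set_option autoImplicit false

universe u

namespace Groth.Agent.Lib.Helper55.FL

open TensorProduct Groth.Agent.Lib.Helper6.NilpNakayama

theorem subsingleton_of_le_smul_top_of_isNilpotent {R M : Type*} [CommRing R] [AddCommGroup M]
    [Module R M] (I : Ideal R) (hI : IsNilpotent I)
    (h : (⊤ : Submodule R M) ≤ I • (⊤ : Submodule R M)) : Subsingleton M := by
  have h1 : (⊥ : Submodule R M) = ⊤ :=
    eq_top_of_sup_smul_top_of_isNilpotent I hI ⊥ (by rw [bot_sup_eq]; exact top_le_iff.1 h)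
  exact ⟨fun x y => by
    have hx : x ∈ (⊥ : Submodule R M) := h1 ▸ Submodule.mem_top
    have hy : y ∈ (⊥ : Submodule R M) := h1 ▸ Submodule.mem_top
    rw [(Submodule.mem_bot R).1 hx, (Submodule.mem_bot R).1 hy]⟩

theorem injective_of_flat_of_ker_le {R : Type u} [CommRing R] (I : Ideal R) (hI : IsNilpotent I)
    {F M : Type u} [AddCommGroup F] [Module R F] [AddCommGroup M] [Module R M] [Module.Flat R M]
    (φ : F →ₗ[R] M) (hφ : Function.Surjective φ)
    (hker : LinearMap.ker φ ≤ I • (⊤ : Submodule R F)) : Function.Injective φ := by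
  rw [← LinearMap.ker_eq_bot]
  have hinj : Function.Injective ((LinearMap.ker φ).subtype.lTensor (R ⧸ I)) :=
    LinearMap.lTensor_injective_of_exact_of_flat φ hφ
      (LinearMap.ker φ).subtype (LinearMap.ker φ).injective_subtype
      (LinearMap.exact_subtype_ker_map φ) (R ⧸ I)
  have hsub : Subsingleton ↥(LinearMap.ker φ) := by
    apply subsingleton_of_le_smul_top_of_isNilpotent I hI
    intro x _
    rw [← LinearMap.ker_tensorProductMk (I := I) ↥(LinearMap.ker φ), LinearMap.mem_ker]
    apply hinj
    rw [map_zero, TensorProduct.mk_apply, LinearMap.lTensor_tmul, Submodule.subtype_apply]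
    have hmem : (x : F) ∈ I • (⊤ : Submodule R F) := hker x.2
    rw [← LinearMap.ker_tensorProductMk (I := I) F] at hmem
    exact hmem
  exact Submodule.eq_bot_of_subsingleton

theorem free_of_flat_of_basis {R : Type u} [CommRing R] (I : Ideal R) (hI : IsNilpotent I)
    (M : Type u) [AddCommGroup M] [Module R M] [Module.Flat R M]
    {ι : Type u} (w : Module.Basis ι (R ⧸ I) ((R ⧸ I) ⊗[R] M)) (v : ι → M)
    (hvw : ∀ i, (1 : R ⧸ I) ⊗ₜ[R] v i = w i) : Module.Free R M := by
  classical
  have hφsurj : Function.Surjective (Finsupp.linearCombination R v) := by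
    rw [← LinearMap.range_eq_top, Finsupp.range_linearCombination]
    apply eq_top_of_sup_smul_top_of_isNilpotent _ hI
    have hker : LinearMap.ker (TensorProduct.mk R (R ⧸ I) M 1) =
        I • (⊤ : Submodule R M) := LinearMap.ker_tensorProductMk M
    rw [← hker, ← Submodule.comap_map_eq, Submodule.map_span,
      ← Submodule.restrictScalars_span R (R ⧸ I) Ideal.Quotient.mk_surjective,
      ← Set.range_comp]
    have : (⇑(TensorProduct.mk R (R ⧸ I) M 1) ∘ v) = ⇑w := funext hvw
    rw [this, w.span_eq]
    simp
  have key : ∀ y : ι →₀ R,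
      Finsupp.linearCombination (R ⧸ I) w (y.mapRange (Ideal.Quotient.mk I) (map_zero _)) =
        (TensorProduct.mk R (R ⧸ I) M 1) (Finsupp.linearCombination R v y) := by
    intro y
    induction y using Finsupp.induction_linear with
    | zero => simp
    | add a b ha hb =>
      rw [Finsupp.mapRange_add (map_add _), map_add, ha, hb, map_add, map_add]
    | single i r =>
      rw [Finsupp.mapRange_single, Finsupp.linearCombination_single,
        Finsupp.linearCombination_single, map_smul, TensorProduct.mk_apply, hvw]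
      exact algebraMap_smul (R ⧸ I) r (w i)
  have hcoord : ∀ x : ι →₀ R, Finsupp.linearCombination R v x = 0 → ∀ i, x i ∈ I := by
    intro x hx i
    have h1 : Finsupp.linearCombination (R ⧸ I) w (x.mapRange (Ideal.Quotient.mk I) (map_zero _))
        = 0 := by rw [key, hx, map_zero]
    have h3 := linearIndependent_iff.1 w.linearIndependent _ h1
    have h4 : Ideal.Quotient.mk I (x i) = 0 := by
      have := DFunLike.congr_fun h3 i
      simpa using this
    exact Ideal.Quotient.eq_zero_iff_mem.1 h4
  have hφinj : Function.Injective (Finsupp.linearCombination R v) := by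
    apply injective_of_flat_of_ker_le I hI _ hφsurj
    intro x hx
    have hxi : ∀ i, x i ∈ I := hcoord x hx
    rw [← Finsupp.sum_single x]
    refine Submodule.sum_mem _ fun i _ => ?_
    have : Finsupp.single i (x i) = x i • Finsupp.single i (1 : R) := by
      rw [Finsupp.smul_single, smul_eq_mul, mul_one]
    rw [this]
    exact Submodule.smul_mem_smul (hxi i) Submodule.mem_top
  exact Module.Free.of_equiv (LinearEquiv.ofBijective _ ⟨hφinj, hφsurj⟩)

theorem free_of_flat_of_free_quot {R : Type u} [CommRing R] (I : Ideal R) (hI : IsNilpotent I)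
    (M : Type u) [AddCommGroup M] [Module R M] [Module.Flat R M]
    [Module.Free (R ⧸ I) ((R ⧸ I) ⊗[R] M)] : Module.Free R M := by
  have ⟨v, eq⟩ := (TensorProduct.mk_surjective R M (R ⧸ I)
    Ideal.Quotient.mk_surjective).comp_left
      (Module.Free.chooseBasis (R ⧸ I) ((R ⧸ I) ⊗[R] M))
  exact free_of_flat_of_basis I hI M (Module.Free.chooseBasis (R ⧸ I) ((R ⧸ I) ⊗[R] M)) v
    (fun i => congrFun eq i)

end Groth.Agent.Lib.Helper55.FL
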