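import Groth.Agent.Lib.Helper55.FL.SpreadOut
import Groth.Agent.Lib.Helper55.FL.NilFree
import Groth.Agent.Lib.Helper18.GenericFreeness

set_option autoImplicit false

universe u v

namespace Groth.Agent.Lib.Helper55.FL

open TensorProduct

attribute [local instance] Algebra.TensorProduct.rightAlgebra

section noeth

variable {k R S₁ M₁ : Type u} [CommRing k] [CommRing R] [IsNoetherianRing R] [Algebra k R]
  [CommRing S₁] [Algebra k S₁] [Algebra.FiniteType k S₁] [AddCommGroup M₁] [Module S₁ M₁]
  [Module k M₁] [IsScalarTower k S₁ M₁] [Module.Finite S₁ M₁]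

theorem free_quot_tensor_of_free (f : R)
    (hfree : Module.Free (Localization.Away (Ideal.Quotient.mk (nilradical R) f))
      (Localization.Away (Ideal.Quotient.mk (nilradical R) f) ⊗[R ⧸ nilradical R]
        ((R ⧸ nilradical R) ⊗[k] M₁))) :
    Module.Free
      (Localization.Away f ⧸ (nilradical R).map (algebraMap R (Localization.Away f)))
      ((Localization.Away f ⧸ (nilradical R).map (algebraMap R (Localization.Away f)))
        ⊗[Localization.Away f] (Localization.Away f ⊗[k] M₁)) := by
  letI algDQ : Algebra (R ⧸ nilradical R)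
      (Localization.Away f ⧸ (nilradical R).map (algebraMap R (Localization.Away f))) :=
    (Ideal.quotientMap ((nilradical R).map (algebraMap R (Localization.Away f)))
      (algebraMap R (Localization.Away f)) Ideal.le_comap_map).toAlgebra
  have hDQ : ∀ x : R, algebraMap (R ⧸ nilradical R)
      (Localization.Away f ⧸ (nilradical R).map (algebraMap R (Localization.Away f)))
      (Ideal.Quotient.mk _ x) = Ideal.Quotient.mk _ (algebraMap R (Localization.Away f) x) :=
    fun x => Ideal.quotientMap_mk
  haveI tkDQ : IsScalarTower k (R ⧸ nilradical R)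
      (Localization.Away f ⧸ (nilradical R).map (algebraMap R (Localization.Away f))) :=
    IsScalarTower.of_algebraMap_eq fun c => by
      rw [IsScalarTower.algebraMap_apply k R (R ⧸ nilradical R), Ideal.Quotient.algebraMap_eq,
        hDQ, ← IsScalarTower.algebraMap_apply k R (Localization.Away f),
        IsScalarTower.algebraMap_apply k (Localization.Away f)
          (Localization.Away f ⧸ (nilradical R).map (algebraMap R (Localization.Away f))),
        Ideal.Quotient.algebraMap_eq]
  have hunit : IsUnit (algebraMap (R ⧸ nilradical R)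
      (Localization.Away f ⧸ (nilradical R).map (algebraMap R (Localization.Away f)))
      (Ideal.Quotient.mk (nilradical R) f)) := by
    rw [hDQ]
    exact (IsLocalization.Away.algebraMap_isUnit f).map _
  letI algLQ : Algebra (Localization.Away (Ideal.Quotient.mk (nilradical R) f))
      (Localization.Away f ⧸ (nilradical R).map (algebraMap R (Localization.Away f))) :=
    (IsLocalization.Away.lift (Ideal.Quotient.mk (nilradical R) f) hunit).toAlgebra
  haveI tDLQ : IsScalarTower (R ⧸ nilradical R)
      (Localization.Away (Ideal.Quotient.mk (nilradical R) f))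
      (Localization.Away f ⧸ (nilradical R).map (algebraMap R (Localization.Away f))) :=
    IsScalarTower.of_algebraMap_eq fun x =>
      (IsLocalization.Away.lift_eq (Ideal.Quotient.mk (nilradical R) f) hunit x).symm
  have F2 : Module.Free
      (Localization.Away f ⧸ (nilradical R).map (algebraMap R (Localization.Away f)))
      ((Localization.Away f ⧸ (nilradical R).map (algebraMap R (Localization.Away f)))
        ⊗[Localization.Away (Ideal.Quotient.mk (nilradical R) f)]
        (Localization.Away (Ideal.Quotient.mk (nilradical R) f) ⊗[R ⧸ nilradical R]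
          ((R ⧸ nilradical R) ⊗[k] M₁))) := inferInstance
  have F3 : Module.Free
      (Localization.Away f ⧸ (nilradical R).map (algebraMap R (Localization.Away f)))
      ((Localization.Away f ⧸ (nilradical R).map (algebraMap R (Localization.Away f)))
        ⊗[k] M₁) :=
    Module.Free.of_equiv
      ((AlgebraTensorModule.cancelBaseChange (R ⧸ nilradical R)
        (Localization.Away (Ideal.Quotient.mk (nilradical R) f))
        (Localization.Away f ⧸ (nilradical R).map (algebraMap R (Localization.Away f)))
        (Localization.Away f ⧸ (nilradical R).map (algebraMap R (Localization.Away f)))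
        ((R ⧸ nilradical R) ⊗[k] M₁)).trans
      (AlgebraTensorModule.cancelBaseChange k (R ⧸ nilradical R)
        (Localization.Away f ⧸ (nilradical R).map (algebraMap R (Localization.Away f)))
        (Localization.Away f ⧸ (nilradical R).map (algebraMap R (Localization.Away f))) M₁))
  exact Module.Free.of_equiv
    (AlgebraTensorModule.cancelBaseChange k (Localization.Away f)
      (Localization.Away f ⧸ (nilradical R).map (algebraMap R (Localization.Away f)))
      (Localization.Away f ⧸ (nilradical R).map (algebraMap R (Localization.Away f))) M₁).symm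

theorem exists_free_away_of_flat [hprime : (nilradical R).IsPrime]
    (_hfin : Module.Finite S₁ M₁) (hfl : Module.Flat R (R ⊗[k] M₁)) :
    ∃ f : R, f ∉ nilradical R ∧
      Module.Free (Localization.Away f) (Localization.Away f ⊗[k] M₁) := by
  haveI : IsDomain (R ⧸ nilradical R) := Ideal.Quotient.isDomain _
  obtain ⟨f', hf', hfree⟩ := Groth.Agent.Lib.Helper18.exists_free_tensor
    (R := R ⧸ nilradical R) ((R ⧸ nilradical R) ⊗[k] S₁)
    (((R ⧸ nilradical R) ⊗[k] S₁) ⊗[S₁] M₁)
  obtain ⟨f, rfl⟩ := Ideal.Quotient.mk_surjective f'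
  have hfn : f ∉ nilradical R := fun h => hf' (Ideal.Quotient.eq_zero_iff_mem.2 h)
  refine ⟨f, hfn, ?_⟩
  have hfree' : Module.Free (Localization.Away (Ideal.Quotient.mk (nilradical R) f))
      (Localization.Away (Ideal.Quotient.mk (nilradical R) f) ⊗[R ⧸ nilradical R]
        ((R ⧸ nilradical R) ⊗[k] M₁)) :=
    Module.Free.of_equiv (AlgebraTensorModule.congr
      (LinearEquiv.refl (Localization.Away (Ideal.Quotient.mk (nilradical R) f))
        (Localization.Away (Ideal.Quotient.mk (nilradical R) f)))
      (Algebra.IsPushout.cancelBaseChange k (R ⧸ nilradical R) S₁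
        ((R ⧸ nilradical R) ⊗[k] S₁) M₁))
  haveI := free_quot_tensor_of_free (k := k) (M₁ := M₁) f hfree'
  haveI hflat5 : Module.Flat (Localization.Away f) (Localization.Away f ⊗[k] M₁) :=
    Module.Flat.of_linearEquiv
      (AlgebraTensorModule.cancelBaseChange k R (Localization.Away f) (Localization.Away f)
        M₁).symm
  have hnil : IsNilpotent ((nilradical R).map (algebraMap R (Localization.Away f))) := by
    obtain ⟨n, hn⟩ := IsNoetherianRing.isNilpotent_nilradical R
    refine ⟨n, ?_⟩
    rw [← Ideal.map_pow, hn, Ideal.zero_eq_bot, Ideal.map_bot]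
    rfl
  exact free_of_flat_of_free_quot _ hnil _

end noeth

section main

theorem isNilpotent_of_mem_maximalIdeal_atPrime {A : Type u} [CommRing A] (p : Ideal A) [p.IsPrime]
    (hp : minimalPrimes A = {p}) (x : Localization.AtPrime p)
    (hx : x ∈ IsLocalRing.maximalIdeal (Localization.AtPrime p)) : IsNilpotent x := by
  rw [← mem_nilradical, nilradical_eq_sInf, Ideal.mem_sInf]
  intro P hP
  haveI : P.IsPrime := hP
  have hle : P.comap (algebraMap A (Localization.AtPrime p)) ≤ p := by
    intro a ha
    by_contra hap
    have hu : IsUnit (algebraMap A (Localization.AtPrime p) a) :=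
      IsLocalization.map_units (Localization.AtPrime p) (⟨a, hap⟩ : p.primeCompl)
    exact hP.ne_top (Ideal.eq_top_of_isUnit_mem _ ha hu)
  obtain ⟨q, hq, hqle⟩ := Ideal.exists_minimalPrimes_le
    (bot_le : (⊥ : Ideal A) ≤ P.comap (algebraMap A (Localization.AtPrime p)))
  have hqp : q = p := by
    have : q ∈ minimalPrimes A := hq
    rw [hp] at this
    exact this
  have hpP : p ≤ P.comap (algebraMap A (Localization.AtPrime p)) := hqp ▸ hqle
  have hmax : IsLocalRing.maximalIdeal (Localization.AtPrime p) ≤ P := by
    rw [← Localization.AtPrime.map_eq_maximalIdeal, Ideal.map_le_iff_le_comap]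
    exact hpP
  exact hmax hx

theorem exists_free_away {A B : Type u} [CommRing A] [CommRing B] [Algebra A B]
    [Algebra.FinitePresentation A B] (p : Ideal A) [p.IsPrime] (hp : minimalPrimes A = {p})
    (M : Type u) [AddCommGroup M] [Module B M] [Module A M] [IsScalarTower A B M]
    [Module.FinitePresentation B M]
    (hflat : Module.Flat (Localization.AtPrime p) (LocalizedModule p.primeCompl M)) :
    ∃ t : A, t ∉ p ∧
      Module.Free (Localization.Away t) (LocalizedModule (Submonoid.powers t) M) := by
  classical
  obtain ⟨k₁, _, _, S₁, _, _, M₁, _, _, _, _, hk₁, hS₁, hM₁, ⟨eRM⟩⟩ :=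
    exists_module_model (R := A) (S := B) (M := M)
  haveI : IsNoetherianRing k₁ := Algebra.FiniteType.isNoetherianRing ℤ k₁
  have tr : ∀ (C : Type u) [CommRing C] [Algebra A C] [Algebra k₁ C] [IsScalarTower k₁ A C],
      Nonempty (C ⊗[A] M ≃ₗ[C] C ⊗[k₁] M₁) := fun C _ _ _ _ =>
    ⟨(AlgebraTensorModule.congr (LinearEquiv.refl C C) eRM.symm).trans
      (AlgebraTensorModule.cancelBaseChange k₁ A C C M₁)⟩
  obtain ⟨eAp⟩ := tr (Localization.AtPrime p)
  have hflAp : Module.Flat (Localization.AtPrime p) (Localization.AtPrime p ⊗[k₁] M₁) :=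
    Module.Flat.of_linearEquiv (eAp.symm.trans
      (IsLocalizedModule.isBaseChange p.primeCompl (Localization.AtPrime p)
        (LocalizedModule.mkLinearMap p.primeCompl M)).equiv)
  obtain ⟨R₄, hR₄, hfl₄⟩ := exists_fg_flat_module (k := k₁) (R := Localization.AtPrime p)
    (S₁ := S₁) (M₁ := M₁) hflAp
  haveI ft₄ : Algebra.FiniteType k₁ ↥R₄ := (Subalgebra.fg_iff_finiteType R₄).1 hR₄
  haveI : IsNoetherianRing ↥R₄ := Algebra.FiniteType.isNoetherianRing k₁ ↥R₄
  have hn₄ : nilradical ↥R₄ =
      (IsLocalRing.maximalIdeal (Localization.AtPrime p)).comap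
        (algebraMap ↥R₄ (Localization.AtPrime p)) := by
    ext x
    rw [mem_nilradical, Ideal.mem_comap]
    constructor
    · intro hx
      obtain ⟨n, hn⟩ := hx
      have h1 : (algebraMap ↥R₄ (Localization.AtPrime p) x) ^ n = 0 := by
        rw [← map_pow, hn, map_zero]
      exact Ideal.IsPrime.mem_of_pow_mem inferInstance n (h1 ▸ Ideal.zero_mem _)
    · intro hx
      obtain ⟨n, hn⟩ := isNilpotent_of_mem_maximalIdeal_atPrime p hp _ hx
      refine ⟨n, ?_⟩
      apply Subtype.ext
      exact hn
  haveI hprime : (nilradical ↥R₄).IsPrime := by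
    rw [hn₄]
    exact Ideal.comap_isPrime _ _
  obtain ⟨f, hfn, hfree⟩ := exists_free_away_of_flat (k := k₁) (R := ↥R₄) (S₁ := S₁)
    (M₁ := M₁) hM₁ hfl₄
  have hfunit : IsUnit (algebraMap ↥R₄ (Localization.AtPrime p) f) := by
    rw [hn₄, Ideal.mem_comap] at hfn
    by_contra hnu
    exact hfn ((IsLocalRing.mem_maximalIdeal _).2 hnu)
  haveI ft₅ : Algebra.FiniteType k₁ (Localization.Away f) :=
    Algebra.FiniteType.trans (S := ↥R₄) ft₄
      (IsLocalization.finiteType_of_monoid_fg (Submonoid.powers f) (Localization.Away f))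
  haveI fp₅ : Algebra.FinitePresentation k₁ (Localization.Away f) :=
    Algebra.FinitePresentation.of_finiteType.1 ft₅
  let φ : Localization.Away f →ₐ[k₁] Localization.AtPrime p :=
    IsLocalization.liftAlgHom (M := Submonoid.powers f) (f := R₄.val) (fun y => by
      obtain ⟨n, hn⟩ := y.2
      rw [← hn, map_pow]
      exact hfunit.pow n)
  have hgk : ∀ (i j : AwayIdx p) (h : i ≤ j),
      (AwayIdx.map i j h).comp (algebraMap k₁ i.ring) = algebraMap k₁ j.ring := by
    intro i j h
    rw [IsScalarTower.algebraMap_eq k₁ A i.ring, IsScalarTower.algebraMap_eq k₁ A j.ring,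
      ← RingHom.comp_assoc, AwayIdx.map_comp_algebraMap]
  haveI tw : ∀ i : AwayIdx p, IsScalarTower k₁ i.ring (Localization.AtPrime p) := fun i =>
    IsScalarTower.of_algebraMap_eq fun c => by
      rw [IsScalarTower.algebraMap_apply k₁ A (Localization.AtPrime p),
        IsScalarTower.algebraMap_apply k₁ A i.ring,
        ← IsScalarTower.algebraMap_apply A i.ring (Localization.AtPrime p)]
  obtain ⟨t, ψ, -⟩ := exists_algHom_of_finitePresentation (k := k₁)
    (fun t : AwayIdx p => t.ring) AwayIdx.map hgk (Localization.AtPrime p)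
    (isDirectedColimit_away p) (Localization.Away f) φ
  refine ⟨t.val, t.prop, ?_⟩
  letI algψ : Algebra (Localization.Away f) t.ring := ψ.toRingHom.toAlgebra
  haveI tψ : IsScalarTower k₁ (Localization.Away f) t.ring :=
    IsScalarTower.of_algebraMap_eq fun c => (ψ.commutes c).symm
  have F1 : Module.Free t.ring (t.ring ⊗[Localization.Away f] (Localization.Away f ⊗[k₁] M₁)) :=
    inferInstance
  have F2 : Module.Free t.ring (t.ring ⊗[k₁] M₁) :=
    Module.Free.of_equiv
      (AlgebraTensorModule.cancelBaseChange k₁ (Localization.Away f) t.ring t.ring M₁)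
  obtain ⟨et⟩ := tr t.ring
  have F3 : Module.Free t.ring (t.ring ⊗[A] M) := Module.Free.of_equiv et.symm
  exact Module.Free.of_equiv
    (IsLocalizedModule.isBaseChange (Submonoid.powers t.val) (Localization.Away t.val)
      (LocalizedModule.mkLinearMap (Submonoid.powers t.val) M)).equiv

end main

end Groth.Agent.Lib.Helper55.FL
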