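import Groth.Agent.S9456
import Groth.Agent.Lib.Helper22.RelCartierRing

set_option autoImplicit false
universe u v

namespace Groth.Agent.Lib.Helper55.FL

open TensorProduct

section bc

variable {R₀ S₀ S : Type u} [CommRing R₀] [CommRing S₀] [CommRing S]
  [Algebra R₀ S₀] [Algebra S₀ S] [Algebra R₀ S] [IsScalarTower R₀ S₀ S]
  {K₀ F₀ M₀ : Type u} [AddCommGroup K₀] [AddCommGroup F₀] [AddCommGroup M₀]
  [Module S₀ K₀] [Module S₀ F₀] [Module S₀ M₀] [Module R₀ K₀] [Module R₀ F₀] [Module R₀ M₀]
  [IsScalarTower R₀ S₀ K₀] [IsScalarTower R₀ S₀ F₀] [IsScalarTower R₀ S₀ M₀]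

theorem lTensor_injective_of_pushout (R : Type u) [CommRing R] [Algebra R₀ R] [Algebra R S]
    [IsScalarTower R₀ R S] [Algebra.IsPushout R₀ R S₀ S]
    (ι : K₀ →ₗ[S₀] F₀) (π : F₀ →ₗ[S₀] M₀) (hι : Function.Injective ι)
    (hπ : Function.Surjective π) (hex : Function.Exact ι π) [Module.Flat R₀ M₀] :
    Function.Injective (ι.lTensor S) := by
  have h0 : Function.Injective ((ι.restrictScalars R₀).lTensor R) :=
    LinearMap.lTensor_injective_of_exact_of_flat (π.restrictScalars R₀) hπ
      (ι.restrictScalars R₀) hι hex R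
  have comm : ∀ w : R ⊗[R₀] K₀,
      (Algebra.IsPushout.cancelBaseChange R₀ R S₀ S F₀).symm
        (((ι.restrictScalars R₀).lTensor R) w) =
      (ι.lTensor S) ((Algebra.IsPushout.cancelBaseChange R₀ R S₀ S K₀).symm w) := by
    intro w
    induction w using TensorProduct.induction_on with
    | zero => simp
    | tmul r x => simp
    | add x y hx hy => simp only [map_add, hx, hy]
  rw [injective_iff_map_eq_zero]
  intro z hz
  obtain ⟨w, rfl⟩ := (Algebra.IsPushout.cancelBaseChange R₀ R S₀ S K₀).symm.surjective z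
  rw [← comm] at hz
  have h1 : ((ι.restrictScalars R₀).lTensor R) w = 0 :=
    (Algebra.IsPushout.cancelBaseChange R₀ R S₀ S F₀).symm.injective (by rw [hz, map_zero])
  rw [(injective_iff_map_eq_zero _).1 h0 w h1, map_zero]

end bc


section syz

theorem exists_fp_syzygy (A : Type u) {B M : Type u} [CommRing A] [CommRing B] [Algebra A B]
    [Algebra.FinitePresentation A B] [AddCommGroup M] [Module B M] [Module A M]
    [IsScalarTower A B M] [Module.FinitePresentation B M] [Module.Flat A M] :
    ∃ (n : ℕ) (π : (Fin n → B) →ₗ[B] M), Function.Surjective π ∧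
      Module.FinitePresentation B (LinearMap.ker π) := by
  obtain ⟨R₀, _, _, S₀, _, _, _, _, _, _, M₀, _, _, _, _, _, _, f, hR₀, hS₀, hfin, hflat, hpo,
    hf⟩ := Groth.Agent.S9456.result A B M
  haveI : IsNoetherianRing R₀ := Algebra.FiniteType.isNoetherianRing ℤ R₀
  haveI : IsNoetherianRing S₀ := Algebra.FiniteType.isNoetherianRing R₀ S₀
  obtain ⟨n, π₀, hπ₀⟩ := Module.Finite.exists_fin' S₀ M₀
  haveI : Module.FinitePresentation S₀ (LinearMap.ker π₀) :=
    Module.finitePresentation_of_finite _ _
  have hinj : Function.Injective ((LinearMap.ker π₀).subtype.lTensor B) :=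
    lTensor_injective_of_pushout (R₀ := R₀) A (LinearMap.ker π₀).subtype π₀
      (Submodule.injective_subtype _) hπ₀ (LinearMap.exact_subtype_ker_map π₀)
  have hex := lTensor_exact B (LinearMap.exact_subtype_ker_map π₀) hπ₀
  have hsurj : Function.Surjective (π₀.lTensor B) := LinearMap.lTensor_surjective B hπ₀
  refine ⟨n, hf.equiv.toLinearMap ∘ₗ (AlgebraTensorModule.lTensor B B π₀) ∘ₗ
    (TensorProduct.piScalarRight S₀ B B (Fin n)).symm.toLinearMap, ?_, ?_⟩
  · intro m
    obtain ⟨y, hy⟩ := hsurj (hf.equiv.symm m)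
    refine ⟨TensorProduct.piScalarRight S₀ B B (Fin n) y, ?_⟩
    simp only [LinearMap.comp_apply, LinearEquiv.coe_coe, LinearEquiv.symm_apply_apply]
    have : (AlgebraTensorModule.lTensor B B π₀) y = (π₀.lTensor B) y := rfl
    rw [this, hy, LinearEquiv.apply_symm_apply]
  · have hg : Function.Injective ((TensorProduct.piScalarRight S₀ B B (Fin n)).toLinearMap ∘ₗ
        (AlgebraTensorModule.lTensor B B (LinearMap.ker π₀).subtype)) := by
      intro x y hxy
      have h1 := (TensorProduct.piScalarRight S₀ B B (Fin n)).injective hxy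
      exact hinj h1
    have hrange : LinearMap.range ((TensorProduct.piScalarRight S₀ B B (Fin n)).toLinearMap ∘ₗ
        (AlgebraTensorModule.lTensor B B (LinearMap.ker π₀).subtype)) =
        LinearMap.ker (hf.equiv.toLinearMap ∘ₗ (AlgebraTensorModule.lTensor B B π₀) ∘ₗ
          (TensorProduct.piScalarRight S₀ B B (Fin n)).symm.toLinearMap) := by
      ext x
      simp only [LinearMap.mem_range, LinearMap.mem_ker, LinearMap.comp_apply, LinearEquiv.coe_coe]
      constructor
      · rintro ⟨y, rfl⟩
        rw [LinearEquiv.symm_apply_apply]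
        have h2 : (AlgebraTensorModule.lTensor B B π₀)
            ((AlgebraTensorModule.lTensor B B (LinearMap.ker π₀).subtype) y) = 0 :=
          (hex _).2 ⟨y, rfl⟩
        rw [h2, map_zero]
      · intro hx
        have h2 : (π₀.lTensor B) ((TensorProduct.piScalarRight S₀ B B (Fin n)).symm x) = 0 :=
          hf.equiv.injective (by rw [map_zero]; exact hx)
        obtain ⟨y, hy⟩ := (hex _).1 h2
        refine ⟨y, ?_⟩
        have : (AlgebraTensorModule.lTensor B B (LinearMap.ker π₀).subtype) y =
            ((LinearMap.ker π₀).subtype.lTensor B) y := rfl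
        rw [this, hy, LinearEquiv.apply_symm_apply]
    exact Module.FinitePresentation.of_equiv
      ((LinearEquiv.ofInjective _ hg).trans (LinearEquiv.ofEq _ _ hrange))

end syz

end Groth.Agent.Lib.Helper55.FL
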