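import Mathlib
import Groth.Agent.Lib.Helper55.FL.Syzygy
import Groth.Agent.Lib.Helper55.FL.FlatOfUI
import Groth.Agent.Lib.Helper55.FL.Shrink
import Groth.Agent.Lib.Helper85.KollarFlat3

/-!
# Openness of the locus where a map of finitely presented modules is injective with flat cokernel
-/

set_option autoImplicit false
set_option linter.style.haveILetI false

namespace Groth.Agent.Lib.Helper55.FL

open TensorProduct

universe u

section ker

variable {A B : Type u} [CommRing A] [CommRing B] [Algebra A B] [Algebra.FinitePresentation A B]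

/-- The kernel of a surjection from a finitely presented module onto a finitely presented module
which is flat over the base is finitely presented. -/
theorem fp_ker_of_flat_coker
    {M C : Type u} [AddCommGroup M] [Module B M] [Module.FinitePresentation B M]
    [AddCommGroup C] [Module B C] [Module A C] [IsScalarTower A B C]
    [Module.FinitePresentation B C] [Module.Flat A C]
    (p : M →ₗ[B] C) (hp : Function.Surjective p) :
    Module.FinitePresentation B (LinearMap.ker p) := by
  obtain ⟨n, π, hπ, hK⟩ := exists_fp_syzygy A (B := B) (M := C)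
  obtain ⟨φ, hφ⟩ := Module.projective_lifting_property p π hp
  have hφ' : ∀ f, p (φ f) = π f := fun f => by rw [← hφ]; rfl
  -- ψ : (Fin n → B) × ker p → M
  let ψ : ((Fin n → B) × LinearMap.ker p) →ₗ[B] M := φ.coprod (LinearMap.ker p).subtype
  have hψ : Function.Surjective ψ := by
    intro m
    obtain ⟨f, hf⟩ := hπ (p m)
    have hmem : m - φ f ∈ LinearMap.ker p := by
      rw [LinearMap.mem_ker, map_sub, hφ', hf, sub_self]
    refine ⟨(f, ⟨m - φ f, hmem⟩), ?_⟩
    simp [ψ]
  -- ker ψ ≃ ker π
  have hmem2 : ∀ f : LinearMap.ker π, -φ f.1 ∈ LinearMap.ker p := by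
    intro f
    rw [LinearMap.mem_ker, map_neg, hφ', f.2, neg_zero]
  let g₂ : LinearMap.ker π →ₗ[B] LinearMap.ker p :=
    LinearMap.codRestrict (LinearMap.ker p) (-(φ ∘ₗ (LinearMap.ker π).subtype)) (fun f => by
      simpa using hmem2 f)
  let g : LinearMap.ker π →ₗ[B] ((Fin n → B) × LinearMap.ker p) :=
    LinearMap.prod (LinearMap.ker π).subtype g₂
  have hg : ∀ f, g f ∈ LinearMap.ker ψ := by
    intro f
    simp [ψ, g, g₂]
  let g' : LinearMap.ker π →ₗ[B] LinearMap.ker ψ := LinearMap.codRestrict _ g hg
  have hg'inj : Function.Injective g' := by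
    intro f₁ f₂ h
    have h1 : g f₁ = g f₂ := congrArg Subtype.val h
    have h2 : (g f₁).1 = (g f₂).1 := by rw [h1]
    exact Subtype.ext h2
  have hg'surj : Function.Surjective g' := by
    rintro ⟨⟨f, i⟩, hfi⟩
    have h0 : φ f + i.1 = 0 := by simpa [ψ] using hfi
    have hf : f ∈ LinearMap.ker π := by
      rw [LinearMap.mem_ker, ← hφ', eq_neg_of_add_eq_zero_left h0, map_neg, i.2, neg_zero]
    refine ⟨⟨f, hf⟩, ?_⟩
    apply Subtype.ext
    apply Prod.ext
    · rfl
    · apply Subtype.ext
      simp only [g', g, g₂, LinearMap.codRestrict_apply, LinearMap.prod_apply]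
      exact (eq_neg_of_add_eq_zero_right h0).symm
  haveI : Module.FinitePresentation B (LinearMap.ker ψ) :=
    Module.FinitePresentation.of_equiv (LinearEquiv.ofBijective g' ⟨hg'inj, hg'surj⟩)
  haveI : Module.FinitePresentation B ((Fin n → B) × LinearMap.ker p) :=
    Module.finitePresentation_of_ker ψ hψ
  refine Module.finitePresentation_of_surjective (LinearMap.snd B (Fin n → B) (LinearMap.ker p))
    LinearMap.snd_surjective ?_
  rw [LinearMap.ker_snd, LinearMap.range_eq_map]
  exact Submodule.FG.map _ Module.Finite.fg_top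

/-- If the cokernel of `u : M' → M` (`M'` finite, `M` finitely presented) is flat over the base
then `ker u` is finitely generated. -/
theorem fg_ker_of_flat_coker
    {M' M : Type u} [AddCommGroup M'] [Module B M'] [Module.Finite B M']
    [AddCommGroup M] [Module B M] [Module A M] [IsScalarTower A B M]
    [Module.FinitePresentation B M]
    (u : M' →ₗ[B] M) (hfl : Module.Flat A (M ⧸ LinearMap.range u)) :
    (LinearMap.ker u).FG := by
  have hrfg : (LinearMap.range u).FG := by
    rw [LinearMap.range_eq_map]
    exact Submodule.FG.map _ Module.Finite.fg_top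
  haveI : Module.FinitePresentation B (M ⧸ LinearMap.range u) :=
    Module.finitePresentation_of_surjective (LinearMap.range u).mkQ
      (Submodule.mkQ_surjective _) (by rw [Submodule.ker_mkQ]; exact hrfg)
  have h1 : Module.FinitePresentation B (LinearMap.ker (LinearMap.range u).mkQ) :=
    fp_ker_of_flat_coker (A := A) (LinearMap.range u).mkQ (Submodule.mkQ_surjective _)
  rw [Submodule.ker_mkQ] at h1
  have h2 := Module.FinitePresentation.fg_ker u.rangeRestrict u.surjective_rangeRestrict
  rwa [LinearMap.ker_rangeRestrict] at h2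

end ker

section open_

variable {A B : Type u} [CommRing A] [CommRing B] [Algebra A B]

theorem flat_localized_of_flat_away {C : Type u} [AddCommGroup C] [Module B C] [Module A C]
    [IsScalarTower A B C] (g₁ : B)
    (hfl : Module.Flat A (LocalizedModule (Submonoid.powers g₁) C))
    (P' : Ideal B) [P'.IsPrime] (hg : g₁ ∉ P') :
    Module.Flat A (LocalizedModule P'.primeCompl C) := by
  have hle : Submonoid.powers g₁ ≤ P'.primeCompl := by
    rw [Submonoid.powers_le]
    exact hg
  have h1 : Module.Flat A
      (LocalizedModule P'.primeCompl (LocalizedModule (Submonoid.powers g₁) C)) :=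
    Groth.Agent.Lib.Helper85.KollarFlat.flat_localizedModule (A := A) _ P'.primeCompl
  let e := IsLocalizedModule.iso P'.primeCompl
    (IsLocalizedModule.liftOfLE _ _ hle (LocalizedModule.mkLinearMap (Submonoid.powers g₁) C)
      (LocalizedModule.mkLinearMap P'.primeCompl C))
  exact Module.Flat.of_linearEquiv (e.restrictScalars A).symm

theorem mk_eq_zero_iff' {Y : Type*} [AddCommGroup Y] [Module B Y] (T : Submonoid B) (y : Y)
    (s : T) : LocalizedModule.mk y s = 0 ↔ ∃ c ∈ T, c • y = 0 := by
  rw [← LocalizedModule.zero_mk s, LocalizedModule.mk_eq]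
  constructor
  · rintro ⟨c, hc⟩
    refine ⟨(c : B) * (s : B), T.mul_mem c.2 s.2, ?_⟩
    rw [mul_smul]
    simpa [Submonoid.smul_def] using hc
  · rintro ⟨c, hc, hc0⟩
    refine ⟨⟨c, hc⟩, ?_⟩
    rw [smul_zero, smul_zero, smul_comm]
    change (s : B) • c • y = 0
    rw [hc0, smul_zero]

variable [Algebra.FinitePresentation A B]
  {M' M : Type u} [AddCommGroup M'] [Module B M'] [Module A M'] [IsScalarTower A B M']
  [Module.Finite B M']
  [AddCommGroup M] [Module B M] [Module A M] [IsScalarTower A B M] [Module.FinitePresentation B M]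

/-- **Openness of the locus where `u` is injective with `A`-flat cokernel**: if `u_q` is injective
and `(Coker u)_q` is `A`-flat then the same holds on a principal open neighbourhood of `q`. -/
theorem exists_away_inj_flat (u : M' →ₗ[B] M) (q : Ideal B) [q.IsPrime]
    (hinj : ∀ x : M', u x = 0 → ∃ t ∉ q, t • x = 0)
    (hfl : Module.Flat A (LocalizedModule q.primeCompl (M ⧸ LinearMap.range u))) :
    ∃ g : B, g ∉ q ∧ (∀ x : M', u x = 0 → ∃ n : ℕ, g ^ n • x = 0) ∧
      Module.Flat A (LocalizedModule (Submonoid.powers g) (M ⧸ LinearMap.range u)) := by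
  have hrfg : (LinearMap.range u).FG := by
    rw [LinearMap.range_eq_map]
    exact Submodule.FG.map _ Module.Finite.fg_top
  haveI : Module.FinitePresentation B (M ⧸ LinearMap.range u) :=
    Module.finitePresentation_of_surjective (LinearMap.range u).mkQ
      (Submodule.mkQ_surjective _) (by rw [Submodule.ker_mkQ]; exact hrfg)
  obtain ⟨g₁, hg₁, hC₁⟩ := exists_flat_away q hfl
  haveI : Algebra.FinitePresentation B (Localization.Away g₁) :=
    IsLocalization.Away.finitePresentation g₁
  haveI : Algebra.FinitePresentation A (Localization.Away g₁) :=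
    Algebra.FinitePresentation.trans A B (Localization.Away g₁)
  let T := Submonoid.powers g₁
  let u₁ : LocalizedModule T M' →ₗ[Localization.Away g₁] LocalizedModule T M :=
    LocalizedModule.map T u
  have hu₁ : ∀ (x : M') (s : T), u₁ (LocalizedModule.mk x s) = LocalizedModule.mk (u x) s :=
    fun x s => LocalizedModule.map_mk _ _ _ _
  have hfl₁ : Module.Flat A (LocalizedModule T M ⧸ LinearMap.range u₁) := by
    have e1 := localizedCokerEquiv (R := A) u T
    have e2 := Submodule.Quotient.restrictScalarsEquiv A (LinearMap.range u₁)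
    exact Module.Flat.of_linearEquiv (e2.symm.trans e1)
  have hkfg : (LinearMap.ker u₁).FG := fg_ker_of_flat_coker (A := A) u₁ hfl₁
  have hstar : ∀ z : LocalizedModule T M', u₁ z = 0 → ∃ t ∉ q, t • z = 0 := by
    intro z hz
    induction z using LocalizedModule.induction_on with
    | h x s₀ =>
      rw [hu₁] at hz
      obtain ⟨c, hc, hc0⟩ := (mk_eq_zero_iff' T (u x) s₀).1 hz
      obtain ⟨t, ht, htx⟩ := hinj (c • x) (by rw [map_smul, hc0])
      refine ⟨t, ht, ?_⟩
      rw [LocalizedModule.smul'_mk]
      exact (mk_eq_zero_iff' T _ s₀).2 ⟨c, hc, by rw [smul_comm]; exact htx⟩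
  obtain ⟨s, hs⟩ := hkfg
  have hunif : ∃ t ∉ q, ∀ z ∈ LinearMap.ker u₁, t • z = 0 := by
    classical
    choose! τ hτq hτ using hstar
    refine ⟨∏ z ∈ s, τ z, ?_, ?_⟩
    · intro hmem
      obtain ⟨z, hz, hzq⟩ := (Ideal.IsPrime.prod_mem_iff).1 hmem
      have hzk : z ∈ LinearMap.ker u₁ := hs ▸ Submodule.subset_span hz
      exact hτq z hzk hzq
    · intro z hz
      rw [← hs] at hz
      refine Submodule.span_induction ?_ ?_ ?_ ?_ hz
      · intro y hy
        have hy' : u₁ y = 0 := (hs ▸ Submodule.subset_span hy : y ∈ LinearMap.ker u₁)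
        obtain ⟨c, hc⟩ := Finset.dvd_prod_of_mem τ hy
        rw [hc, mul_comm, mul_smul, hτ y hy', smul_zero]
      · rw [smul_zero]
      · intro a b _ _ ha hb
        rw [smul_add, ha, hb, add_zero]
      · intro r y _ hy
        rw [smul_comm, hy, smul_zero]
  obtain ⟨t, ht, htk⟩ := hunif
  refine ⟨g₁ * t, ?_, ?_, ?_⟩
  · intro h
    rcases Ideal.IsPrime.mem_or_mem ‹q.IsPrime› h with h | h
    exacts [hg₁ h, ht h]
  · intro x hx
    have hz : LocalizedModule.mk x (1 : T) ∈ LinearMap.ker u₁ := by
      rw [LinearMap.mem_ker, hu₁, hx, LocalizedModule.zero_mk]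
    have h1 := htk _ hz
    rw [LocalizedModule.smul'_mk] at h1
    obtain ⟨c, hc, hc0⟩ := (mk_eq_zero_iff' T _ 1).1 h1
    obtain ⟨m, rfl⟩ := (Submonoid.mem_powers_iff _ _).1 hc
    refine ⟨m + 1, ?_⟩
    have : (g₁ * t) ^ (m + 1) = (g₁ * t ^ m) * (g₁ ^ m * t) := by ring
    rw [this, mul_smul, mul_smul (g₁ ^ m) t, hc0, smul_zero]
  · apply flat_localizedModule_away_of_forall
    intro P' _ hgP
    apply flat_localized_of_flat_away g₁ hC₁ P'
    intro h
    exact hgP (Ideal.mul_mem_right _ _ h)

end open_

end Groth.Agent.Lib.Helper55.FL
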