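import Groth.Agent.Lib.Helper40.FPKer
import Groth.Agent.Lib.Helper55.FL.InjFlatOpen
import Groth.Agent.Lib.Lead.QCohAff5

/-!
# The kernel of an epimorphism onto a flat finitely presented module is finitely presented
-/

set_option autoImplicit false
set_option linter.style.haveILetI false
universe u

open AlgebraicGeometry CategoryTheory CategoryTheory.Limits Opposite

namespace Groth.Agent.Lib.Helper55.FL

open Scheme.Modules Groth.Agent.Lib.Lead.QCohAff Groth.Agent.Lib.Lead.PullbackAff
  Groth.Agent.Lib.Helper21.QCohSections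

theorem isFP_kernel_of_epi_onto_flat {X Y : Scheme.{u}} (f : X ⟶ Y)
    [LocallyOfFinitePresentation f] {G H : X.Modules} [G.IsQuasicoherent] [H.IsQuasicoherent]
    (hG : SheafOfModules.IsFinitePresentation (R := X.ringCatSheaf) G)
    (hH : SheafOfModules.IsFinitePresentation (R := X.ringCatSheaf) H)
    (hflat : FlatMod.IsFlatOver f H) (p : G ⟶ H) [Epi p] :
    SheafOfModules.IsFinitePresentation (R := X.ringCatSheaf) (kernel p) := by
  have hq : (kernel p).IsQuasicoherent :=
    Groth.Agent.Lib.Helper21.QCohKernel.isQuasicoherent_kernel p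
  refine @Groth.Agent.Lib.Helper2.FinLocFreeAff.isFinitePresentation_of_sections X (kernel p) hq ?_
  intro x
  obtain ⟨V, U, hV, hU, hxU, hUV⟩ := exists_affines f x
  refine ⟨U, hU, hxU, ?_⟩
  letI : Algebra Γ(Y, V) Γ(X, U) := (f.appLE V U hUV).hom.toAlgebra
  letI : Module Γ(Y, V) Γ(H, U) := Module.compHom Γ(H, U) (f.appLE V U hUV).hom
  haveI : IsScalarTower Γ(Y, V) Γ(X, U) Γ(H, U) :=
    IsScalarTower.of_algebraMap_smul fun _ _ => rfl
  haveI : Algebra.FinitePresentation Γ(Y, V) Γ(X, U) := f.finitePresentation_appLE hV hU hUV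
  haveI : Module.FinitePresentation Γ(X, U) Γ(G, U) :=
    Groth.Agent.Lib.Helper2.FinTypeAff.finitePresentation_sections G hU
  haveI : Module.FinitePresentation Γ(X, U) Γ(H, U) :=
    Groth.Agent.Lib.Helper2.FinTypeAff.finitePresentation_sections H hU
  haveI : Module.Flat Γ(Y, V) Γ(H, U) :=
    (flat_sections_iff f H hU hV hUV).2 (fun y _ => hflat y)
  have hsurj : Function.Surjective (appL p U) := app_surjective_of_epi p hU
  haveI : Module.FinitePresentation Γ(X, U) ↥(LinearMap.ker (appL p U)) :=
    fp_ker_of_flat_coker (A := Γ(Y, V)) (appL p U) hsurj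
  let ψ : Γ(kernel p, U) →ₗ[Γ(X, U)] ↥(LinearMap.ker (appL p U)) :=
    LinearMap.codRestrict _ (appL (kernel.ι p) U) (fun t => by
      rw [LinearMap.mem_ker, appL_apply, appL_apply]
      exact Groth.Agent.Lib.Helper2.KerSec.app_kernelι_comp p U t)
  have hψi : Function.Injective ψ := by
    intro s t hst
    apply Groth.Agent.Lib.Helper2.KerSec.app_kernelι_injective p U
    exact congrArg Subtype.val hst
  have hψs : Function.Surjective ψ := by
    rintro ⟨s, hs⟩
    obtain ⟨t, ht⟩ := Groth.Agent.Lib.Helper2.KerSec.exists_of_app_eq_zero p U s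
      (by simpa using hs)
    exact ⟨t, Subtype.ext ht⟩
  exact Module.FinitePresentation.of_equiv (LinearEquiv.ofBijective ψ ⟨hψi, hψs⟩).symm

end Groth.Agent.Lib.Helper55.FL
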