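import Groth.Agent.Lib.Helper55.FL.ColimDescent
import Groth.Agent.S0400

set_option autoImplicit false
universe u v

namespace Groth.Agent.Lib.Helper55.FL

open TensorProduct

section

variable {R S : Type u} [CommRing R] [CommRing S] [Algebra R S] (I : Ideal R)

abbrev FGSub : Type u := {J : Ideal R // J.FG ∧ J ≤ I}

abbrev quotFG (J : FGSub I) : Type u := S ⧸ J.1.map (algebraMap R S)

noncomputable def gFG (J J' : FGSub I) (h : J ≤ J') : quotFG (S := S) I J →+* quotFG (S := S) I J' :=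
  Ideal.Quotient.factor (Ideal.map_mono h)

noncomputable instance algQuotFG (J : FGSub I) :
    Algebra (quotFG (S := S) I J) (S ⧸ I.map (algebraMap R S)) :=
  (Ideal.Quotient.factor (Ideal.map_mono J.2.2)).toAlgebra

instance towerQuotFG (J : FGSub I) :
    IsScalarTower S (quotFG (S := S) I J) (S ⧸ I.map (algebraMap R S)) :=
  IsScalarTower.of_algebraMap_eq fun _ => rfl

theorem isDirectedColimit_quotFG :
    FlatCA.IsDirectedColimitRing (quotFG (S := S) I) (gFG (S := S) I)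
      (S ⧸ I.map (algebraMap R S)) := by
  classical
  refine ⟨⟨fun J₁ J₂ => ⟨⟨J₁.1 ⊔ J₂.1, Submodule.FG.sup J₁.2.1 J₂.2.1, sup_le J₁.2.2 J₂.2.2⟩,
    (le_sup_left : J₁.1 ≤ J₁.1 ⊔ J₂.1), (le_sup_right : J₂.1 ≤ J₁.1 ⊔ J₂.1)⟩⟩,
    ⟨⟨⊥, Submodule.fg_bot, bot_le⟩⟩, ?_, ?_, ?_, ?_, ?_⟩
  · intro J
    apply Ideal.Quotient.ringHom_ext
    ext x
    rfl
  · intro J₁ J₂ J₃ h₁₂ h₂₃
    apply Ideal.Quotient.ringHom_ext
    ext x
    rfl
  · intro J₁ J₂ h
    apply Ideal.Quotient.ringHom_ext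
    ext x
    rfl
  · intro a
    obtain ⟨s, rfl⟩ := Ideal.Quotient.mk_surjective a
    exact ⟨⟨⊥, Submodule.fg_bot, bot_le⟩, Ideal.Quotient.mk _ s, rfl⟩
  · intro J x hx
    obtain ⟨s, rfl⟩ := Ideal.Quotient.mk_surjective x
    have hs : s ∈ I.map (algebraMap R S) := Ideal.Quotient.eq_zero_iff_mem.1 hx
    rw [Ideal.map, Ideal.span] at hs
    obtain ⟨T, hT, hsT⟩ := Submodule.mem_span_finite_of_mem_span hs
    have hT' : ∀ t ∈ T, ∃ r ∈ I, algebraMap R S r = t := fun t ht => hT ht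
    choose! r hrI hr using hT'
    let J' : FGSub I := ⟨J.1 ⊔ Ideal.span ((T.image r : Finset R) : Set R),
      Submodule.FG.sup J.2.1 ⟨T.image r, rfl⟩, sup_le J.2.2 (Ideal.span_le.2 fun a ha => by
        obtain ⟨t, ht, rfl⟩ := Finset.mem_image.1 ha
        exact hrI t ht)⟩
    refine ⟨J', (le_sup_left : J.1 ≤ J.1 ⊔ _), ?_⟩
    show Ideal.Quotient.mk _ s = 0
    rw [Ideal.Quotient.eq_zero_iff_mem]
    have hle : Submodule.span S (T : Set S) ≤ J'.1.map (algebraMap R S) := by
      rw [Submodule.span_le]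
      intro t ht
      rw [← hr t ht]
      exact Ideal.mem_map_of_mem _ (Ideal.mem_sup_right (Ideal.subset_span
        (Finset.mem_coe.2 (Finset.mem_image_of_mem r ht))))
    exact hle hsT

end

theorem flat_of_nil_of_flat_quot {R S S' M : Type u} [CommRing R] [CommRing S] [CommRing S']
    [Algebra R S] [Algebra S S'] [Algebra R S'] [IsScalarTower R S S']
    [Algebra.FiniteType R S] [Algebra.FinitePresentation R S'] (I : Ideal R)
    (hI : ∀ a ∈ I, IsNilpotent a)
    [AddCommGroup M] [Module S' M] [Module S M] [Module R M] [IsScalarTower S S' M]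
    [IsScalarTower R S M] [Module.FinitePresentation S' M] [Module.Flat R M]
    (h : Module.Flat (S ⧸ I.map (algebraMap R S)) ((S ⧸ I.map (algebraMap R S)) ⊗[S] M)) :
    Module.Flat S M := by
  have : Algebra.FinitePresentation S S' :=
    Algebra.FinitePresentation.of_restrict_scalars_finitePresentation R S S'
  obtain ⟨J, hJ⟩ := (flat_colim_iff (A₀ := S) (quotFG (S := S) I) (gFG (S := S) I)
    (fun _ _ _ => rfl) (S ⧸ I.map (algebraMap R S)) (isDirectedColimit_quotFG I)
    (B₀ := S') M).1 h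
  have hnil : IsNilpotent J.1 :=
    (Ideal.FG.isNilpotent_iff_le_nilradical J.2.1).2 fun a ha =>
      (mem_nilradical).2 (hI a (J.2.2 ha))
  exact Groth.Agent.S0400.result J.1 hnil hJ

end Groth.Agent.Lib.Helper55.FL
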