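import Groth.Agent.Lib.Helper55.FL.LocalCrit
import Groth.Agent.Lib.Helper55.GR.Final

set_option autoImplicit false
universe u v

namespace Groth.Agent.Lib.Helper55.FL

open TensorProduct

section gen

variable {R S : Type u} [CommRing R] [CommRing S] [Algebra R S]

theorem flat_localization_of_le (q q' : Ideal S) [q.IsPrime] [q'.IsPrime] (hle : q ≤ q')
    (h : Module.Flat R (Localization.AtPrime q')) : Module.Flat R (Localization.AtPrime q) := by
  have hsub : q'.primeCompl ≤ q.primeCompl := fun x hx hxq => hx (hle hxq)
  letI : Algebra (Localization.AtPrime q') (Localization.AtPrime q) :=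
    IsLocalization.localizationAlgebraOfSubmonoidLe _ _ q'.primeCompl q.primeCompl hsub
  haveI : IsScalarTower S (Localization.AtPrime q') (Localization.AtPrime q) :=
    IsLocalization.localization_isScalarTower_of_submonoid_le _ _ _ _ hsub
  haveI : IsLocalization (q.primeCompl.map (algebraMap S (Localization.AtPrime q')))
      (Localization.AtPrime q) :=
    IsLocalization.isLocalization_of_submonoid_le _ _ q'.primeCompl q.primeCompl hsub
  haveI : Module.Flat (Localization.AtPrime q') (Localization.AtPrime q) :=
    IsLocalization.flat _ (q.primeCompl.map (algebraMap S (Localization.AtPrime q')))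
  haveI : IsScalarTower R (Localization.AtPrime q') (Localization.AtPrime q) :=
    IsScalarTower.of_algebraMap_eq fun x => by
      rw [IsScalarTower.algebraMap_apply R S (Localization.AtPrime q'),
        ← IsScalarTower.algebraMap_apply S, ← IsScalarTower.algebraMap_apply R S]
  exact Module.Flat.trans R (Localization.AtPrime q') (Localization.AtPrime q)

theorem flat_quot_tensor_atPrime_of_away (I : Ideal R) (a : S) (q : Ideal S) [q.IsPrime]
    (ha : a ∉ q)
    (hflat : Module.Flat (R ⧸ I) ((R ⧸ I) ⊗[R] Localization.Away a)) :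
    Module.Flat (R ⧸ I) ((R ⧸ I) ⊗[R] Localization.AtPrime q) := by
  have hsub : Submonoid.powers a ≤ q.primeCompl := by
    rw [Submonoid.powers_le]
    exact ha
  letI : Algebra (Localization.Away a) (Localization.AtPrime q) :=
    IsLocalization.localizationAlgebraOfSubmonoidLe _ _ (Submonoid.powers a) q.primeCompl hsub
  haveI : IsScalarTower S (Localization.Away a) (Localization.AtPrime q) :=
    IsLocalization.localization_isScalarTower_of_submonoid_le _ _ _ _ hsub
  haveI : IsLocalization (q.primeCompl.map (algebraMap S (Localization.Away a)))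
      (Localization.AtPrime q) :=
    IsLocalization.isLocalization_of_submonoid_le _ _ (Submonoid.powers a) q.primeCompl hsub
  haveI : IsScalarTower R (Localization.Away a) (Localization.AtPrime q) :=
    IsScalarTower.of_algebraMap_eq fun x => by
      rw [IsScalarTower.algebraMap_apply R S (Localization.Away a),
        ← IsScalarTower.algebraMap_apply S, ← IsScalarTower.algebraMap_apply R S]
  exact flat_quot_tensor_localization (S := Localization.Away a) I
    (q.primeCompl.map (algebraMap S (Localization.Away a))) (Localization.AtPrime q) hflat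

end gen

section crit'

variable {R S : Type u} [CommRing R] [CommRing S] [Algebra R S] [IsNoetherianRing R]
  [IsNoetherianRing S]

theorem flat_localization_of_ker_killed' (I : Ideal R) (q : Ideal S) [q.IsPrime]
    (hIq : I.map (algebraMap R S) ≤ q)
    (hflat : Module.Flat (R ⧸ I) ((R ⧸ I) ⊗[R] Localization.AtPrime q))
    (hker : ∀ z : S ⊗[R] I, (I.subtype.lTensor S) z = 0 → ∃ s ∈ q.primeCompl, s • z = 0) :
    Module.Flat R (Localization.AtPrime q) := by
  let C := Localization.AtPrime q
  have : IsNoetherianRing C := IsLocalization.isNoetherianRing q.primeCompl C inferInstance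
  refine Groth.Agent.Lib.Helper6.LocalFlat.flat_of_flat_quotient_of_rTensor_injective
    (S := C) (M := C) I ?_ ?_ hflat
  · rw [IsLocalRing.jacobson_eq_maximalIdeal ⊥ bot_ne_top,
      IsScalarTower.algebraMap_eq R S C, ← Ideal.map_map,
      ← Localization.AtPrime.map_eq_maximalIdeal]
    exact Ideal.map_mono hIq
  · rw [← LinearMap.lTensor_inj_iff_rTensor_inj]
    let g : S →ₗ[S] C := Algebra.linearMap S C
    have h := map_injective_of_ker_killed q.primeCompl
      (AlgebraTensorModule.rTensor R I g) (AlgebraTensorModule.rTensor R R g)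
      (AlgebraTensorModule.lTensor S S I.subtype) hker
    rw [IsLocalizedModule.map_lTensor] at h
    exact h

theorem exists_kills_ker (I : Ideal R) (q : Ideal S) [q.IsPrime]
    (hq : Module.Flat R (Localization.AtPrime q)) :
    ∃ h ∈ q.primeCompl, ∀ z : S ⊗[R] I, (I.subtype.lTensor S) z = 0 → h • z = 0 := by
  classical
  let C := Localization.AtPrime q
  let g : S →ₗ[S] C := Algebra.linearMap S C
  let L : S ⊗[R] I →ₗ[S] S ⊗[R] R := AlgebraTensorModule.lTensor S S I.subtype
  have hfin : Module.Finite S (S ⊗[R] I) := inferInstance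
  have hnoeth : IsNoetherian S (S ⊗[R] I) := isNoetherian_of_isNoetherianRing_of_finite S _
  obtain ⟨gens, hgens⟩ := IsNoetherian.noetherian (LinearMap.ker L)
  have hone : ∀ z : S ⊗[R] I, L z = 0 → ∃ s ∈ q.primeCompl, s • z = 0 := by
    intro z hz
    have h1 : (AlgebraTensorModule.lTensor S C I.subtype)
        ((AlgebraTensorModule.rTensor R I g) z) = 0 := by
      rw [← IsLocalizedModule.map_lTensor S q.primeCompl I.subtype g, IsLocalizedModule.map_apply]
      change (AlgebraTensorModule.rTensor R R g) (L z) = 0
      rw [hz, map_zero]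
    have hinj : Function.Injective (AlgebraTensorModule.lTensor S C (R := R) I.subtype) :=
      Module.Flat.lTensor_preserves_injective_linearMap (M := C) I.subtype
        Subtype.val_injective
    have h2 : (AlgebraTensorModule.rTensor R I g) z = 0 := hinj (by rw [h1, map_zero])
    obtain ⟨s, hs⟩ := (IsLocalizedModule.eq_zero_iff q.primeCompl
      (AlgebraTensorModule.rTensor R I g)).1 h2
    exact ⟨s, s.2, hs⟩
  choose! σ hσ hσz using hone
  refine ⟨∏ z ∈ gens, σ z, ?_, ?_⟩
  · refine Submonoid.prod_mem _ fun z hz => hσ z ?_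
    have : z ∈ LinearMap.ker L := hgens ▸ Submodule.subset_span hz
    exact this
  · intro z hz
    have hz' : z ∈ LinearMap.ker L := hz
    rw [← hgens] at hz'
    refine Submodule.span_induction ?_ ?_ ?_ ?_ hz'
    · intro w hw
      have hwk : L w = 0 := by
        have : w ∈ LinearMap.ker L := hgens ▸ Submodule.subset_span hw
        exact this
      rw [← Finset.mul_prod_erase gens σ hw, mul_comm, mul_smul, hσz w hwk, smul_zero]
    · rw [smul_zero]
    · intro a b _ _ ha hb
      rw [smul_add, ha, hb, add_zero]
    · intro t a _ ha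
      rw [smul_comm, ha, smul_zero]

end crit'


theorem exists_flat_quot_tensor_away (R S : Type u) [CommRing R] [CommRing S] [Algebra R S]
    [Algebra.FiniteType R S] (p : Ideal R) [p.IsPrime] :
    ∃ a : R, a ∉ p ∧
      Module.Flat (R ⧸ p) ((R ⧸ p) ⊗[R] Localization.Away (algebraMap R S a)) := by
  haveI : Algebra.FiniteType (R ⧸ p) ((R ⧸ p) ⊗[R] S) := inferInstance
  obtain ⟨f, hne, hf⟩ := Groth.Agent.Lib.Helper55.GR.exists_flat_fp_awayMap (R ⧸ p)
    ((R ⧸ p) ⊗[R] S) 1 one_ne_zero
  obtain ⟨a, ha⟩ := Ideal.Quotient.mk_surjective f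
  have hfl := (hf 1).1
  have hf' : 1 * f * 1 = f := by ring
  rw [hf'] at hfl
  refine ⟨a, ?_, ?_⟩
  · intro hap
    apply hne
    rw [one_mul, ← ha, Ideal.Quotient.eq_zero_iff_mem]
    exact hap
  · have hB : Module.Flat (R ⧸ p) (Localization.Away (algebraMap (R ⧸ p) ((R ⧸ p) ⊗[R] S) f)) := by
      have h1 : (algebraMap (R ⧸ p) (Localization.Away f)).Flat :=
        RingHom.flat_algebraMap_iff.2 (IsLocalization.flat _ (Submonoid.powers f))
      have h2 := RingHom.Flat.comp h1 hfl
      have h3 : (Localization.awayMap (algebraMap (R ⧸ p) ((R ⧸ p) ⊗[R] S)) f).comp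
          (algebraMap (R ⧸ p) (Localization.Away f)) =
          algebraMap (R ⧸ p) (Localization.Away (algebraMap (R ⧸ p) ((R ⧸ p) ⊗[R] S) f)) := by
        rw [Localization.awayMap, IsLocalization.Away.map, IsLocalization.map_comp]
        exact (IsScalarTower.algebraMap_eq _ _ _).symm
      rw [h3] at h2
      exact RingHom.flat_algebraMap_iff.1 h2
    have hsub : (Submonoid.powers (algebraMap R S a)).map
        (Algebra.TensorProduct.includeRight (R := R) (A := R ⧸ p)) =
        Submonoid.powers (algebraMap (R ⧸ p) ((R ⧸ p) ⊗[R] S) f) := by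
      rw [Submonoid.map_powers]
      congr 1
      rw [← ha]
      show (1 : R ⧸ p) ⊗ₜ[R] (algebraMap R S a) = (Ideal.Quotient.mk p a) ⊗ₜ[R] (1 : S)
      rw [Algebra.algebraMap_eq_smul_one, ← TensorProduct.smul_tmul, ← Algebra.algebraMap_eq_smul_one]
      rfl
    haveI : IsLocalization ((Submonoid.powers (algebraMap R S a)).map
        (Algebra.TensorProduct.includeRight (R := R) (A := R ⧸ p)))
        (Localization.Away (algebraMap (R ⧸ p) ((R ⧸ p) ⊗[R] S) f)) := by
      rw [hsub]
      infer_instance
    let e : (R ⧸ p) ⊗[R] Localization.Away (algebraMap R S a) ≃ₐ[R ⧸ p]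
        Localization.Away (algebraMap (R ⧸ p) ((R ⧸ p) ⊗[R] S) f) :=
      IsLocalization.tensorProductEquivOfMapIncludeRight R (R ⧸ p)
        (Submonoid.powers (algebraMap R S a)) _ _
    exact Module.Flat.of_linearEquiv e.toLinearEquiv


section main

variable (R S : Type u) [CommRing R] [CommRing S] [Algebra R S] [IsNoetherianRing R]
  [Algebra.FiniteType R S]

theorem exists_flat_nhds (q : Ideal S) [q.IsPrime]
    (hq : Module.Flat R (Localization.AtPrime q)) :
    ∃ g : S, g ∉ q ∧ ∀ (q' : Ideal S) [q'.IsPrime], q ≤ q' → g ∉ q' →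
      Module.Flat R (Localization.AtPrime q') := by
  have : IsNoetherianRing S := Algebra.FiniteType.isNoetherianRing R S
  obtain ⟨a, hap, hfa⟩ := exists_flat_quot_tensor_away R S (q.comap (algebraMap R S))
  obtain ⟨h, hhq, hker⟩ := exists_kills_ker (q.comap (algebraMap R S)) q hq
  refine ⟨h * algebraMap R S a, ?_, ?_⟩
  · intro hmem
    rcases Ideal.IsPrime.mem_or_mem inferInstance hmem with h1 | h1
    · exact hhq h1
    · exact hap h1
  · intro q' _ hle hg
    have hh' : h ∉ q' := fun h1 => hg (Ideal.mul_mem_right _ _ h1)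
    have ha' : algebraMap R S a ∉ q' := fun h1 => hg (Ideal.mul_mem_left _ _ h1)
    exact flat_localization_of_ker_killed' (q.comap (algebraMap R S)) q'
      (Ideal.map_comap_le.trans hle)
      (flat_quot_tensor_atPrime_of_away _ _ q' ha' hfa)
      (fun z hz => ⟨h, hh', hker z hz⟩)

theorem isClosed_zeroLocus_inter_nonflat (I : Ideal S) :
    IsClosed (PrimeSpectrum.zeroLocus (I : Set S) ∩
      {q : PrimeSpectrum S | ¬ Module.Flat R (Localization.AtPrime q.asIdeal)}) := by
  have : IsNoetherianRing S := Algebra.FiniteType.isNoetherianRing R S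
  refine IsNoetherian.induction (P := fun I : Ideal S =>
    IsClosed (PrimeSpectrum.zeroLocus (I : Set S) ∩
      {q : PrimeSpectrum S | ¬ Module.Flat R (Localization.AtPrime q.asIdeal)})) ?_ I
  intro (I : Ideal S) ih
  by_cases htop : I = ⊤
  · rw [htop]
    simp
  by_cases hprime : Ideal.IsPrime I
  · haveI := hprime
    by_cases hfl : Module.Flat R (Localization.AtPrime I)
    · obtain ⟨g, hgI, hg⟩ := exists_flat_nhds R S I hfl
      have hlt : I < I ⊔ Ideal.span {g} := by
        refine lt_of_le_of_ne le_sup_left fun heq => hgI ?_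
        rw [heq]
        exact Ideal.mem_sup_right (Ideal.subset_span rfl)
      have := ih _ hlt
      convert this using 1
      ext q'
      simp only [Set.mem_inter_iff, PrimeSpectrum.mem_zeroLocus, SetLike.coe_subset_coe,
        Set.mem_setOf_eq]
      constructor
      · rintro ⟨h1, h2⟩
        refine ⟨sup_le h1 ?_, h2⟩
        rw [Ideal.span_singleton_le_iff_mem]
        by_contra hgq
        exact h2 (hg q'.asIdeal h1 hgq)
      · rintro ⟨h1, h2⟩
        exact ⟨le_sup_left.trans h1, h2⟩
    · have : PrimeSpectrum.zeroLocus (I : Set S) ∩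
          {q : PrimeSpectrum S | ¬ Module.Flat R (Localization.AtPrime q.asIdeal)} =
          PrimeSpectrum.zeroLocus (I : Set S) := by
        ext q'
        simp only [Set.mem_inter_iff, PrimeSpectrum.mem_zeroLocus, SetLike.coe_subset_coe,
          Set.mem_setOf_eq, and_iff_left_iff_imp]
        intro h1 h2
        exact hfl (flat_localization_of_le I q'.asIdeal h1 h2)
      rw [this]
      exact PrimeSpectrum.isClosed_zeroLocus _
  · rw [Ideal.isPrime_iff] at hprime
    push Not at hprime
    obtain ⟨x, y, hxy, hx, hy⟩ := hprime htop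
    have hltx : I < I ⊔ Ideal.span {x} := by
      refine lt_of_le_of_ne le_sup_left fun heq => hx ?_
      rw [heq]
      exact Ideal.mem_sup_right (Ideal.subset_span rfl)
    have hlty : I < I ⊔ Ideal.span {y} := by
      refine lt_of_le_of_ne le_sup_left fun heq => hy ?_
      rw [heq]
      exact Ideal.mem_sup_right (Ideal.subset_span rfl)
    have := (ih _ hltx).union (ih _ hlty)
    convert this using 1
    ext q'
    simp only [Set.mem_inter_iff, PrimeSpectrum.mem_zeroLocus, SetLike.coe_subset_coe,
      Set.mem_setOf_eq, Set.mem_union]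
    constructor
    · rintro ⟨h1, h2⟩
      rcases Ideal.IsPrime.mem_or_mem q'.2 (h1 hxy) with h3 | h3
      · left
        refine ⟨sup_le h1 ?_, h2⟩
        rwa [Ideal.span_singleton_le_iff_mem]
      · right
        refine ⟨sup_le h1 ?_, h2⟩
        rwa [Ideal.span_singleton_le_iff_mem]
    · rintro (⟨h1, h2⟩ | ⟨h1, h2⟩)
      · exact ⟨le_sup_left.trans h1, h2⟩
      · exact ⟨le_sup_left.trans h1, h2⟩

theorem isOpen_flatLocus :
    IsOpen {q : PrimeSpectrum S | Module.Flat R (Localization.AtPrime q.asIdeal)} := by
  rw [← isClosed_compl_iff]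
  have := isClosed_zeroLocus_inter_nonflat R S ⊥
  convert this using 1
  ext q'
  simp

end main

end Groth.Agent.Lib.Helper55.FL
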