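import Groth.Agent.Lib.Helper55.FL.QuotBC

set_option autoImplicit false
universe u v

namespace Groth.Agent.Lib.Helper55.FL

open TensorProduct

section pairquot

variable (A : Type u) [CommRing A] {n l a b : ℕ} (gM : Fin a → Fin n → A) (gN : Fin b → Fin l → A)
  (P : Matrix (Fin l) (Fin n) A) (c : Fin a → Fin b → A)

/-- the relation making `P` descend to the quotients. -/
def PairRel : Prop := ∀ i, P.mulVec (gM i) = ∑ t, c i t • gN t

variable {A gM gN P c}

lemma mulVecLin_mem_of_pairRel (h : PairRel A gM gN P c) :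
    Submodule.span A (Set.range gM) ≤
      (Submodule.span A (Set.range gN)).comap (Matrix.mulVecLin P) := by
  rw [Submodule.span_le]
  rintro _ ⟨i, rfl⟩
  rw [SetLike.mem_coe, Submodule.mem_comap, Matrix.mulVecLin_apply, h i]
  exact Submodule.sum_mem _ fun t _ => Submodule.smul_mem _ _ (Submodule.subset_span ⟨t, rfl⟩)

/-- the map induced by the matrix `P` on the quotient presentations. -/
noncomputable def quotLin (h : PairRel A gM gN P c) :
    ((Fin n → A) ⧸ Submodule.span A (Set.range gM)) →ₗ[A]
      ((Fin l → A) ⧸ Submodule.span A (Set.range gN)) :=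
  Submodule.mapQ _ _ (Matrix.mulVecLin P) (mulVecLin_mem_of_pairRel h)

lemma quotLin_mk (h : PairRel A gM gN P c) (x : Fin n → A) :
    quotLin h (Submodule.Quotient.mk x) = Submodule.Quotient.mk (P.mulVec x) := rfl

variable (B : Type u) [CommRing B] [Algebra A B]

lemma mapFun_mulVec (x : Fin n → A) :
    mapFun A B l (P.mulVec x) = (P.map (algebraMap A B)).mulVec (mapFun A B n x) := by
  ext j
  simp only [mapFun_apply, Matrix.mulVec, dotProduct, map_sum, map_mul, Matrix.map_apply]

lemma pairRel_map (h : PairRel A gM gN P c) :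
    PairRel B (fun i => mapFun A B n (gM i)) (fun t => mapFun A B l (gN t))
      (P.map (algebraMap A B)) (fun i t => algebraMap A B (c i t)) := by
  intro i
  rw [← mapFun_mulVec, h i, map_sum]
  refine Finset.sum_congr rfl fun t _ => ?_
  ext j
  simp [mapFun_apply, Algebra.smul_def]

lemma spanB_le_comap (h : PairRel A gM gN P c) :
    spanB A B n (Set.range gM) ≤
      (spanB A B l (Set.range gN)).comap (Matrix.mulVecLin (P.map (algebraMap A B))) := by
  rw [spanB, Submodule.span_le]
  rintro _ ⟨_, ⟨i, rfl⟩, rfl⟩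
  rw [SetLike.mem_coe, Submodule.mem_comap, Matrix.mulVecLin_apply, pairRel_map B h i]
  exact Submodule.sum_mem _ fun t _ => Submodule.smul_mem _ _
    (Submodule.subset_span ⟨gN t, ⟨t, rfl⟩, rfl⟩)

/-- the base-changed map on the base-changed quotient presentations. -/
noncomputable def quotLinB (h : PairRel A gM gN P c) :
    ((Fin n → B) ⧸ spanB A B n (Set.range gM)) →ₗ[B]
      ((Fin l → B) ⧸ spanB A B l (Set.range gN)) :=
  Submodule.mapQ _ _ (Matrix.mulVecLin (P.map (algebraMap A B))) (spanB_le_comap B h)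

lemma quotLinB_mk (h : PairRel A gM gN P c) (x : Fin n → B) :
    quotLinB B h (Submodule.Quotient.mk x) =
      Submodule.Quotient.mk ((P.map (algebraMap A B)).mulVec x) := rfl

lemma quotLinB_quotMap (h : PairRel A gM gN P c)
    (x : (Fin n → A) ⧸ Submodule.span A (Set.range gM)) :
    quotLinB B h (quotMap A B n (Set.range gM) x) =
      quotMap A B l (Set.range gN) (quotLin h x) := by
  obtain ⟨x, rfl⟩ := Submodule.Quotient.mk_surjective _ x
  rw [quotMap_mk, quotLinB_mk, quotLin_mk, quotMap_mk, mapFun_mulVec]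

end pairquot

section presentation

variable {S : Type u} [CommRing S] {M N : Type u} [AddCommGroup M] [Module S M]
  [Module.FinitePresentation S M] [AddCommGroup N] [Module S N] [Module.FinitePresentation S N]

theorem exists_pair_presentation (u : M →ₗ[S] N) :
    ∃ (n l a b : ℕ) (gM : Fin a → Fin n → S) (gN : Fin b → Fin l → S)
      (P : Matrix (Fin l) (Fin n) S) (c : Fin a → Fin b → S) (h : PairRel S gM gN P c)
      (eM : M ≃ₗ[S] (Fin n → S) ⧸ Submodule.span S (Set.range gM))
      (eN : N ≃ₗ[S] (Fin l → S) ⧸ Submodule.span S (Set.range gN)),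
      ∀ x, eN (u x) = quotLin h (eM x) := by
  classical
  obtain ⟨n, KM, eM, hKM⟩ := Module.FinitePresentation.exists_fin S M
  obtain ⟨l, KN, eN, hKN⟩ := Module.FinitePresentation.exists_fin S N
  obtain ⟨a, gM, rfl⟩ := Submodule.fg_iff_exists_fin_generating_family.1 hKM
  obtain ⟨b, gN, rfl⟩ := Submodule.fg_iff_exists_fin_generating_family.1 hKN
  let πN : (Fin l → S) →ₗ[S] N := eN.symm.toLinearMap ∘ₗ (Submodule.span S (Set.range gN)).mkQ
  let φ : (Fin n → S) →ₗ[S] N :=
    u ∘ₗ eM.symm.toLinearMap ∘ₗ (Submodule.span S (Set.range gM)).mkQ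
  have hπ : Function.Surjective πN :=
    eN.symm.surjective.comp (Submodule.mkQ_surjective _)
  obtain ⟨h, hh⟩ := Module.projective_lifting_property πN φ hπ
  have hmk : ∀ x, (Submodule.Quotient.mk (h x) : (Fin l → S) ⧸ Submodule.span S (Set.range gN)) =
      eN (u (eM.symm (Submodule.Quotient.mk x))) := by
    intro x
    have := congrArg (fun f => eN (f x)) hh
    simpa [πN, φ] using this
  have hmem : ∀ i, h (gM i) ∈ Submodule.span S (Set.range gN) := by
    intro i
    rw [← Submodule.Quotient.mk_eq_zero, hmk]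
    have : (Submodule.Quotient.mk (gM i) : (Fin n → S) ⧸ Submodule.span S (Set.range gM)) = 0 :=
      (Submodule.Quotient.mk_eq_zero _).2 (Submodule.subset_span ⟨i, rfl⟩)
    rw [this, map_zero, map_zero, map_zero]
  have hc : ∀ i, ∃ ci : Fin b → S, ∑ t, ci t • gN t = h (gM i) := fun i =>
    (Submodule.mem_span_range_iff_exists_fun S).1 (hmem i)
  choose c hc using hc
  have hrel : PairRel S gM gN (LinearMap.toMatrix' h) c := by
    intro i
    rw [LinearMap.toMatrix'_mulVec, hc i]
  refine ⟨n, l, a, b, gM, gN, LinearMap.toMatrix' h, c, hrel, eM, eN, ?_⟩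
  intro x
  obtain ⟨y, hy⟩ := Submodule.Quotient.mk_surjective _ (eM x)
  rw [← hy, quotLin_mk, LinearMap.toMatrix'_mulVec, hmk, hy, LinearEquiv.symm_apply_apply]

end presentation

section ringhom

variable {A B : Type u} [CommRing A] [CommRing B] {n l a b : ℕ} {gM : Fin a → Fin n → A}
  {gN : Fin b → Fin l → A} {P : Matrix (Fin l) (Fin n) A} {c : Fin a → Fin b → A}

lemma pairRel_ringHom (f : A →+* B) (h : PairRel A gM gN P c) :
    PairRel B (fun i j => f (gM i j)) (fun t j => f (gN t j)) (P.map f)
      (fun i t => f (c i t)) := by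
  letI := f.toAlgebra
  exact pairRel_map B h

lemma pairRel_iff :
    PairRel A gM gN P c ↔ ∀ i j, ∑ k, P j k * gM i k = ∑ t, c i t * gN t j := by
  constructor
  · intro h i j
    have := congrFun (h i) j
    simpa [Matrix.mulVec, dotProduct, Finset.sum_apply] using this
  · intro h i
    ext j
    simpa [Matrix.mulVec, dotProduct, Finset.sum_apply] using h i j

end ringhom

end Groth.Agent.Lib.Helper55.FL
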