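import Mathlib
import Groth.Agent.Lib.Helper55.FL.FlatOfUI
import Groth.Agent.Lib.Helper55.FL.EssFp

/-!
# Regular sequences on a fibre lift to regular sequences with flat quotients (EGA IV 11.3.8)
-/

namespace Groth.Agent.Lib.Helper55.FL

open TensorProduct

universe u

set_option linter.style.haveILetI false

section quot

variable {A B : Type*} [CommRing A] [CommRing B] [Algebra A B]
  {Y : Type*} [AddCommGroup Y] [Module B Y] [Module A Y] [IsScalarTower A B Y]

theorem exists_of_mk_mem_smul_top (K : Submodule B Y) (𝔞 : Ideal A) {z : Y}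
    (h : (Submodule.Quotient.mk z : Y ⧸ K) ∈ 𝔞 • (⊤ : Submodule A (Y ⧸ K))) :
    ∃ y ∈ 𝔞 • (⊤ : Submodule A Y), z - y ∈ K := by
  have key : ∀ w ∈ 𝔞 • (⊤ : Submodule A (Y ⧸ K)),
      ∃ y ∈ 𝔞 • (⊤ : Submodule A Y), (Submodule.Quotient.mk y : Y ⧸ K) = w := by
    intro w hw
    refine Submodule.smul_induction_on hw ?_ ?_
    · intro a ha n _
      obtain ⟨n, rfl⟩ := Submodule.Quotient.mk_surjective K n
      exact ⟨a • n, Submodule.smul_mem_smul ha Submodule.mem_top, rfl⟩
    · rintro _ _ ⟨y₁, h₁, rfl⟩ ⟨y₂, h₂, rfl⟩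
      exact ⟨y₁ + y₂, add_mem h₁ h₂, rfl⟩
  obtain ⟨y, hy, hyz⟩ := key _ h
  exact ⟨y, hy, (Submodule.Quotient.eq K).1 hyz.symm⟩

end quot

section tensor

variable {A B : Type*} [CommRing A] [CommRing B] [Algebra A B]
  {M : Type*} [AddCommGroup M] [Module B M] [Module A M] [IsScalarTower A B M]
  (p : Ideal A) [p.IsPrime]

theorem tmul_one_eq_zero_of_mem {y : M} (hy : y ∈ p • (⊤ : Submodule A M)) :
    y ⊗ₜ[A] (1 : p.ResidueField) = 0 := by
  have := one_tmul_eq_zero_of_mem p hy
  have h2 := congrArg (TensorProduct.comm A p.ResidueField M) this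
  rwa [TensorProduct.comm_tmul, map_zero] at h2

theorem exists_smul_mem_of_tmul_one_eq_zero {m : M} (h : m ⊗ₜ[A] (1 : p.ResidueField) = 0) :
    ∃ r : A, r ∉ p ∧ r • m ∈ p • (⊤ : Submodule A M) := by
  apply exists_smul_mem_of_one_tmul_eq_zero p
  have h2 := congrArg (TensorProduct.comm A M p.ResidueField) h
  rwa [TensorProduct.comm_tmul, map_zero] at h2

/-- `m ↦ m ⊗ k` as a `B`-linear map. -/
noncomputable def tmulRight (K : Type*) [AddCommGroup K] [Module A K] (k : K) :
    M →ₗ[B] M ⊗[A] K where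
  toFun m := m ⊗ₜ[A] k
  map_add' := fun a b => TensorProduct.add_tmul a b k
  map_smul' := fun b m => (TensorProduct.smul_tmul' b m k)

theorem tmul_mem_smul_top (I : Ideal B) (K : Type*) [AddCommGroup K] [Module A K] (k : K)
    {m : M} (hm : m ∈ I • (⊤ : Submodule B M)) :
    m ⊗ₜ[A] k ∈ I • (⊤ : Submodule B (M ⊗[A] K)) :=
  map_mem_smul_top' (R := B) (S' := B) (tmulRight (A := A) K k) I hm

theorem rTensor_mkQ_eq_zero_of_mem (I : Ideal B) (K : Type*) [AddCommGroup K] [Module A K]
    {w : M ⊗[A] K} (hw : w ∈ I • (⊤ : Submodule B (M ⊗[A] K))) :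
    TensorProduct.AlgebraTensorModule.rTensor A K (I • (⊤ : Submodule B M)).mkQ w = 0 := by
  refine Submodule.smul_induction_on hw ?_ ?_
  · intro b hb n _
    rw [map_smul]
    generalize TensorProduct.AlgebraTensorModule.rTensor A K (I • (⊤ : Submodule B M)).mkQ n = v
    induction v using TensorProduct.induction_on with
    | zero => simp
    | tmul m k =>
      obtain ⟨m, rfl⟩ := Submodule.Quotient.mk_surjective _ m
      rw [TensorProduct.smul_tmul', ← Submodule.Quotient.mk_smul,
        (Submodule.Quotient.mk_eq_zero _).2 (Submodule.smul_mem_smul hb Submodule.mem_top),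
        TensorProduct.zero_tmul]
    | add a b ha hb => rw [smul_add, ha, hb, add_zero]
  · intro a b ha hb
    rw [map_add, ha, hb, add_zero]

end tensor

section step

variable {A B : Type*} [CommRing A] [CommRing B] [Algebra A B]
  {M : Type*} [AddCommGroup M] [Module B M] [Module A M] [IsScalarTower A B M]
  (q : Ideal B) [q.IsPrime]

theorem fibre_step (I : Ideal B) (a : B)
    (hreg : IsSMulRegular
      (LocalizedModule q.primeCompl (M ⊗[A] (q.comap (algebraMap A B)).ResidueField) ⧸
        I • (⊤ : Submodule B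
          (LocalizedModule q.primeCompl (M ⊗[A] (q.comap (algebraMap A B)).ResidueField)))) a)
    (x : M ⧸ I • (⊤ : Submodule B M))
    (h : a • x ∈ (q.comap (algebraMap A B)) •
      (⊤ : Submodule A (M ⧸ I • (⊤ : Submodule B M)))) :
    ∃ t ∉ q, t • x ∈ (q.comap (algebraMap A B)) •
      (⊤ : Submodule A (M ⧸ I • (⊤ : Submodule B M))) := by
  obtain ⟨x, rfl⟩ := Submodule.Quotient.mk_surjective _ x
  rw [← Submodule.Quotient.mk_smul] at h
  obtain ⟨y, hy, hxy⟩ := exists_of_mk_mem_smul_top _ _ h
  have h1 : a • (LocalizedModule.mk (x ⊗ₜ[A] (1 : (q.comap (algebraMap A B)).ResidueField))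
      (1 : q.primeCompl)) ∈ I • (⊤ : Submodule B
        (LocalizedModule q.primeCompl (M ⊗[A] (q.comap (algebraMap A B)).ResidueField))) := by
    rw [LocalizedModule.smul'_mk, TensorProduct.smul_tmul']
    have : (a • x) ⊗ₜ[A] (1 : (q.comap (algebraMap A B)).ResidueField) =
        (a • x - y) ⊗ₜ[A] (1 : (q.comap (algebraMap A B)).ResidueField) := by
      rw [TensorProduct.sub_tmul, tmul_one_eq_zero_of_mem _ hy, sub_zero]
    rw [this]
    exact mk_mem_smul_top (R := B) q.primeCompl I (tmul_mem_smul_top I _ 1 hxy) 1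
  have h2 : LocalizedModule.mk (x ⊗ₜ[A] (1 : (q.comap (algebraMap A B)).ResidueField))
      (1 : q.primeCompl) ∈ I • (⊤ : Submodule B
        (LocalizedModule q.primeCompl (M ⊗[A] (q.comap (algebraMap A B)).ResidueField))) := by
    have h3 : a • (Submodule.Quotient.mk (LocalizedModule.mk
        (x ⊗ₜ[A] (1 : (q.comap (algebraMap A B)).ResidueField)) (1 : q.primeCompl)) :
        _ ⧸ I • (⊤ : Submodule B
        (LocalizedModule q.primeCompl (M ⊗[A] (q.comap (algebraMap A B)).ResidueField)))) = 0 := by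
      rw [← Submodule.Quotient.mk_smul]
      exact (Submodule.Quotient.mk_eq_zero _).2 h1
    have h4 := hreg (h3.trans (smul_zero a).symm)
    exact (Submodule.Quotient.mk_eq_zero _).1 h4
  obtain ⟨t₁, ht₁, h5⟩ := exists_smul_mem_of_mk_mem (R := B) q.primeCompl I h2
  have h6 := rTensor_mkQ_eq_zero_of_mem I _ h5
  rw [TensorProduct.smul_tmul', TensorProduct.AlgebraTensorModule.rTensor_tmul] at h6
  obtain ⟨r, hr, h7⟩ := exists_smul_mem_of_tmul_one_eq_zero _ h6
  refine ⟨algebraMap A B r * t₁, ?_, ?_⟩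
  · intro hmem
    rcases Ideal.IsPrime.mem_or_mem ‹q.IsPrime› hmem with h8 | h8
    · exact hr h8
    · exact ht₁ h8
  · rw [mul_smul, algebraMap_smul]
    exact h7

end step

section transfer

variable {A B : Type*} [CommRing A] [CommRing B] [Algebra A B]
  {M : Type*} [AddCommGroup M] [Module B M] [Module A M] [IsScalarTower A B M]
  (q : Ideal B) [q.IsPrime]

theorem mk_eq_mk_smul {Y : Type*} [AddCommGroup Y] [Module B Y] (T : Submonoid B) (y : Y)
    (s t : T) : LocalizedModule.mk y s = LocalizedModule.mk ((t : B) • y) (t * s) := by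
  rw [LocalizedModule.mk_eq]
  refine ⟨1, ?_⟩
  simp only [one_smul, Submonoid.smul_def, Submonoid.coe_mul, mul_smul]
  rw [smul_comm]

theorem regular_localized_quot (I : Ideal B) (a : B)
    (h : ∀ x : M ⧸ I • (⊤ : Submodule B M), a • x = 0 → ∃ t ∉ q, t • x = 0) :
    IsSMulRegular (LocalizedModule q.primeCompl M ⧸
      I • (⊤ : Submodule B (LocalizedModule q.primeCompl M))) a := by
  rw [isSMulRegular_iff_right_eq_zero_of_smul]
  intro v hv
  obtain ⟨y, rfl⟩ := Submodule.Quotient.mk_surjective _ v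
  induction y using LocalizedModule.induction_on with
  | h x s =>
    rw [← Submodule.Quotient.mk_smul, Submodule.Quotient.mk_eq_zero,
      LocalizedModule.smul'_mk] at hv
    obtain ⟨t₁, ht₁, h1⟩ := exists_smul_mem_of_mk_mem (R := B) q.primeCompl I hv
    have h2 : a • (Submodule.Quotient.mk (t₁ • x) : M ⧸ I • (⊤ : Submodule B M)) = 0 := by
      rw [← Submodule.Quotient.mk_smul, Submodule.Quotient.mk_eq_zero, smul_comm]
      exact h1
    obtain ⟨t, ht, h3⟩ := h _ h2
    rw [← Submodule.Quotient.mk_smul, Submodule.Quotient.mk_eq_zero] at h3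
    rw [Submodule.Quotient.mk_eq_zero]
    have hmem : t * t₁ ∈ q.primeCompl := q.primeCompl.mul_mem ht ht₁
    rw [mk_eq_mk_smul q.primeCompl x s ⟨t * t₁, hmem⟩]
    refine mk_mem_smul_top (R := B) q.primeCompl I ?_ _
    show (t * t₁) • x ∈ _
    rw [mul_smul]
    exact h3

theorem top_ne_of_fibre (I : Ideal B) (K : Type*) [AddCommGroup K] [Module A K]
    (h : (⊤ : Submodule B (LocalizedModule q.primeCompl (M ⊗[A] K))) ≠ I • ⊤) :
    (⊤ : Submodule B (LocalizedModule q.primeCompl M)) ≠ I • ⊤ := by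
  intro htop
  apply h
  symm
  rw [eq_top_iff]
  intro w _
  induction w using LocalizedModule.induction_on with
  | h ω s =>
    induction ω using TensorProduct.induction_on with
    | zero =>
      rw [LocalizedModule.zero_mk]
      exact Submodule.zero_mem _
    | tmul m k =>
      have h1 : LocalizedModule.mk m (1 : q.primeCompl) ∈
          I • (⊤ : Submodule B (LocalizedModule q.primeCompl M)) := by
        rw [← htop]; exact Submodule.mem_top
      obtain ⟨t, ht, h2⟩ := exists_smul_mem_of_mk_mem (R := B) q.primeCompl I h1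
      rw [mk_eq_mk_smul q.primeCompl (m ⊗ₜ[A] k) s ⟨t, ht⟩]
      refine mk_mem_smul_top (R := B) q.primeCompl I ?_ _
      show t • (m ⊗ₜ[A] k) ∈ _
      rw [TensorProduct.smul_tmul']
      exact tmul_mem_smul_top I K k h2
    | add ω₁ ω₂ h₁ h₂ =>
      have : LocalizedModule.mk (ω₁ + ω₂) s =
          LocalizedModule.mk ω₁ s + LocalizedModule.mk ω₂ s := by
        rw [LocalizedModule.mk_add_mk, LocalizedModule.mk_eq]
        refine ⟨1, ?_⟩
        simp only [one_smul, smul_add, Submonoid.smul_def, Submonoid.coe_mul, mul_smul]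
      rw [this]
      exact add_mem (h₁ Submodule.mem_top) (h₂ Submodule.mem_top)

/-- flatness of the localization transfers along a linear equivalence. -/
theorem flat_localized_of_equiv {X Y : Type*} [AddCommGroup X] [Module B X] [Module A X]
    [IsScalarTower A B X] [AddCommGroup Y] [Module B Y] [Module A Y] [IsScalarTower A B Y]
    (e : X ≃ₗ[B] Y) (T : Submonoid B) (h : Module.Flat A (LocalizedModule T X)) :
    Module.Flat A (LocalizedModule T Y) := by
  let e' : LocalizedModule T X ≃ₗ[Localization T] LocalizedModule T Y :=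
    IsLocalizedModule.mapEquiv T (LocalizedModule.mkLinearMap T X)
      (LocalizedModule.mkLinearMap T Y) (Localization T) e
  exact Module.Flat.of_linearEquiv (e'.restrictScalars A).symm

end transfer

section main

variable {A B : Type u} [CommRing A] [CommRing B] [Algebra A B] [Algebra.FinitePresentation A B]
  (M : Type u) [AddCommGroup M] [Module B M] [Module A M] [IsScalarTower A B M]
  [Module.FinitePresentation B M] (q : Ideal B) [q.IsPrime]

omit [Module A M] [IsScalarTower A B M] [Algebra A B] [Algebra.FinitePresentation A B] in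
theorem finitePresentation_quot (I : Ideal B) (hI : I.FG) :
    Module.FinitePresentation B (M ⧸ I • (⊤ : Submodule B M)) :=
  Module.finitePresentation_of_surjective (I • (⊤ : Submodule B M)).mkQ
    (Submodule.mkQ_surjective _)
    (by rw [Submodule.ker_mkQ]; exact Submodule.FG.smul hI Module.Finite.fg_top)

omit [Module A M] [IsScalarTower A B M] [Algebra A B] [Algebra.FinitePresentation A B]
  [Module.FinitePresentation B M] in
theorem range_lsmul_eq (I : Ideal B) (a : B) :
    LinearMap.range (LinearMap.lsmul B (M ⧸ I • (⊤ : Submodule B M)) a) =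
      (Ideal.span {a} • (⊤ : Submodule B M)).map (I • (⊤ : Submodule B M)).mkQ := by
  ext y
  constructor
  · rintro ⟨x, rfl⟩
    obtain ⟨x, rfl⟩ := Submodule.Quotient.mk_surjective _ x
    exact ⟨a • x, Submodule.smul_mem_smul (Ideal.mem_span_singleton_self a) Submodule.mem_top, rfl⟩
  · rintro ⟨z, hz, rfl⟩
    rw [SetLike.mem_coe, Submodule.ideal_span_singleton_smul] at hz
    obtain ⟨z', _, rfl⟩ := (Submodule.mem_smul_pointwise_iff_exists _ _ _).1 hz
    exact ⟨Submodule.Quotient.mk z', rfl⟩

/-- `(M/IM)/a(M/IM) ≃ M/((a)+I)M`. -/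
noncomputable def quotStepEquiv (I : Ideal B) (a : B) :
    ((M ⧸ I • (⊤ : Submodule B M)) ⧸
      LinearMap.range (LinearMap.lsmul B (M ⧸ I • (⊤ : Submodule B M)) a)) ≃ₗ[B]
      M ⧸ (Ideal.span {a} ⊔ I) • (⊤ : Submodule B M) :=
  (Submodule.quotEquivOfEq _ _ (range_lsmul_eq M I a)) ≪≫ₗ
    (Submodule.quotientQuotientEquivQuotientSup (I • (⊤ : Submodule B M))
      (Ideal.span {a} • (⊤ : Submodule B M))) ≪≫ₗ
    (Submodule.quotEquivOfEq _ _ (by rw [Submodule.sup_smul, sup_comm]))

/-- One step of EGA IV 11.3.8. -/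
theorem regseq_step (I : Ideal B) (hI : I.FG) (a : B)
    (hflat : Module.Flat A (LocalizedModule q.primeCompl (M ⧸ I • (⊤ : Submodule B M))))
    (hreg : IsSMulRegular
      (LocalizedModule q.primeCompl (M ⊗[A] (q.comap (algebraMap A B)).ResidueField) ⧸
        I • (⊤ : Submodule B
          (LocalizedModule q.primeCompl (M ⊗[A] (q.comap (algebraMap A B)).ResidueField)))) a) :
    (∀ x : M ⧸ I • (⊤ : Submodule B M), a • x = 0 → ∃ t ∉ q, t • x = 0) ∧
      Module.Flat A (LocalizedModule q.primeCompl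
        (M ⧸ (Ideal.span {a} ⊔ I) • (⊤ : Submodule B M))) := by
  haveI := finitePresentation_quot M I hI
  obtain ⟨h1, h2⟩ := fp_inj_flat (LinearMap.lsmul B (M ⧸ I • (⊤ : Submodule B M)) a) q hflat
    (fun x hx => fibre_step q I a hreg x hx)
  exact ⟨h1, flat_localized_of_equiv (quotStepEquiv M I a) q.primeCompl h2⟩

end main

end Groth.Agent.Lib.Helper55.FL
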