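import Groth.Agent.Lib.Helper55.FL.TorBC
import Groth.Agent.Lib.Helper55.FL.LocalCrit

set_option autoImplicit false
universe u v

namespace Groth.Agent.Lib.Helper55.FL

open TensorProduct

section bc

variable {k : Type u} [CommRing k] (p : Ideal k) (N : Type u) [AddCommGroup N] [Module k N]
  (R₁ : Type u) [CommRing R₁] [Algebra k R₁]

theorem hflat_baseChange (hflat : Module.Flat (k ⧸ p) ((k ⧸ p) ⊗[k] N)) :
    Module.Flat (R₁ ⧸ p.map (algebraMap k R₁))
      ((R₁ ⧸ p.map (algebraMap k R₁)) ⊗[R₁] (R₁ ⊗[k] N)) := by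
  let Rb := R₁ ⧸ p.map (algebraMap k R₁)
  let kb := k ⧸ p
  let e1 : Rb ⊗[R₁] (R₁ ⊗[k] N) ≃ₗ[Rb] Rb ⊗[k] N :=
    AlgebraTensorModule.cancelBaseChange k R₁ Rb Rb N
  let e2 : Rb ⊗[kb] (kb ⊗[k] N) ≃ₗ[Rb] Rb ⊗[k] N :=
    AlgebraTensorModule.cancelBaseChange k kb Rb Rb N
  have h2 : Module.Flat Rb (Rb ⊗[kb] (kb ⊗[k] N)) := inferInstance
  have h3 : Module.Flat Rb (Rb ⊗[k] N) := Module.Flat.of_linearEquiv e2.symm
  exact Module.Flat.of_linearEquiv e1

end bc

section rel

variable {k : Type u} [CommRing k] {r : ℕ} (x : Fin r → k)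
  (N : Type u) [CommRing N] [Algebra k N]
  (R' : Type u) [CommRing R'] [Algebra k R']

def lam : (Fin r → N) ⊗[k] R' →ₗ[k] (Fin r → R' ⊗[k] N) :=
  LinearMap.pi fun i => (TensorProduct.comm k N R').toLinearMap ∘ₗ (LinearMap.proj i).rTensor R'

@[simp]
lemma lam_tmul (ξ : Fin r → N) (u : R') (i : Fin r) :
    lam N R' (ξ ⊗ₜ[k] u) i = u ⊗ₜ[k] ξ i := by
  simp [lam]

lemma lam_surjective : Function.Surjective (lam (k := k) (r := r) N R') := by
  classical
  intro c
  refine ⟨∑ i, (LinearMap.single k (fun _ => N) i).rTensor R'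
    ((TensorProduct.comm k N R').symm (c i)), ?_⟩
  ext j
  rw [map_sum, Finset.sum_apply]
  rw [Finset.sum_eq_single j]
  · generalize c j = z
    induction z using TensorProduct.induction_on with
    | zero => simp
    | add a b ha hb => simp only [map_add, Pi.add_apply, ha, hb]
    | tmul u n => simp
  · intro i _ hij
    generalize c i = z
    induction z using TensorProduct.induction_on with
    | zero => simp
    | add a b ha hb => simp only [map_add, Pi.add_apply, ha, hb, add_zero]
    | tmul u n => simp [Pi.single_eq_of_ne (Ne.symm hij)]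
  · simp

lemma sig_lam (b : (Fin r → N) ⊗[k] R') :
    sig x (R' ⊗[k] N) (lam N R' b) = TensorProduct.comm k N R' ((sig x N).rTensor R' b) := by
  induction b using TensorProduct.induction_on with
  | zero => simp
  | add a b ha hb => simp only [map_add, ha, hb]
  | tmul ξ u =>
    rw [sig_apply, LinearMap.rTensor_tmul, TensorProduct.comm_tmul, sig_apply,
      TensorProduct.tmul_sum]
    refine Finset.sum_congr rfl fun i _ => ?_
    rw [lam_tmul, TensorProduct.tmul_smul]

def relGenSpan : Submodule (R' ⊗[k] N) (Fin r → R' ⊗[k] N) :=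
  Submodule.span (R' ⊗[k] N) {c | ∃ ν : Fin r → N, sig x N ν = 0 ∧ c = fun i => (1 : R') ⊗ₜ[k] ν i}

variable (p : Ideal k) (hx : Ideal.span (Set.range x) = p)
  [Module.Flat (k ⧸ p) ((k ⧸ p) ⊗[k] N)]

include hx in
theorem rel_le (c : Fin r → R' ⊗[k] N) (hc : ∑ i, x i • c i = 0) :
    c ∈ relGenSpan x N R' ⊔
      trivRel (R := R') (S := R' ⊗[k] N) (fun i => algebraMap k R' (x i)) := by
  obtain ⟨b, rfl⟩ := lam_surjective N R' c
  have hb : (sig x N).rTensor R' b = 0 := by
    apply (TensorProduct.comm k N R').injective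
    rw [← sig_lam, sig_apply, hc, map_zero]
  have hmem := rel_tensor_le x p hx N R' b hb
  let W : Submodule k (Fin r → R' ⊗[k] N) := (relGenSpan x N R' ⊔
      trivRel (R := R') (S := R' ⊗[k] N) (fun i => algebraMap k R' (x i))).restrictScalars k
  suffices h : LinearMap.range ((LinearMap.ker (sig x N)).subtype.rTensor R') ⊔ trivSpan x N R' ≤
      W.comap (lam N R') from h hmem
  refine sup_le ?_ ?_
  · rintro _ ⟨t, rfl⟩
    change lam N R' _ ∈ W
    induction t using TensorProduct.induction_on with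
    | zero => simp
    | add a b ha hb => rw [map_add, map_add]; exact add_mem ha hb
    | tmul ν u =>
      rw [LinearMap.rTensor_tmul]
      refine Submodule.mem_sup_left ?_
      have : lam N R' ((LinearMap.ker (sig x N)).subtype ν ⊗ₜ[k] u) =
          (u ⊗ₜ[k] (1 : N)) • (fun i => (1 : R') ⊗ₜ[k] (ν : Fin r → N) i) := by
        ext i
        simp
      rw [this]
      exact Submodule.smul_mem _ _ (Submodule.subset_span ⟨ν, ν.2, rfl⟩)
  · refine Submodule.span_le.2 ?_
    rintro _ ⟨ρ, n, hρ, rfl⟩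
    change lam N R' _ ∈ W
    refine Submodule.mem_sup_right (Submodule.subset_span ⟨ρ, (1 : R') ⊗ₜ[k] n, ?_, ?_⟩)
    · rw [sig_apply] at hρ
      rw [← hρ]
      exact Finset.sum_congr rfl fun i _ => (Algebra.smul_def _ _).symm
    · classical
      ext j
      rw [map_sum, Finset.sum_apply, Finset.sum_eq_single j]
      · simp [TensorProduct.smul_tmul']
      · intro i _ hij
        simp [Pi.single_eq_of_ne (Ne.symm hij)]
      · simp

end rel

end Groth.Agent.Lib.Helper55.FL
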