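import Groth.Agent.Lib.Lead.PullbackAff3
import Groth.Agent.Lib.Lead.CohAff3
import Groth.Agent.Lib.Lead.QCohAff5
import Groth.Agent.Lib.Helper2.FinPresAff
import Groth.Agent.Lib.Helper2.FinLocFreeAff
import Groth.Agent.Lib.Helper55.FL.DescentNonflat
import Groth.Agent.S2394

set_option autoImplicit false

universe u

namespace Groth.Agent.Lib.Helper55.FL

open AlgebraicGeometry CategoryTheory Opposite TopologicalSpace
open Groth.Agent.Lib.Lead.PullbackAff Groth.Agent.Lib.Lead.QCohAff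

section cat

open Scheme.Modules

/-- Pullback along an isomorphism can be cancelled. -/
noncomputable def pullbackInvCancel {X Y : Scheme.{u}} (j : Y ⟶ X) [IsIso j] (H : X.Modules) :
    (pullback (inv j)).obj ((pullback j).obj H) ≅ H :=
  (pullbackComp (inv j) j).app H ≪≫ (pullbackCongr (IsIso.inv_hom_id j)).app H ≪≫
    (pullbackId X).app H

/-- If the pullbacks of `F` and `G` along an isomorphism agree, so do `F` and `G`. -/
noncomputable def isoOfPullbackIso {X Y : Scheme.{u}} (j : Y ⟶ X) [IsIso j] {F G : X.Modules}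
    (e : (pullback j).obj F ≅ (pullback j).obj G) : F ≅ G :=
  (pullbackInvCancel j F).symm ≪≫ (pullback (inv j)).mapIso e ≪≫ pullbackInvCancel j G

theorem isIso_fromSpec_top (X : Scheme.{u}) [IsAffine X] :
    IsIso (isAffineOpen_top X).fromSpec := by
  rw [IsAffineOpen.fromSpec_top]; infer_instance

/-- A quasi-coherent module on an affine scheme whose global sections are a base change
`Γ(X,⊤) ⊗[S₀] N₀` is the pullback of `tilde N₀`. -/
theorem nonempty_pullback_tilde_iso {X : Scheme.{u}} [IsAffine X] (F : X.Modules)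
    [F.IsQuasicoherent] {S₀ : CommRingCat.{u}} (ψ : S₀ ⟶ Γ(X, ⊤)) (N₀ : ModuleCat.{u} S₀)
    (e : (ModuleCat.extendScalars ψ.hom).obj N₀ ≅ ModuleCat.of Γ(X, ⊤) Γ(F, ⊤))
    (g' : X ⟶ Spec S₀) (hg' : (isAffineOpen_top X).fromSpec ≫ g' = Spec.map ψ) :
    Nonempty ((pullback g').obj (tilde N₀) ≅ F) := by
  have := isIso_fromSpec_top X
  have hX := isAffineOpen_top X
  let i1 : F.restrict hX.fromSpec ≅
      (tilde.functor Γ(X, ⊤)).obj (moduleSpecΓFunctor.obj (F.restrict hX.fromSpec)) :=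
    (asIso (F.restrict hX.fromSpec).fromTildeΓ).symm
  let i2 : (tilde.functor Γ(X, ⊤)).obj (moduleSpecΓFunctor.obj (F.restrict hX.fromSpec)) ≅
      (tilde.functor Γ(X, ⊤)).obj ((ModuleCat.extendScalars ψ.hom).obj N₀) :=
    (tilde.functor Γ(X, ⊤)).mapIso ((secEquiv hX F).toModuleIso ≪≫ e.symm)
  let i3 : (tilde.functor Γ(X, ⊤)).obj ((ModuleCat.extendScalars ψ.hom).obj N₀) ≅
      (pullback (Spec.map ψ)).obj (tilde N₀) := ((tildePullbackIso ψ).app N₀).symm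
  let i4 : (pullback (Spec.map ψ)).obj (tilde N₀) ≅
      (pullback hX.fromSpec).obj ((pullback g').obj (tilde N₀)) :=
    (pullbackCongr hg'.symm).app (tilde N₀) ≪≫ ((pullbackComp hX.fromSpec g').app (tilde N₀)).symm
  let i0 : (pullback hX.fromSpec).obj F ≅ F.restrict hX.fromSpec :=
    ((restrictFunctorIsoPullback hX.fromSpec).app F).symm
  exact ⟨(isoOfPullbackIso hX.fromSpec (i0 ≪≫ i1 ≪≫ i2 ≪≫ i3 ≪≫ i4)).symm⟩

end cat

section square

theorem exists_isPullback_of_isPushout {X S : Scheme.{u}} (f : X ⟶ S) [IsAffine X] [IsAffine S]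
    (hUV : (⊤ : X.Opens) ≤ f ⁻¹ᵁ ⊤) {R₀ S₀ : CommRingCat.{u}} (ρ : R₀ ⟶ S₀)
    (α : R₀ ⟶ Γ(S, ⊤)) (ψ : S₀ ⟶ Γ(X, ⊤))
    (hpo : IsPushout α ρ (f.appLE ⊤ ⊤ hUV) ψ) :
    ∃ (g : S ⟶ Spec R₀) (g' : X ⟶ Spec S₀), IsPullback g' f (Spec.map ρ) g ∧
      (isAffineOpen_top X).fromSpec ≫ g' = Spec.map ψ := by
  have := isIso_fromSpec_top X
  have := isIso_fromSpec_top S
  have hX := isAffineOpen_top X
  have hS := isAffineOpen_top S
  have P1 : IsPullback (Spec.map ψ) (Spec.map (f.appLE ⊤ ⊤ hUV)) (Spec.map ρ) (Spec.map α) :=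
    (isPullback_SpecMap_of_isPushout α ρ (f.appLE ⊤ ⊤ hUV) ψ hpo).flip
  have comm : inv hX.fromSpec ≫ Spec.map (f.appLE ⊤ ⊤ hUV) = f ≫ inv hS.fromSpec := by
    rw [IsIso.inv_comp_eq, ← Category.assoc, IsIso.eq_comp_inv]
    exact hS.SpecMap_appLE_fromSpec f hX hUV
  have P2 : IsPullback (inv hX.fromSpec) f (Spec.map (f.appLE ⊤ ⊤ hUV)) (inv hS.fromSpec) :=
    IsPullback.of_horiz_isIso ⟨comm⟩
  exact ⟨inv hS.fromSpec ≫ Spec.map α, inv hX.fromSpec ≫ Spec.map ψ, P2.paste_horiz P1,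
    by rw [IsIso.hom_inv_id_assoc]⟩

end square

section alg

open TensorProduct

theorem nonempty_extendScalars_iso_aux {S₀ B : Type u} [CommRing S₀] [CommRing B]
    (ψh : S₀ →+* B) (M₀ M : Type u) [AddCommGroup M₀] [Module S₀ M₀] [AddCommGroup M]
    [Module B M] :
    letI := ψh.toAlgebra
    ∀ [Module S₀ M] [IsScalarTower S₀ B M] (φ₀ : M₀ →ₗ[S₀] M), IsBaseChange B φ₀ →
      Nonempty ((ModuleCat.extendScalars ψh).obj (ModuleCat.of S₀ M₀) ≅ ModuleCat.of B M) := by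
  letI := ψh.toAlgebra
  intro _ _ φ₀ h
  exact ⟨((extendScalarsEquiv ψh (ModuleCat.of S₀ M₀)).trans h.equiv).toModuleIso⟩

theorem nonempty_extendScalars_iso {S₀ B : Type u} [CommRing S₀] [CommRing B]
    [inst : Algebra S₀ B] (M₀ M : Type u) [AddCommGroup M₀] [Module S₀ M₀] [AddCommGroup M]
    [Module B M] [Module S₀ M] [IsScalarTower S₀ B M] (φ₀ : M₀ →ₗ[S₀] M)
    (h : IsBaseChange B φ₀) :
    Nonempty ((ModuleCat.extendScalars (algebraMap S₀ B)).obj (ModuleCat.of S₀ M₀) ≅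
      ModuleCat.of B M) := by
  obtain ⟨ψh, hψ⟩ : ∃ ψh : S₀ →+* B, ψh = algebraMap S₀ B := ⟨_, rfl⟩
  have key : inst = ψh.toAlgebra := Algebra.algebra_ext _ _ (fun r => by rw [hψ]; rfl)
  rw [← hψ]
  clear hψ
  subst key
  exact nonempty_extendScalars_iso_aux ψh M₀ M φ₀ h

end alg

section main

open Scheme.Modules

theorem exists_scheme_model {X S : Scheme.{u}} (f : X ⟶ S) [IsAffine X] [IsAffine S]
    [LocallyOfFinitePresentation f] (F : X.Modules) [F.IsQuasicoherent]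
    (hF : SheafOfModules.IsFinitePresentation (R := X.ringCatSheaf) F) (P : Prop)
    (hfl : P → FlatMod.IsFlatOver f F) :
    ∃ (X₀ S₀ : Scheme.{u}) (f₀ : X₀ ⟶ S₀) (g : S ⟶ S₀) (g' : X ⟶ X₀), IsAffine X₀ ∧ IsAffine S₀ ∧
      IsPullback g' f f₀ g ∧ Algebra.FiniteType ℤ Γ(S₀, ⊤) ∧ LocallyOfFiniteType f₀ ∧
      ∃ F₀ : X₀.Modules, Coh.IsCoh F₀ ∧ (P → FlatMod.IsFlatOver f₀ F₀) ∧
        Nonempty ((Scheme.Modules.pullback g').obj F₀ ≅ F) := by
  have hX := isAffineOpen_top X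
  have hS := isAffineOpen_top S
  have hUV : (⊤ : X.Opens) ≤ f ⁻¹ᵁ ⊤ := le_top
  letI algAB : Algebra Γ(S, ⊤) Γ(X, ⊤) := (f.appLE ⊤ ⊤ hUV).hom.toAlgebra
  letI modAM : Module Γ(S, ⊤) Γ(F, ⊤) := Module.compHom Γ(F, ⊤) (f.appLE ⊤ ⊤ hUV).hom
  haveI : IsScalarTower Γ(S, ⊤) Γ(X, ⊤) Γ(F, ⊤) :=
    IsScalarTower.of_algebraMap_smul fun _ _ => rfl
  haveI fpAB : Algebra.FinitePresentation Γ(S, ⊤) Γ(X, ⊤) :=
    f.finitePresentation_appLE hS hX hUV
  haveI := hF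
  haveI fpM : Module.FinitePresentation Γ(X, ⊤) Γ(F, ⊤) :=
    Groth.Agent.Lib.Helper2.FinTypeAff.finitePresentation_sections F hX
  have hflM : P → Module.Flat Γ(S, ⊤) Γ(F, ⊤) := fun hp =>
    (flat_sections_iff f F hX hS hUV).2 (fun x _ => hfl hp x)
  obtain ⟨R₀, _, _, S₀, _, _, _, _, _, _, M₀, _, _, _, _, _, _, φ₀, hR₀, hS₀, hM₀, hflat₀, hpo,
    hbc⟩ := exists_descent P Γ(S, ⊤) Γ(X, ⊤) Γ(F, ⊤) hflM
  have hpoC : IsPushout (CommRingCat.ofHom (algebraMap R₀ Γ(S, ⊤)))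
      (CommRingCat.ofHom (algebraMap R₀ S₀)) (f.appLE ⊤ ⊤ hUV)
      (CommRingCat.ofHom (algebraMap S₀ Γ(X, ⊤))) :=
    CommRingCat.isPushout_of_isPushout R₀ Γ(S, ⊤) S₀ Γ(X, ⊤)
  obtain ⟨g, g', hpb, hg'⟩ := exists_isPullback_of_isPushout f hUV
    (CommRingCat.ofHom (algebraMap R₀ S₀)) (CommRingCat.ofHom (algebraMap R₀ Γ(S, ⊤)))
    (CommRingCat.ofHom (algebraMap S₀ Γ(X, ⊤))) hpoC
  obtain ⟨e⟩ := nonempty_extendScalars_iso M₀ Γ(F, ⊤) φ₀ hbc
  obtain ⟨iso⟩ := nonempty_pullback_tilde_iso F (CommRingCat.ofHom (algebraMap S₀ Γ(X, ⊤)))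
    (ModuleCat.of S₀ M₀) e g' hg'
  refine ⟨Spec (CommRingCat.of S₀), Spec (CommRingCat.of R₀),
    Spec.map (CommRingCat.ofHom (algebraMap R₀ S₀)), g, g', inferInstance, inferInstance, hpb,
    ?_, ?_, tilde (ModuleCat.of S₀ M₀), ⟨inferInstance, ?_⟩, ?_, ⟨iso⟩⟩
  · exact Algebra.FiniteType.equiv hR₀
      (Scheme.ΓSpecIso (CommRingCat.of R₀)).symm.commRingCatIsoToRingEquiv.toIntAlgEquiv
  · rw [HasRingHomProperty.Spec_iff (P := @LocallyOfFiniteType)]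
    exact RingHom.finiteType_algebraMap.2 hS₀
  · refine Groth.Agent.Lib.Lead.CohAff.isFiniteType_of_finite_sections _ (fun x =>
      ⟨⊤, isAffineOpen_top _, trivial, ?_⟩)
    have h1 : Module.Finite (CommRingCat.of S₀) (ModuleCat.of S₀ M₀) := hM₀
    exact (Groth.Agent.Lib.Helper2.FinLocFreeAff.finite_iff_tilde
      (R := CommRingCat.of S₀) (ModuleCat.of S₀ M₀)).1 h1
  · intro hp
    have := hflat₀ hp
    exact (Groth.Agent.S2394.result R₀ S₀ M₀).2 inferInstance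

end main

end Groth.Agent.Lib.Helper55.FL
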