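import Mathlib
import Groth.Agent.Lib.Helper55.FL.InjFlatOpen

/-!
# Slicing by a fibrewise nonzerodivisor (ring level)
-/

set_option autoImplicit false
set_option linter.style.haveILetI false

namespace Groth.Agent.Lib.Helper55.FL

open TensorProduct

universe u

theorem slice_ring {A B₀ : Type u} [CommRing A] [CommRing B₀] [Algebra A B₀]
    [Algebra.FinitePresentation A B₀]
    (q : Ideal B₀) [q.IsPrime] (hfl : Module.Flat A (Localization.AtPrime q)) (b : B₀)
    (hreg : ∀ y : B₀, y * b ∈ (q.comap (algebraMap A B₀)).map (algebraMap A B₀) →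
      ∃ t ∉ q, t * y ∈ (q.comap (algebraMap A B₀)).map (algebraMap A B₀)) :
    ∃ g : B₀, g ∉ q ∧ ∀ (B : Type u) [CommRing B] [Algebra B₀ B] [IsLocalization.Away g B]
      [Algebra A B] [IsScalarTower A B₀ B],
      algebraMap B₀ B b ∈ nonZeroDivisors B ∧
        Module.Flat A (B ⧸ Ideal.span {algebraMap B₀ B b}) := by
  have hmem : ∀ y : B₀, y ∈ (q.comap (algebraMap A B₀)) • (⊤ : Submodule A B₀) ↔
      y ∈ (q.comap (algebraMap A B₀)).map (algebraMap A B₀) := by
    intro y
    rw [Ideal.smul_top_eq_map]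
    rfl
  let u : B₀ →ₗ[B₀] B₀ := LinearMap.toSpanSingleton B₀ B₀ b
  have hu : ∀ y, u y = y * b := fun y => rfl
  have hN : Module.Flat A (LocalizedModule q.primeCompl B₀) :=
    Module.Flat.of_linearEquiv ((IsLocalizedModule.iso q.primeCompl
      (Algebra.linearMap B₀ (Localization.AtPrime q))).restrictScalars A)
  obtain ⟨h1, h2⟩ := fp_inj_flat (R := A) u q hN (by
    intro y hy
    rw [hmem, hu] at hy
    obtain ⟨t, ht, hty⟩ := hreg y hy
    exact ⟨t, ht, (hmem _).2 hty⟩)
  obtain ⟨g, hg, hker, hflg⟩ := exists_away_inj_flat (A := A) u q h1 h2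
  refine ⟨g, hg, ?_⟩
  intro B _ _ _ _ _
  constructor
  · rw [mem_nonZeroDivisors_iff_right]
    intro y hy
    obtain ⟨y₀, s, rfl⟩ := IsLocalization.exists_mk'_eq (Submonoid.powers g) y
    rw [← IsLocalization.mk'_one (M := Submonoid.powers g) B b, ← IsLocalization.mk'_mul,
      IsLocalization.mk'_eq_zero_iff] at hy
    obtain ⟨m, hm⟩ := hy
    have h3 : u ((m : B₀) * y₀) = 0 := by rw [hu, mul_assoc]; exact hm
    obtain ⟨n, hn⟩ := hker _ h3
    rw [IsLocalization.mk'_eq_zero_iff]
    refine ⟨⟨g ^ n, n, rfl⟩ * m, ?_⟩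
    rw [Submonoid.coe_mul, mul_assoc]
    exact hn
  · have hr : LinearMap.range u = Ideal.span {b} :=
      (LinearMap.span_singleton_eq_range B₀ B₀ b).symm
    rw [hr] at hflg
    let I : Ideal B₀ := Ideal.span {b}
    let e := IsLocalizedModule.iso (Submonoid.powers g)
      (Submodule.toLocalizedQuotient' B (Submonoid.powers g) (Algebra.linearMap B₀ B) I)
    have h4 : Module.Flat A (B ⧸ Submodule.localized' B (Submonoid.powers g)
        (Algebra.linearMap B₀ B) I) :=
      Module.Flat.of_linearEquiv (e.restrictScalars A).symm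
    have h5 : Submodule.localized' B (Submonoid.powers g) (Algebra.linearMap B₀ B) I =
        Ideal.span {algebraMap B₀ B b} := by
      rw [Ideal.localized'_eq_map, Ideal.map_span, Set.image_singleton]
    rw [h5] at h4
    exact h4

end Groth.Agent.Lib.Helper55.FL
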