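import Mathlib
import Groth.Agent.Lib.Helper55.FL.Slice
import Groth.Agent.Lib.Helper55.FL.StalkFlat

/-!
# Slicing by a fibrewise nonzerodivisor (scheme level)
-/

set_option autoImplicit false
set_option linter.style.haveILetI false

namespace Groth.Agent.Lib.Helper55.FL

open AlgebraicGeometry CategoryTheory

universe u

variable {X S : Scheme.{u}}

theorem fibre_hyp (f : X ⟶ S) {V : S.Opens} (hV : IsAffineOpen V) {U₀ : X.Opens}
    (hU₀ : IsAffineOpen U₀) (e : U₀ ≤ f ⁻¹ᵁ V) (x : X) (hx : x ∈ U₀) (b₀ : Γ(X, U₀))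
    (hreg : Ideal.Quotient.mk (Ideal.map (f.stalkMap x).hom
        (IsLocalRing.maximalIdeal (S.presheaf.stalk (f x)))) (X.presheaf.germ U₀ x hx b₀) ∈
      nonZeroDivisors (X.presheaf.stalk x ⧸ Ideal.map (f.stalkMap x).hom
        (IsLocalRing.maximalIdeal (S.presheaf.stalk (f x))))) :
    letI := (f.appLE V U₀ e).hom.toAlgebra
    ∀ y : Γ(X, U₀), y * b₀ ∈ (((hU₀.primeIdealOf ⟨x, hx⟩).asIdeal.comap
        (algebraMap Γ(S, V) Γ(X, U₀))).map (algebraMap Γ(S, V) Γ(X, U₀))) →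
      ∃ t ∉ (hU₀.primeIdealOf ⟨x, hx⟩).asIdeal, t * y ∈
        (((hU₀.primeIdealOf ⟨x, hx⟩).asIdeal.comap
          (algebraMap Γ(S, V) Γ(X, U₀))).map (algebraMap Γ(S, V) Γ(X, U₀))) := by
  letI := (f.appLE V U₀ e).hom.toAlgebra
  letI := X.presheaf.algebra_section_stalk ⟨x, hx⟩
  haveI := hU₀.isLocalization_stalk ⟨x, hx⟩
  letI := S.presheaf.algebra_section_stalk ⟨f x, e hx⟩
  haveI := hV.isLocalization_stalk ⟨f x, e hx⟩
  set q := (hU₀.primeIdealOf ⟨x, hx⟩).asIdeal with hq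
  set p := (hV.primeIdealOf ⟨f x, e hx⟩).asIdeal with hp
  have hpq : q.comap (algebraMap Γ(S, V) Γ(X, U₀)) = p :=
    congrArg PrimeSpectrum.asIdeal (IsAffineOpen.comap_primeIdealOf_appLE V hV U₀ hU₀ e hx)
  have hcompat : (f.stalkMap x).hom.comp (algebraMap Γ(S, V) (S.presheaf.stalk (f x))) =
      (algebraMap Γ(X, U₀) (X.presheaf.stalk x)).comp (algebraMap Γ(S, V) Γ(X, U₀)) := by
    ext a
    simp only [RingHom.algebraMap_toAlgebra, RingHom.coe_comp, Function.comp_apply,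
      Scheme.Hom.appLE, homOfLE_leOfHom, CommRingCat.hom_comp]
    erw [Scheme.Hom.germ_stalkMap_apply, X.presheaf.germ_res_apply]
  set J := Ideal.map (f.stalkMap x).hom (IsLocalRing.maximalIdeal (S.presheaf.stalk (f x)))
    with hJdef
  have hJ : J = Ideal.map (algebraMap Γ(X, U₀) (X.presheaf.stalk x))
      (Ideal.map (algebraMap Γ(S, V) Γ(X, U₀)) p) := by
    rw [hJdef, ← IsLocalization.AtPrime.map_eq_maximalIdeal p (S.presheaf.stalk (f x)),
      Ideal.map_map, Ideal.map_map, hcompat]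
  intro y hy
  rw [hpq] at hy ⊢
  have h1 : algebraMap Γ(X, U₀) (X.presheaf.stalk x) y *
      algebraMap Γ(X, U₀) (X.presheaf.stalk x) b₀ ∈ J := by
    rw [hJ, ← map_mul]
    exact Ideal.mem_map_of_mem _ hy
  have h2 : algebraMap Γ(X, U₀) (X.presheaf.stalk x) y ∈ J := by
    have h3 := (mem_nonZeroDivisors_iff_right.1 hreg)
      (Ideal.Quotient.mk J (algebraMap Γ(X, U₀) (X.presheaf.stalk x) y)) (by
        rw [← map_mul]
        exact Ideal.Quotient.eq_zero_iff_mem.2 h1)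
    exact Ideal.Quotient.eq_zero_iff_mem.1 h3
  rw [hJ, IsLocalization.mem_map_algebraMap_iff q.primeCompl] at h2
  obtain ⟨⟨a, t⟩, hat⟩ := h2
  rw [← map_mul, IsLocalization.eq_iff_exists q.primeCompl] at hat
  obtain ⟨c, hc⟩ := hat
  refine ⟨c * t, q.primeCompl.mul_mem c.2 t.2, ?_⟩
  have h4 : ((c : Γ(X, U₀)) * (t : Γ(X, U₀))) * y = c * a := by
    rw [← hc]
    ring
  rw [h4]
  exact Ideal.mul_mem_left _ _ a.2

theorem slice_scheme (f : X ⟶ S) [LocallyOfFinitePresentation f] (x : X)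
    (hflat : (f.stalkMap x).hom.Flat) (h : X.presheaf.stalk x)
    (hreg : Ideal.Quotient.mk (Ideal.map (f.stalkMap x).hom
        (IsLocalRing.maximalIdeal (S.presheaf.stalk (f x)))) h ∈
      nonZeroDivisors (X.presheaf.stalk x ⧸ Ideal.map (f.stalkMap x).hom
        (IsLocalRing.maximalIdeal (S.presheaf.stalk (f x))))) :
    ∃ (U : X.Opens) (hU : IsAffineOpen U) (hx : x ∈ U) (h' : Γ(X, U)),
      X.presheaf.germ U x hx h' = h ∧ h' ∈ nonZeroDivisors Γ(X, U) ∧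
      Flat (Spec.map (CommRingCat.ofHom (Ideal.Quotient.mk (Ideal.span {h'}))) ≫
        hU.fromSpec ≫ f) ∧
      LocallyOfFinitePresentation (Spec.map (CommRingCat.ofHom
        (Ideal.Quotient.mk (Ideal.span {h'}))) ≫ hU.fromSpec ≫ f) := by
  obtain ⟨_, ⟨V, hV, rfl⟩, hfxV, -⟩ :=
    S.isBasis_affineOpens.exists_subset_of_mem_open (Set.mem_univ (f x)) isOpen_univ
  obtain ⟨W, hxW, t, ht⟩ := X.presheaf.exists_germ_eq h
  obtain ⟨_, ⟨U₀, hU₀, rfl⟩, hxU₀, hU₀le⟩ :=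
    X.isBasis_affineOpens.exists_subset_of_mem_open
      (show x ∈ ((f ⁻¹ᵁ V) ⊓ W : X.Opens) from ⟨hfxV, hxW⟩) ((f ⁻¹ᵁ V) ⊓ W).isOpen
  have hU₀V : U₀ ≤ f ⁻¹ᵁ V := fun y hy => (hU₀le hy).1
  have hU₀W : U₀ ≤ W := fun y hy => (hU₀le hy).2
  let b₀ : Γ(X, U₀) := X.presheaf.map (homOfLE hU₀W).op t
  have hb₀ : X.presheaf.germ U₀ x hxU₀ b₀ = h := by
    rw [← ht]
    exact X.presheaf.germ_res_apply _ _ _ _
  letI := (f.appLE V U₀ hU₀V).hom.toAlgebra
  haveI : Algebra.FinitePresentation Γ(S, V) Γ(X, U₀) :=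
    f.finitePresentation_appLE hV hU₀ hU₀V
  have hflq : Module.Flat Γ(S, V)
      (Localization.AtPrime (hU₀.primeIdealOf ⟨x, hxU₀⟩).asIdeal) :=
    (stalkMap_flat_iff f hV hU₀ hU₀V x hxU₀).1 hflat
  have hreg' := fibre_hyp f hV hU₀ hU₀V x hxU₀ b₀ (by rw [hb₀]; exact hreg)
  obtain ⟨g, hg, hB⟩ := slice_ring (hU₀.primeIdealOf ⟨x, hxU₀⟩).asIdeal hflq b₀ hreg'
  have hgU : X.basicOpen g ≤ U₀ := X.basicOpen_le g
  have hU : IsAffineOpen (X.basicOpen g) := hU₀.basicOpen g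
  have hxU : x ∈ X.basicOpen g := by
    rw [Scheme.mem_basicOpen _ _ _ hxU₀]
    letI := X.presheaf.algebra_section_stalk ⟨x, hxU₀⟩
    haveI := hU₀.isLocalization_stalk ⟨x, hxU₀⟩
    exact (IsLocalization.AtPrime.isUnit_to_map_iff (X.presheaf.stalk x)
      (hU₀.primeIdealOf ⟨x, hxU₀⟩).asIdeal g).2 hg
  have hUV : X.basicOpen g ≤ f ⁻¹ᵁ V := hgU.trans hU₀V
  haveI := hU₀.isLocalization_basicOpen g
  letI : Algebra Γ(S, V) Γ(X, X.basicOpen g) := (f.appLE V (X.basicOpen g) hUV).hom.toAlgebra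
  haveI : IsScalarTower Γ(S, V) Γ(X, U₀) Γ(X, X.basicOpen g) :=
    IsScalarTower.of_algebraMap_eq' (by
      simp only [RingHom.algebraMap_toAlgebra]
      rw [← CommRingCat.hom_comp, Scheme.Hom.appLE_map])
  obtain ⟨hnzd, hfl⟩ := hB Γ(X, X.basicOpen g)
  haveI : Algebra.FinitePresentation Γ(S, V) Γ(X, X.basicOpen g) :=
    f.finitePresentation_appLE hV hU hUV
  set h' : Γ(X, X.basicOpen g) := algebraMap Γ(X, U₀) Γ(X, X.basicOpen g) b₀ with hh'
  have hcomp : (f.appLE V (X.basicOpen g) hUV ≫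
      CommRingCat.ofHom (Ideal.Quotient.mk (Ideal.span {h'}))).hom =
      algebraMap Γ(S, V) (Γ(X, X.basicOpen g) ⧸ Ideal.span {h'}) := rfl
  refine ⟨X.basicOpen g, hU, hxU, h', ?_, hnzd, ?_, ?_⟩
  · rw [← hb₀]
    exact X.presheaf.germ_res_apply _ _ _ _
  · rw [← IsAffineOpen.SpecMap_appLE_fromSpec f hV hU hUV, ← Spec.map_comp_assoc]
    haveI : Flat (Spec.map (f.appLE V (X.basicOpen g) hUV ≫
        CommRingCat.ofHom (Ideal.Quotient.mk (Ideal.span {h'})))) := by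
      rw [Flat.SpecMap_iff, hcomp, RingHom.flat_algebraMap_iff]
      exact hfl
    infer_instance
  · rw [← IsAffineOpen.SpecMap_appLE_fromSpec f hV hU hUV, ← Spec.map_comp_assoc]
    haveI : LocallyOfFinitePresentation (Spec.map (f.appLE V (X.basicOpen g) hUV ≫
        CommRingCat.ofHom (Ideal.Quotient.mk (Ideal.span {h'})))) := by
      rw [LocallyOfFinitePresentation.SpecMap_iff, hcomp]
      have h1 : (algebraMap Γ(S, V) Γ(X, X.basicOpen g)).FinitePresentation :=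
        RingHom.finitePresentation_algebraMap.2 inferInstance
      have h2 : (Ideal.Quotient.mk (Ideal.span {h'})).FinitePresentation :=
        RingHom.FinitePresentation.of_surjective _ Ideal.Quotient.mk_surjective (by
          rw [Ideal.mk_ker]
          exact ⟨{h'}, by simp⟩)
      exact h2.comp h1
    infer_instance

end Groth.Agent.Lib.Helper55.FL
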