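import Groth.Agent.Lib.Helper55.FL.ColimDescent

set_option autoImplicit false

universe u v

namespace Groth.Agent.Lib.Helper55.FL

open TensorProduct

section lift

variable {k : Type u} [CommRing k]
  {ι : Type u} [Preorder ι] (G : ι → Type u) [∀ i, CommRing (G i)] [∀ i, Algebra k (G i)]
  (g : ∀ i j, i ≤ j → G i →+* G j)
  (hgk : ∀ i j (h : i ≤ j), (g i j h).comp (algebraMap k (G i)) = algebraMap k (G j))
  (A : Type u) [CommRing A] [Algebra k A] [∀ i, Algebra (G i) A] [∀ i, IsScalarTower k (G i) A]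
  (hcolim : FlatCA.IsDirectedColimitRing G g A)

include hgk hcolim in
theorem exists_algHom_of_finitePresentation (P : Type u) [CommRing P] [Algebra k P]
    [Algebra.FinitePresentation k P] (φ : P →ₐ[k] A) :
    ∃ (j : ι) (ψ : P →ₐ[k] G j), ∀ x, algebraMap (G j) A (ψ x) = φ x := by
  classical
  obtain ⟨hdir, hne, hid, hcomp, hcompat, hsurj, hker⟩ := hcolim
  haveI := hdir
  haveI := hne
  obtain ⟨n, f, hf, hfg⟩ := Algebra.FinitePresentation.out (R := k) (A := P)
  have hl : ∀ l : Fin n, ∃ i, ∃ x : G i,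
      algebraMap (G i) A x = φ (f (MvPolynomial.X l)) := fun l => hsurj _
  choose il xl hxl using hl
  obtain ⟨i₀, hi₀⟩ := Finset.exists_le (Finset.univ.image il)
  have hil : ∀ l, il l ≤ i₀ := fun l => hi₀ _ (Finset.mem_image_of_mem _ (Finset.mem_univ l))
  have hx' : ∀ l, algebraMap (G i₀) A (g (il l) i₀ (hil l) (xl l)) =
      φ (f (MvPolynomial.X l)) := fun l => by
    rw [← hxl l]
    exact RingHom.congr_fun (hcompat (il l) i₀ (hil l)) (xl l)
  have hφ₀ : ∀ p, algebraMap (G i₀) A
      (MvPolynomial.aeval (R := k) (fun l => g (il l) i₀ (hil l) (xl l)) p) = φ (f p) := by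
    intro p
    have : (IsScalarTower.toAlgHom k (G i₀) A).comp
        (MvPolynomial.aeval (R := k) (fun l => g (il l) i₀ (hil l) (xl l))) = φ.comp f := by
      apply MvPolynomial.algHom_ext
      intro l
      simp [hx']
    exact AlgHom.congr_fun this p
  obtain ⟨T, hT⟩ := hfg
  have hz : ∀ t ∈ T, ∃ j, i₀ ≤ j ∧ ∀ h : i₀ ≤ j,
      g i₀ j h (MvPolynomial.aeval (R := k) (fun l => g (il l) i₀ (hil l) (xl l)) t) = 0 := by
    intro t ht
    have h0 : algebraMap (G i₀) A
        (MvPolynomial.aeval (R := k) (fun l => g (il l) i₀ (hil l) (xl l)) t) = 0 := by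
      rw [hφ₀]
      have : t ∈ RingHom.ker f := hT ▸ Ideal.subset_span ht
      rw [RingHom.mem_ker] at this
      rw [this, map_zero]
    obtain ⟨j, h, hj⟩ := hker i₀ _ h0
    exact ⟨j, h, fun _ => hj⟩
  choose! jt hjt hjt0 using hz
  obtain ⟨j, hj⟩ := Finset.exists_le (insert i₀ (T.image jt))
  have hi₀j : i₀ ≤ j := hj _ (Finset.mem_insert_self _ _)
  have hjtj : ∀ t ∈ T, jt t ≤ j := fun t ht =>
    hj _ (Finset.mem_insert_of_mem (Finset.mem_image_of_mem _ ht))
  have hkill : ∀ a ∈ RingHom.ker f,
      (({ g i₀ j hi₀j with commutes' := fun c => RingHom.congr_fun (hgk i₀ j hi₀j) c } :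
        G i₀ →ₐ[k] G j).comp
        (MvPolynomial.aeval (R := k) (fun l => g (il l) i₀ (hil l) (xl l)))) a = 0 := by
    have hle : RingHom.ker f ≤ RingHom.ker
        (({ g i₀ j hi₀j with commutes' := fun c => RingHom.congr_fun (hgk i₀ j hi₀j) c } :
          G i₀ →ₐ[k] G j).comp
          (MvPolynomial.aeval (R := k) (fun l => g (il l) i₀ (hil l) (xl l)))) := by
      have hT' : Ideal.span (T : Set (MvPolynomial (Fin n) k)) = RingHom.ker f := hT
      rw [← hT', Ideal.span_le]
      intro t ht
      have h1 : g i₀ j hi₀j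
          (MvPolynomial.aeval (R := k) (fun l => g (il l) i₀ (hil l) (xl l)) t) =
          g (jt t) j (hjtj t ht) (g i₀ (jt t) (hjt t ht)
            (MvPolynomial.aeval (R := k) (fun l => g (il l) i₀ (hil l) (xl l)) t)) :=
        (RingHom.congr_fun (hcomp i₀ (jt t) j (hjt t ht) (hjtj t ht)) _).symm
      show g i₀ j hi₀j
        (MvPolynomial.aeval (R := k) (fun l => g (il l) i₀ (hil l) (xl l)) t) = 0
      rw [h1, hjt0 t ht, map_zero]
    exact fun a ha => hle ha
  refine ⟨j, (Ideal.Quotient.liftₐ (RingHom.ker f) _ hkill).comp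
    (Ideal.quotientKerAlgEquivOfSurjective hf).symm.toAlgHom, fun x => ?_⟩
  obtain ⟨y, rfl⟩ := hf x
  have h1 : (Ideal.quotientKerAlgEquivOfSurjective hf).symm (f y) =
      Ideal.Quotient.mk (RingHom.ker f) y := by
    rw [AlgEquiv.symm_apply_eq]
    rfl
  show algebraMap (G j) A ((Ideal.Quotient.liftₐ (RingHom.ker f) _ hkill)
    ((Ideal.quotientKerAlgEquivOfSurjective hf).symm (f y))) = φ (f y)
  rw [h1]
  show algebraMap (G j) A (g i₀ j hi₀j
    (MvPolynomial.aeval (R := k) (fun l => g (il l) i₀ (hil l) (xl l)) y)) = φ (f y)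
  rw [← hφ₀ y]
  exact RingHom.congr_fun (hcompat i₀ j hi₀j) _

end lift

section away

variable {A : Type u} [CommRing A] (p : Ideal A) [p.IsPrime]

structure AwayIdx : Type u where
  val : A
  prop : val ∈ p.primeCompl

instance : Preorder (AwayIdx p) where
  le a b := a.val ∣ b.val
  le_refl a := dvd_refl _
  le_trans a b c := dvd_trans

variable {p} in
abbrev AwayIdx.ring (t : AwayIdx p) : Type u := Localization.Away t.val

variable {p} in
theorem AwayIdx.isUnit_of_le {t t' : AwayIdx p} (h : t ≤ t') :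
    IsUnit (algebraMap A (Localization.Away t'.val) t.val) :=
  isUnit_of_dvd_unit (map_dvd _ h) (IsLocalization.Away.algebraMap_isUnit t'.val)

variable {p} in
noncomputable def AwayIdx.map (t t' : AwayIdx p) (h : t ≤ t') : t.ring →+* t'.ring :=
  IsLocalization.Away.lift t.val (AwayIdx.isUnit_of_le h)

variable {p} in
theorem AwayIdx.isUnit_atPrime (t : AwayIdx p) :
    IsUnit (algebraMap A (Localization.AtPrime p) t.val) :=
  IsLocalization.map_units (Localization.AtPrime p) (⟨t.val, t.prop⟩ : p.primeCompl)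

noncomputable instance AwayIdx.algAtPrime (t : AwayIdx p) :
    Algebra t.ring (Localization.AtPrime p) :=
  (IsLocalization.Away.lift t.val t.isUnit_atPrime).toAlgebra

instance AwayIdx.towerAtPrime (t : AwayIdx p) :
    IsScalarTower A t.ring (Localization.AtPrime p) :=
  IsScalarTower.of_algebraMap_eq fun a =>
    (IsLocalization.Away.lift_eq t.val t.isUnit_atPrime a).symm

theorem AwayIdx.map_comp_algebraMap (t t' : AwayIdx p) (h : t ≤ t') :
    (AwayIdx.map t t' h).comp (algebraMap A t.ring) = algebraMap A t'.ring :=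
  IsLocalization.Away.lift_comp t.val (AwayIdx.isUnit_of_le h)

theorem AwayIdx.algebraMap_comp_algebraMap (t : AwayIdx p) :
    (algebraMap t.ring (Localization.AtPrime p)).comp (algebraMap A t.ring) =
      algebraMap A (Localization.AtPrime p) :=
  IsLocalization.Away.lift_comp t.val t.isUnit_atPrime

theorem isDirectedColimit_away :
    FlatCA.IsDirectedColimitRing (fun t : AwayIdx p => t.ring) AwayIdx.map
      (Localization.AtPrime p) := by
  refine ⟨⟨fun t t' => ⟨⟨t.val * t'.val, mul_mem t.prop t'.prop⟩,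
    (dvd_mul_right t.val t'.val : t.val ∣ t.val * t'.val),
    (dvd_mul_left t'.val t.val : t'.val ∣ t.val * t'.val)⟩⟩,
    ⟨⟨1, one_mem _⟩⟩, ?_, ?_, ?_, ?_, ?_⟩
  · intro t
    apply IsLocalization.ringHom_ext (Submonoid.powers t.val)
    rw [AwayIdx.map_comp_algebraMap, RingHom.id_comp]
  · intro i j l hij hjl
    apply IsLocalization.ringHom_ext (Submonoid.powers i.val)
    rw [RingHom.comp_assoc, AwayIdx.map_comp_algebraMap, AwayIdx.map_comp_algebraMap,
      AwayIdx.map_comp_algebraMap]
  · intro i j h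
    apply IsLocalization.ringHom_ext (Submonoid.powers i.val)
    rw [RingHom.comp_assoc, AwayIdx.map_comp_algebraMap, AwayIdx.algebraMap_comp_algebraMap,
      AwayIdx.algebraMap_comp_algebraMap]
  · intro a
    obtain ⟨⟨x, s⟩, rfl⟩ := IsLocalization.mk'_surjective p.primeCompl a
    obtain ⟨t, ht⟩ : ∃ t : AwayIdx p, t.val = s.1 := ⟨⟨s.1, s.2⟩, rfl⟩
    refine ⟨t, IsLocalization.mk' t.ring x
      (⟨t.val, ⟨1, pow_one _⟩⟩ : Submonoid.powers t.val), ?_⟩
    rw [IsLocalization.eq_mk'_iff_mul_eq]
    have h1 : algebraMap A (Localization.AtPrime p) (s : A) =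
        algebraMap t.ring (Localization.AtPrime p) (algebraMap A t.ring t.val) := by
      rw [← ht]
      exact (RingHom.congr_fun (AwayIdx.algebraMap_comp_algebraMap p t) t.val).symm
    have h2 : algebraMap A (Localization.AtPrime p) x =
        algebraMap t.ring (Localization.AtPrime p) (algebraMap A t.ring x) :=
      (RingHom.congr_fun (AwayIdx.algebraMap_comp_algebraMap p t) x).symm
    rw [h1, h2, ← map_mul]
    congr 1
    exact IsLocalization.mk'_spec t.ring x
      (⟨t.val, ⟨1, pow_one _⟩⟩ : Submonoid.powers t.val)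
  · intro i x hx
    obtain ⟨⟨a, s⟩, rfl⟩ := IsLocalization.mk'_surjective (Submonoid.powers i.val) x
    have h1 : algebraMap A (Localization.AtPrime p) a = 0 := by
      have h2 := RingHom.congr_fun (AwayIdx.algebraMap_comp_algebraMap p i) a
      rw [← h2, RingHom.comp_apply, ← IsLocalization.mk'_spec (Localization.Away i.val) a s,
        map_mul, hx, zero_mul]
    obtain ⟨u, hu⟩ := (IsLocalization.map_eq_zero_iff p.primeCompl (Localization.AtPrime p) a).1 h1
    let j : AwayIdx p := ⟨i.val * u.1, mul_mem i.prop u.2⟩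
    have hij : i ≤ j := (dvd_mul_right i.val u.1 : i.val ∣ i.val * u.1)
    refine ⟨j, hij, ?_⟩
    have huj : IsUnit (algebraMap A j.ring (u : A)) :=
      isUnit_of_dvd_unit (map_dvd _ (dvd_mul_left (u : A) i.val))
        (IsLocalization.Away.algebraMap_isUnit j.val)
    have ha0 : algebraMap A j.ring a = 0 := by
      have : algebraMap A j.ring (u : A) * algebraMap A j.ring a = 0 := by
        rw [← map_mul, hu, map_zero]
      exact (huj.mul_right_eq_zero).1 this
    have hs : IsUnit (AwayIdx.map i j hij (algebraMap A i.ring (s : A))) := by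
      have h3 := RingHom.congr_fun (AwayIdx.map_comp_algebraMap p i j hij) (s : A)
      rw [RingHom.comp_apply] at h3
      rw [h3]
      obtain ⟨n, hn⟩ := s.2
      rw [← hn, map_pow]
      exact (AwayIdx.isUnit_of_le hij).pow n
    have h4 : AwayIdx.map i j hij (IsLocalization.mk' (Localization.Away i.val) a s) *
        AwayIdx.map i j hij (algebraMap A i.ring (s : A)) = 0 := by
      rw [← map_mul, IsLocalization.mk'_spec]
      have h3 := RingHom.congr_fun (AwayIdx.map_comp_algebraMap p i j hij) a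
      rw [RingHom.comp_apply] at h3
      rw [h3, ha0]
    exact (hs.mul_left_eq_zero).1 h4

end away

end Groth.Agent.Lib.Helper55.FL
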