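import Groth.Agent.Lib.Helper6.LocalFlat4

set_option autoImplicit false
universe u v

namespace Groth.Agent.Lib.Helper55.FL

open TensorProduct

section

variable {k : Type u} [CommRing k] {r : ℕ} (x : Fin r → k)

def sig (X : Type*) [AddCommGroup X] [Module k X] : (Fin r → X) →ₗ[k] X :=
  ∑ i, x i • LinearMap.proj i

lemma sig_apply (X : Type*) [AddCommGroup X] [Module k X] (ξ : Fin r → X) :
    sig x X ξ = ∑ i, x i • ξ i := by
  simp [sig]

lemma sig_single (X : Type*) [AddCommGroup X] [Module k X] (i : Fin r) (n : X) :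
    sig x X (Pi.single i n) = x i • n := by
  classical
  rw [sig_apply, Finset.sum_eq_single i]
  · simp
  · intro j _ hj
    simp [Pi.single_eq_of_ne hj]
  · simp

lemma sig_map {X Y : Type*} [AddCommGroup X] [Module k X] [AddCommGroup Y] [Module k Y]
    (f : X →ₗ[k] Y) (ξ : Fin r → X) : sig x Y (f ∘ ξ) = f (sig x X ξ) := by
  simp [sig_apply, map_sum]

def trivSpan (N : Type*) [AddCommGroup N] [Module k N] (U : Type*) [AddCommGroup U] [Module k U] :
    Submodule k ((Fin r → N) ⊗[k] U) :=
  Submodule.span k {z | ∃ (ρ : Fin r → U) (n : N), sig x U ρ = 0 ∧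
    z = ∑ i, (Pi.single i n : Fin r → N) ⊗ₜ[k] ρ i}

lemma exists_sum_of_mem_smul_top {G : Type*} [AddCommGroup G] [Module k G] (g : G)
    (hg : g ∈ (Ideal.span (Set.range x) • ⊤ : Submodule k G)) :
    ∃ γ : Fin r → G, g = ∑ i, x i • γ i := by
  refine Submodule.smul_induction_on hg ?_ ?_
  · intro a ha g _
    obtain ⟨c, rfl⟩ := (Ideal.mem_span_range_iff_exists_fun).1 ha
    refine ⟨fun i => c i • g, ?_⟩
    rw [Finset.sum_smul]
    refine Finset.sum_congr rfl fun i _ => ?_
    rw [smul_smul, mul_comm]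
  · rintro g₁ g₂ ⟨γ₁, rfl⟩ ⟨γ₂, rfl⟩
    refine ⟨γ₁ + γ₂, ?_⟩
    simp [Finset.sum_add_distrib]

end

section main

variable {k : Type u} [CommRing k] {r : ℕ} (x : Fin r → k) (p : Ideal k)
  (hx : Ideal.span (Set.range x) = p)
  (N : Type u) [AddCommGroup N] [Module k N] [Module.Flat (k ⧸ p) ((k ⧸ p) ⊗[k] N)]
  (U : Type v) [AddCommGroup U] [Module k U]

include hx in
theorem rel_tensor_le_aux {G : Type*} [AddCommGroup G] [Module k G] [Module.Flat k G]
    (π : G →ₗ[k] U) (hπ : Function.Surjective π)
    (b : (Fin r → N) ⊗[k] U) (hb : (sig x N).rTensor U b = 0) :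
    b ∈ LinearMap.range ((LinearMap.ker (sig x N)).subtype.rTensor U) ⊔ trivSpan x N U := by
  classical
  let H : Submodule k G := LinearMap.ker π
  obtain ⟨bt, rfl⟩ := LinearMap.lTensor_surjective (Fin r → N) hπ b
  have hc : π.lTensor N ((sig x N).rTensor G bt) = 0 := by
    rw [← hb, ← LinearMap.comp_apply, ← LinearMap.comp_apply, LinearMap.lTensor_comp_rTensor,
      LinearMap.rTensor_comp_lTensor]
  have hex1 : Function.Exact (H.subtype.lTensor N) (π.lTensor N) :=
    lTensor_exact N (LinearMap.exact_subtype_ker_map π) hπ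
  obtain ⟨h, hh⟩ := (hex1 _).mp hc
  let PG : Submodule k G := p • ⊤
  have hPG : ∀ t : (Fin r → N) ⊗[k] G, PG.mkQ.lTensor N ((sig x N).rTensor G t) = 0 := by
    intro t
    induction t using TensorProduct.induction_on with
    | zero => simp
    | add a b ha hb => simp only [map_add, ha, hb, add_zero]
    | tmul ξ g =>
      rw [LinearMap.rTensor_tmul, LinearMap.lTensor_tmul, sig_apply, TensorProduct.sum_tmul]
      refine Finset.sum_eq_zero fun i _ => ?_
      rw [TensorProduct.smul_tmul, ← map_smul]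
      have : x i • g ∈ PG := Submodule.smul_mem_smul
        (hx ▸ Ideal.subset_span (Set.mem_range_self i)) Submodule.mem_top
      rw [Submodule.mkQ_apply, (Submodule.Quotient.mk_eq_zero PG).2 this, TensorProduct.tmul_zero]
  let J : Submodule k H := PG.comap H.subtype
  let j : (H ⧸ J) →ₗ[k] (G ⧸ PG) := J.mapQ PG H.subtype le_rfl
  have hj : Function.Injective j := by
    rw [← LinearMap.ker_eq_bot, eq_bot_iff]
    intro y hy
    obtain ⟨y, rfl⟩ := Submodule.Quotient.mk_surjective _ y
    rw [LinearMap.mem_ker, Submodule.mapQ_apply, Submodule.Quotient.mk_eq_zero] at hy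
    exact (Submodule.Quotient.mk_eq_zero J).2 hy
  have hP : Module.IsTorsionBySet k (H ⧸ J) p := by
    intro y a
    obtain ⟨y, rfl⟩ := Submodule.Quotient.mk_surjective _ y
    rw [← Submodule.Quotient.mk_smul, Submodule.Quotient.mk_eq_zero]
    exact Submodule.smul_mem_smul a.2 Submodule.mem_top
  have hQ : Module.IsTorsionBySet k (G ⧸ PG) p := by
    intro y a
    obtain ⟨y, rfl⟩ := Submodule.Quotient.mk_surjective _ y
    rw [← Submodule.Quotient.mk_smul, Submodule.Quotient.mk_eq_zero]
    exact Submodule.smul_mem_smul a.2 Submodule.mem_top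
  have hinj := Groth.Agent.Lib.Helper6.LocalFlat.lTensor_injective_of_flat_baseChange
    (M := N) p hP hQ j hj
  have h0 : J.mkQ.lTensor N h = 0 := by
    apply hinj
    rw [map_zero, ← LinearMap.comp_apply, ← LinearMap.lTensor_comp]
    have : j ∘ₗ J.mkQ = PG.mkQ ∘ₗ H.subtype := by
      ext y
      rfl
    rw [this, LinearMap.lTensor_comp, LinearMap.comp_apply, hh]
    exact hPG bt
  have hex2 : Function.Exact (J.subtype.lTensor N) (J.mkQ.lTensor N) :=
    lTensor_exact N (LinearMap.exact_subtype_mkQ J) (Submodule.mkQ_surjective J)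
  obtain ⟨h', hh'⟩ := (hex2 h).mp h0
  have key : ∀ h' : N ⊗[k] J, ∃ bt' : (Fin r → N) ⊗[k] G,
      (sig x N).rTensor G bt' = (H.subtype ∘ₗ J.subtype).lTensor N h' ∧
      π.lTensor (Fin r → N) bt' ∈ trivSpan x N U := by
    intro h'
    induction h' using TensorProduct.induction_on with
    | zero => exact ⟨0, by simp, by simp⟩
    | add a b ha hb =>
      obtain ⟨a', ha1, ha2⟩ := ha
      obtain ⟨b', hb1, hb2⟩ := hb
      exact ⟨a' + b', by rw [map_add, map_add, ha1, hb1], by
        rw [map_add]; exact add_mem ha2 hb2⟩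
    | tmul n η =>
      have hη : ((η : H) : G) ∈ (Ideal.span (Set.range x) • ⊤ : Submodule k G) := by
        rw [hx]
        exact η.2
      obtain ⟨γ, hγ⟩ := exists_sum_of_mem_smul_top x _ hη
      refine ⟨∑ i, (Pi.single i n : Fin r → N) ⊗ₜ[k] γ i, ?_, ?_⟩
      · rw [map_sum, LinearMap.lTensor_tmul]
        simp only [LinearMap.rTensor_tmul, sig_single, LinearMap.comp_apply,
          Submodule.subtype_apply]
        rw [hγ, TensorProduct.tmul_sum]
        refine Finset.sum_congr rfl fun i _ => ?_
        rw [TensorProduct.smul_tmul]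
      · rw [map_sum]
        simp only [LinearMap.lTensor_tmul]
        refine Submodule.subset_span ⟨fun i => π (γ i), n, ?_, rfl⟩
        rw [sig_apply]
        simp only [← map_smul, ← map_sum]
        rw [← hγ]
        exact (η : H).2
  obtain ⟨bt', hbt1, hbt2⟩ := key h'
  have hdiff : (sig x N).rTensor G (bt - bt') = 0 := by
    rw [map_sub, hbt1, LinearMap.lTensor_comp, LinearMap.comp_apply, hh', hh, sub_self]
  have hex : Function.Exact ((LinearMap.ker (sig x N)).subtype.rTensor G)
      ((sig x N).rTensor G) :=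
    Module.Flat.rTensor_exact G (LinearMap.exact_subtype_ker_map (sig x N))
  obtain ⟨e, he⟩ := (hex _).mp hdiff
  have : π.lTensor (Fin r → N) bt = π.lTensor (Fin r → N) bt' +
      (LinearMap.ker (sig x N)).subtype.rTensor U (π.lTensor _ e) := by
    have h1 : (LinearMap.ker (sig x N)).subtype.rTensor U (π.lTensor _ e) =
        π.lTensor _ ((LinearMap.ker (sig x N)).subtype.rTensor G e) := by
      rw [← LinearMap.comp_apply, ← LinearMap.comp_apply, LinearMap.rTensor_comp_lTensor,
        LinearMap.lTensor_comp_rTensor]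
    rw [h1, he, map_sub]
    abel
  rw [this, add_comm]
  exact Submodule.add_mem_sup (LinearMap.mem_range_self _ _) hbt2

include hx in
theorem rel_tensor_le (b : (Fin r → N) ⊗[k] U) (hb : (sig x N).rTensor U b = 0) :
    b ∈ LinearMap.range ((LinearMap.ker (sig x N)).subtype.rTensor U) ⊔ trivSpan x N U :=
  rel_tensor_le_aux x p hx N U (Finsupp.linearCombination k (id : U → U))
    (Finsupp.linearCombination_id_surjective k U) b hb

end main

end Groth.Agent.Lib.Helper55.FL
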