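import Mathlib
import Groth.Prelude.Def_FlatCA
import Groth.Agent.Lib.Helper55.FL.UnivInjFF
import Groth.Agent.Lib.Helper55.FL.FpUI
import Groth.Agent.Lib.Helper55.FL.FlatOfUI
import Groth.Agent.Lib.Helper85.KollarFlat3

/-!
# Universal injectivity of `N → S' ⊗ N`, global finitely presented case (Stacks 05FX-type)

`R → S` finitely presented, `N` a finitely presented `S`-module flat over `R`, `S → S'` flat such that
all fibre-associated primes of `N` are in the image of `Spec S'`.  Then `N → S' ⊗_S N` is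
`R`-universally injective.
-/

namespace Groth.Agent.Lib.Helper55.FL

open TensorProduct

universe u

set_option linter.style.haveILetI false

attribute [local instance] Algebra.TensorProduct.rightAlgebra

section fibreideal

variable {R S : Type u} [CommRing R] [CommRing S] [Algebra R S] (p : Ideal R) [p.IsPrime]

/-- every ideal of the fibre ring is extended from its contraction to `S`. -/
theorem fiberIdeal_comap_eq (Q : Ideal (p.Fiber S)) :
    FlatCA.fiberIdeal p (Q.comap (algebraMap S (p.Fiber S))) = Q := by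
  unfold FlatCA.fiberIdeal
  apply le_antisymm
  · rw [Ideal.map_le_iff_le_comap]
    exact le_rfl
  · intro f hf
    obtain ⟨r, hr, s, hfs⟩ := Ideal.Fiber.exists_smul_eq_one_tmul p f
    have h1 : ((1 : p.ResidueField) ⊗ₜ[R] s : p.Fiber S) ∈ Q := by
      rw [← hfs, Algebra.smul_def]
      exact Q.mul_mem_left _ hf
    have h2 : s ∈ Q.comap (algebraMap S (p.Fiber S)) := h1
    have h3 : ((1 : p.ResidueField) ⊗ₜ[R] s : p.Fiber S) ∈
        Ideal.map (Algebra.TensorProduct.includeRight (R := R) (A := p.ResidueField)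
          (B := S)).toRingHom (Q.comap (algebraMap S (p.Fiber S))) :=
      Ideal.mem_map_of_mem _ h2
    rw [← hfs, Algebra.smul_def] at h3
    obtain ⟨u, hu⟩ := Groth.Agent.Lib.Helper24.FiberAss.isUnit_algebraMap_fiber (S := S) p r hr
    have h4 : f = (↑u⁻¹ : p.Fiber S) * (algebraMap R (p.Fiber S) r * f) := by
      rw [← hu, ← mul_assoc, Units.inv_mul, one_mul]
    rw [h4]
    exact Ideal.mul_mem_left _ _ h3

/-- the contraction to `S` of a prime of the fibre ring over `p` lies over `p`. -/
theorem liesOver_comap_fiber (Q : Ideal (p.Fiber S)) [Q.IsPrime] :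
    (Q.comap (algebraMap S (p.Fiber S))).LiesOver p := by
  constructor
  ext r
  rw [Ideal.under_def, Ideal.mem_comap, Ideal.mem_comap]
  constructor
  · intro hr
    have : algebraMap S (p.Fiber S) (algebraMap R S r) = 0 := by
      rw [← IsScalarTower.algebraMap_apply R S (p.Fiber S),
        IsScalarTower.algebraMap_apply R p.ResidueField (p.Fiber S),
        (Ideal.algebraMap_residueField_eq_zero).2 hr, map_zero]
    rw [this]
    exact Q.zero_mem
  · intro hr
    by_contra hrp
    have hu := Groth.Agent.Lib.Helper24.FiberAss.isUnit_algebraMap_fiber (S := S) p r hrp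
    rw [IsScalarTower.algebraMap_apply R S (p.Fiber S)] at hu
    exact (inferInstance : Q.IsPrime).ne_top (Ideal.eq_top_of_isUnit_mem _ hr hu)

end fibreideal

section ass'

variable {S F X : Type*} [CommRing S] [CommRing F] [Algebra S F] [AddCommGroup X] [Module F X]
  [Module S X] [IsScalarTower S F X]

/-- variant of `exists_le_associatedPrime` returning the associated prime of `F`. -/
theorem exists_le_comap_associatedPrime [IsNoetherianRing F] [Module.Finite F X] (P : Ideal S)
    [P.IsPrime] (hP : ∀ s ∈ P, ∃ v : X, v ≠ 0 ∧ s • v = 0) :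
    ∃ Q ∈ associatedPrimes F X, P ≤ Q.comap (algebraMap S F) := by
  have hsub : (P : Set S) ⊆ ⋃ Q ∈ associatedPrimes F X, (Q.comap (algebraMap S F) : Set S) := by
    intro s hs
    obtain ⟨v, hv0, hv⟩ := hP s hs
    have hmem : algebraMap S F s ∈ { r : F | ∃ x : X, x ≠ 0 ∧ r • x = 0 } :=
      ⟨v, hv0, by rw [algebraMap_smul]; exact hv⟩
    rw [← biUnion_associatedPrimes_eq_zero_divisors] at hmem
    obtain ⟨Q, hQ, hsQ⟩ := Set.mem_iUnion₂.1 hmem
    exact Set.mem_iUnion₂.2 ⟨Q, hQ, hsQ⟩
  obtain ⟨Q, hQ, hPQ⟩ := (Ideal.subset_union_prime_finite (associatedPrimes.finite F X)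
    (f := fun Q : Ideal F => Q.comap (algebraMap S F)) ⊥ ⊥
    (fun Q hQ _ _ => by haveI := hQ.isPrime; exact Ideal.comap_isPrime _ _)).1 hsub
  exact ⟨Q, hQ, hPQ⟩

end ass'

section ff

/-- the localization of `S'` at the fibre-nonzerodivisors of `N` over `p` is faithfully flat over
the corresponding localization of `S`, when `Spec S'` hits all fibre-associated primes over `p`. -/
theorem fiber_faithfullyFlat {R S S' : Type u} [CommRing R] [CommRing S] [CommRing S']
    [Algebra R S] [Algebra S S'] [Algebra.FiniteType R S] [Module.Flat S S']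
    (N : Type u) [AddCommGroup N] [Module S N] [Module R N] [IsScalarTower R S N]
    [Module.Finite S N] (p : Ideal R) [p.IsPrime]
    (h : ∀ (q : Ideal S) [q.IsPrime] [q.LiesOver p],
      FlatCA.fiberIdeal p q ∈ associatedPrimes (p.Fiber S) (FlatCA.fiberMod p S N) →
      ∃ q' : Ideal S', q'.IsPrime ∧ q'.comap (algebraMap S S') = q) :
    Module.FaithfullyFlat (Localization (nonZeroSMulDivisors S (FlatCA.fiberMod p S N)))
      (Localization (nonZeroSMulDivisors S (FlatCA.fiberMod p S N)) ⊗[S] S') := by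
  haveI : IsNoetherianRing (p.Fiber S) :=
    Algebra.FiniteType.isNoetherianRing p.ResidueField (p.Fiber S)
  haveI : Module.Finite (p.Fiber S) (FlatCA.fiberMod p S N) :=
    inferInstanceAs (Module.Finite (p.Fiber S) ((p.Fiber S) ⊗[S] N))
  haveI : IsScalarTower S (p.Fiber S) (FlatCA.fiberMod p S N) :=
    inferInstanceAs (IsScalarTower S (p.Fiber S) ((p.Fiber S) ⊗[S] N))
  apply faithfullyFlat_localization_tensor
  intro P _ hdisj
  have hP : ∀ s ∈ P, ∃ v : FlatCA.fiberMod p S N, v ≠ 0 ∧ s • v = 0 := by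
    intro s hs
    have hns : s ∉ nonZeroSMulDivisors S (FlatCA.fiberMod p S N) :=
      fun h' => (Set.disjoint_left.1 hdisj) h' hs
    rw [mem_nonZeroSMulDivisors_iff] at hns
    push Not at hns
    obtain ⟨v, hv, hv0⟩ := hns
    exact ⟨v, hv0, hv⟩
  obtain ⟨Q, hQ, hPQ⟩ := exists_le_comap_associatedPrime (F := p.Fiber S) P hP
  haveI := hQ.isPrime
  haveI := liesOver_comap_fiber p Q
  obtain ⟨q', hq', hq'q⟩ := h (Q.comap (algebraMap S (p.Fiber S)))
    (by rw [fiberIdeal_comap_eq]; exact hQ)
  refine ⟨q', hq', hq'q ▸ hPQ, ?_⟩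
  rw [hq'q]
  exact disjoint_nonZeroSMulDivisors_of_mem_associatedPrimes _ (comap_mem_associatedPrimes Q hQ)

end ff

section chase'

/-- first half of `lTensor_mk_injective_of_faithfullyFlat`: an element killed by
`N → S' ⊗ N` (after `Q ⊗ -`) is killed by an element of `Sg`. -/
theorem exists_smul_eq_zero_of_faithfullyFlat {R S S' : Type u} [CommRing R] [CommRing S]
    [CommRing S'] [Algebra R S] [Algebra S S'] [Algebra R S'] [IsScalarTower R S S']
    (Sg : Submonoid S)
    [Module.FaithfullyFlat (Localization Sg) (Localization Sg ⊗[S] S')]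
    (N : Type u) [AddCommGroup N] [Module S N] [Module R N] [IsScalarTower R S N]
    (Q : Type u) [AddCommGroup Q] [Module R Q] (z : Q ⊗[R] N)
    (hz : (((TensorProduct.mk S S' N 1).restrictScalars R).lTensor Q) z = 0) :
    ∃ t : Sg, (t : S) • (TensorProduct.comm R Q N z) = 0 := by
  have key : ∀ z' : Q ⊗[R] N,
      (TensorProduct.AlgebraTensorModule.assoc R S S S' N Q)
        (TensorProduct.comm R Q (S' ⊗[S] N)
          ((((TensorProduct.mk S S' N 1).restrictScalars R).lTensor Q) z')) =
      (1 : S') ⊗ₜ[S] (TensorProduct.comm R Q N z') := by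
    intro z'
    induction z' using TensorProduct.induction_on with
    | zero => simp
    | tmul q n => simp
    | add a b ha hb => simp only [map_add, ha, hb, TensorProduct.tmul_add]
  have L1 : (1 : S') ⊗ₜ[S] (TensorProduct.comm R Q N z) = 0 := by
    rw [← key, hz, map_zero, map_zero]
  have L2 : (1 : S') ⊗ₜ[S] (LocalizedModule.mkLinearMap Sg (N ⊗[R] Q)
      (TensorProduct.comm R Q N z)) = 0 := by
    have := congrArg (LinearMap.lTensor S' (LocalizedModule.mkLinearMap Sg (N ⊗[R] Q))) L1
    rwa [LinearMap.lTensor_tmul, map_zero] at this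
  have L3 : (LocalizedModule.mkLinearMap Sg (N ⊗[R] Q) (TensorProduct.comm R Q N z)) ⊗ₜ[S]
      (1 : S') = 0 := by
    have := congrArg (TensorProduct.comm S S' (LocalizedModule Sg (N ⊗[R] Q))) L2
    rwa [TensorProduct.comm_tmul, map_zero] at this
  have L4 : (LocalizedModule.mkLinearMap Sg (N ⊗[R] Q) (TensorProduct.comm R Q N z))
      ⊗ₜ[Localization Sg] ((1 : Localization Sg) ⊗ₜ[S] (1 : S')) = 0 := by
    have := congrArg (TensorProduct.AlgebraTensorModule.cancelBaseChange S (Localization Sg)
      (Localization Sg) (LocalizedModule Sg (N ⊗[R] Q)) S').symm L3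
    rwa [TensorProduct.AlgebraTensorModule.cancelBaseChange_symm_tmul, map_zero] at this
  have L5 : TensorProduct.mk (Localization Sg) (Localization Sg ⊗[S] S')
      (LocalizedModule Sg (N ⊗[R] Q)) 1
      (LocalizedModule.mkLinearMap Sg (N ⊗[R] Q) (TensorProduct.comm R Q N z)) = 0 := by
    have := congrArg (TensorProduct.comm (Localization Sg) (LocalizedModule Sg (N ⊗[R] Q))
      (Localization Sg ⊗[S] S')) L4
    rw [TensorProduct.comm_tmul, map_zero] at this
    rw [TensorProduct.mk_apply, Algebra.TensorProduct.one_def]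
    exact this
  have L6 : LocalizedModule.mkLinearMap Sg (N ⊗[R] Q) (TensorProduct.comm R Q N z) = 0 :=
    Module.FaithfullyFlat.tensorProduct_mk_injective (LocalizedModule Sg (N ⊗[R] Q))
      (L5.trans (map_zero _).symm)
  exact (IsLocalizedModule.eq_zero_iff Sg (LocalizedModule.mkLinearMap Sg (N ⊗[R] Q))).1 L6

end chase'

section atprime

/-- an element of `S` that is a nonzerodivisor on the fibre of `N` over `p = 𝔮 ∩ R` acts
injectively on `N ⊗_R Q` locally at `𝔮`. -/
theorem exists_smul_eq_zero_at_prime {R S : Type u} [CommRing R] [CommRing S] [Algebra R S]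
    [Algebra.FinitePresentation R S]
    (N : Type u) [AddCommGroup N] [Module S N] [Module R N] [IsScalarTower R S N]
    [Module.FinitePresentation S N] [Module.Flat R N]
    (𝔮 : Ideal S) [𝔮.IsPrime] (t : S)
    (ht : t ∈ nonZeroSMulDivisors S (FlatCA.fiberMod (𝔮.comap (algebraMap R S)) S N))
    (Q : Type u) [AddCommGroup Q] [Module R Q] (w : N ⊗[R] Q) (hw : t • w = 0) :
    ∃ t' ∉ 𝔮, t' • w = 0 := by
  classical
  have hfib : ∀ x : N, (LinearMap.lsmul S N t) x ∈
      (𝔮.comap (algebraMap R S)) • (⊤ : Submodule R N) →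
      ∃ t' ∉ 𝔮, t' • x ∈ (𝔮.comap (algebraMap R S)) • (⊤ : Submodule R N) := by
    intro x hx
    refine ⟨1, fun h1 => (inferInstance : 𝔮.IsPrime).ne_top ((Ideal.eq_top_iff_one _).2 h1), ?_⟩
    rw [one_smul]
    have hx' : t • x ∈ (𝔮.comap (algebraMap R S)) • (⊤ : Submodule R N) := hx
    rw [← Groth.Agent.Lib.Helper24.FiberAss.fiber_one_tmul_eq_zero_iff (S := S)] at hx' ⊢
    have h1 : t • (FlatCA.toFiberMod (𝔮.comap (algebraMap R S)) S N x) = 0 := by
      rw [← map_smul]
      exact hx'
    exact (mem_nonZeroSMulDivisors_iff.1 ht) _ h1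
  have hui : ∀ (𝔞 : Ideal R) (x : N), (LinearMap.lsmul S N t) x ∈ 𝔞 • (⊤ : Submodule R N) →
      ∃ t' ∉ 𝔮, t' • x ∈ 𝔞 • (⊤ : Submodule R N) :=
    fun 𝔞 x hx => fp_ui (LinearMap.lsmul S N t) 𝔮 hfib 𝔞 x hx
  haveI : Module.Flat R (LocalizedModule 𝔮.primeCompl N) :=
    Groth.Agent.Lib.Helper85.KollarFlat.flat_localizedModule N 𝔮.primeCompl
  have hmap : ∀ y : LocalizedModule 𝔮.primeCompl N,
      LocalizedModule.map 𝔮.primeCompl (LinearMap.lsmul S N t) y = t • y := by
    intro y
    induction y using LocalizedModule.induction_on with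
    | h n s =>
      rw [LocalizedModule.map_mk, LocalizedModule.smul'_mk]
      rfl
  have hinj : Function.Injective
      (((LocalizedModule.map 𝔮.primeCompl (LinearMap.lsmul S N t)).restrictScalars R).rTensor Q) := by
    rw [← LinearMap.lTensor_inj_iff_rTensor_inj]
    exact lTensor_injective_of_ui _
      (fun 𝔞 y hy => ui_localized (LinearMap.lsmul S N t) 𝔮 hui 𝔞 y hy) Q
  have hsm : ∀ y : LocalizedModule 𝔮.primeCompl N ⊗[R] Q,
      (((LocalizedModule.map 𝔮.primeCompl (LinearMap.lsmul S N t)).restrictScalars R).rTensor Q) y =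
        t • y := by
    intro y
    induction y using TensorProduct.induction_on with
    | zero => simp
    | tmul a b =>
      rw [LinearMap.rTensor_tmul, LinearMap.restrictScalars_apply, hmap, TensorProduct.smul_tmul']
    | add a b ha hb => rw [map_add, ha, hb, smul_add]
  have h1 : TensorProduct.AlgebraTensorModule.rTensor R Q
      (LocalizedModule.mkLinearMap 𝔮.primeCompl N) w = 0 := by
    apply hinj
    rw [hsm, map_zero, ← map_smul, hw, map_zero]
  obtain ⟨t', ht'⟩ := (IsLocalizedModule.eq_zero_iff 𝔮.primeCompl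
    (TensorProduct.AlgebraTensorModule.rTensor R Q (LocalizedModule.mkLinearMap 𝔮.primeCompl N))).1 h1
  exact ⟨t', t'.2, ht'⟩

end atprime

section main

/-- **Global universal injectivity of `N → S' ⊗_S N`** (finitely presented case). -/
theorem fp_univInj_baseChange {R S S' : Type u} [CommRing R] [CommRing S] [CommRing S']
    [Algebra R S] [Algebra S S'] [Algebra R S'] [IsScalarTower R S S']
    [Algebra.FinitePresentation R S] [Module.Flat S S']
    (N : Type u) [AddCommGroup N] [Module S N] [Module R N] [IsScalarTower R S N]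
    [Module.FinitePresentation S N] [Module.Flat R N]
    (h : ∀ (p : Ideal R) (q : Ideal S) [p.IsPrime] [q.IsPrime] [q.LiesOver p],
      FlatCA.fiberIdeal p q ∈ associatedPrimes (p.Fiber S) (FlatCA.fiberMod p S N) →
      ∃ q' : Ideal S', q'.IsPrime ∧ q'.comap (algebraMap S S') = q)
    (Q : Type u) [AddCommGroup Q] [Module R Q] :
    Function.Injective (((TensorProduct.mk S S' N 1).restrictScalars R).lTensor Q) := by
  classical
  rw [injective_iff_map_eq_zero]
  intro z hz
  have hw : TensorProduct.comm R Q N z = 0 := by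
    by_contra hne
    have hI : Ideal.torsionOf S (N ⊗[R] Q) (TensorProduct.comm R Q N z) ≠ ⊤ := by
      intro htop
      apply hne
      have h1 : (1 : S) ∈ Ideal.torsionOf S (N ⊗[R] Q) (TensorProduct.comm R Q N z) := by
        rw [htop]
        exact Submodule.mem_top
      rw [Ideal.mem_torsionOf_iff, one_smul] at h1
      exact h1
    obtain ⟨𝔪, h𝔪, hI𝔪⟩ := Ideal.exists_le_maximal _ hI
    haveI := h𝔪.isPrime
    haveI : Module.FaithfullyFlat
        (Localization (nonZeroSMulDivisors S (FlatCA.fiberMod (𝔪.comap (algebraMap R S)) S N)))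
        (Localization (nonZeroSMulDivisors S (FlatCA.fiberMod (𝔪.comap (algebraMap R S)) S N))
          ⊗[S] S') :=
      fiber_faithfullyFlat N (𝔪.comap (algebraMap R S)) (fun q _ _ hq => h _ q hq)
    obtain ⟨t, ht⟩ := exists_smul_eq_zero_of_faithfullyFlat
      (nonZeroSMulDivisors S (FlatCA.fiberMod (𝔪.comap (algebraMap R S)) S N)) N Q z hz
    obtain ⟨t', ht', h0⟩ := exists_smul_eq_zero_at_prime N 𝔪 (t : S) t.2 Q _ ht
    exact ht' (hI𝔪 ((Ideal.mem_torsionOf_iff _ _).2 h0))
  exact (LinearEquiv.map_eq_zero_iff _).1 hw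

end main

end Groth.Agent.Lib.Helper55.FL
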