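import Mathlib
import Groth.Agent.Lib.Helper55.FL.EssFp
import Groth.Agent.Lib.Helper55.FL.FlatOfUI
import Groth.Agent.Lib.Helper58.NagataFP

/-!
# Fibrewise injectivity criterion over a valuation ring (Stacks 38.25, valuation ring case)

`A` a valuation ring, `A → S` a local homomorphism with `S` a localization of a finitely presented
`A`-algebra, `u : N → M` a map of finite `S`-modules with `M` flat over `A`.  If `u` is injective
modulo the maximal ideal of `A`, then `u` is injective and its cokernel is flat over `A`.
-/

namespace Groth.Agent.Lib.Helper55.FL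

open TensorProduct IsLocalRing

universe u

set_option linter.style.haveILetI false

section valuation

variable {A : Type*} [CommRing A] [IsDomain A] [ValuationRing A]

/-- a flat module over a valuation ring is torsion-free. -/
theorem torsionFree_of_flat_valuationRing
    (M : Type*) [AddCommGroup M] [Module A M] [Module.Flat A M] :
    ∀ a : A, a ≠ 0 → ∀ m : M, a • m = 0 → m = 0 := by
  intro a ha m hm
  have h1 : Submodule.torsion A M = ⊥ :=
    (Module.Flat.flat_iff_torsion_eq_bot_of_isBezout (R := A) (M := M)).mp inferInstance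
  have h2 : m ∈ Submodule.torsion A M := by
    rw [Submodule.mem_torsion_iff]
    exact ⟨⟨a, mem_nonZeroDivisors_of_ne_zero ha⟩, hm⟩
  rw [h1] at h2
  exact (Submodule.mem_bot A).mp h2

/-- Over a valuation ring, every element of `I • ⊤` is a single multiple `a • n` with `a ∈ I`. -/
theorem exists_smul_eq_of_mem_smul_top {N : Type*} [AddCommGroup N] [Module A N] (I : Ideal A)
    {x : N} (hx : x ∈ I • (⊤ : Submodule A N)) : ∃ a ∈ I, ∃ n : N, x = a • n := by
  refine Submodule.smul_induction_on hx ?_ ?_
  · intro r hr n _
    exact ⟨r, hr, n, rfl⟩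
  · rintro x y ⟨a, ha, n, rfl⟩ ⟨b, hb, n', rfl⟩
    rcases ValuationRing.dvd_total a b with ⟨c, rfl⟩ | ⟨c, rfl⟩
    · exact ⟨a, ha, n + c • n', by rw [smul_add, mul_smul]⟩
    · exact ⟨b, hb, c • n + n', by rw [smul_add, mul_smul]⟩

end valuation

section core

variable {A S : Type u} [CommRing A] [IsDomain A] [ValuationRing A] [CommRing S] [IsLocalRing S]
  [Algebra A S] [IsLocalHom (algebraMap A S)]
  {N M : Type u} [AddCommGroup N] [Module S N] [Module A N] [IsScalarTower A S N]
  [Module.Finite S N]
  [AddCommGroup M] [Module S M] [Module A M] [IsScalarTower A S M] [Module.Finite S M]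
  [Module.Flat A M]

theorem val_inj_core
    (hS : ∃ (S₀ : Type u) (_ : CommRing S₀) (_ : Algebra A S₀) (_ : Algebra S₀ S)
      (_ : IsScalarTower A S₀ S) (T : Submonoid S₀),
      Algebra.FinitePresentation A S₀ ∧ IsLocalization T S)
    (u : N →ₗ[S] M)
    (hu : ∀ n : N, u n ∈ (maximalIdeal A) • (⊤ : Submodule A M) →
      n ∈ (maximalIdeal A) • (⊤ : Submodule A N)) :
    Function.Injective u ∧
      Module.Flat A (M ⧸ LinearMap.range (u.restrictScalars A)) := by
  classical
  have htfM := torsionFree_of_flat_valuationRing (A := A) M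
  -- finite presentation of `M` and of the image of `u`
  have hfpM : Module.FinitePresentation S M := by
    obtain ⟨S₀, _, _, _, _, T, hfp, hloc⟩ := hS
    exact Groth.Agent.Lib.Helper58.NagataFP.finitePresentation_of_isLocalization A S₀ T S M htfM
  have htfR : ∀ a : A, a ≠ 0 → ∀ m : LinearMap.range u, a • m = 0 → m = 0 := by
    intro a ha m hm
    apply Subtype.ext
    apply htfM a ha
    have := congrArg Subtype.val hm
    simpa using this
  have hfpR : Module.FinitePresentation S (LinearMap.range u) := by
    obtain ⟨S₀, _, _, _, _, T, hfp, hloc⟩ := hS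
    exact Groth.Agent.Lib.Helper58.NagataFP.finitePresentation_of_isLocalization A S₀ T S
      (LinearMap.range u) htfR
  -- the inclusion of the image is injective modulo the maximal ideal
  have hι : ∀ y : LinearMap.range u,
      (LinearMap.range u).subtype y ∈ (maximalIdeal A) • (⊤ : Submodule A M) →
      y ∈ (maximalIdeal A) • (⊤ : Submodule A (LinearMap.range u)) := by
    rintro ⟨_, n, rfl⟩ hy
    have hn := hu n hy
    have : (⟨u n, n, rfl⟩ : LinearMap.range u) = (u.rangeRestrict.restrictScalars A) n := rfl
    rw [this]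
    exact Submodule.smul_top_le_comap_smul_top _ (u.rangeRestrict.restrictScalars A) hn
  have hui : ∀ (𝔞 : Ideal A) (y : LinearMap.range u),
      ((LinearMap.range u).subtype.restrictScalars A) y ∈ 𝔞 • (⊤ : Submodule A M) →
      y ∈ 𝔞 • (⊤ : Submodule A (LinearMap.range u)) := by
    intro 𝔞 y hy
    exact ess_ui_local hS (LinearMap.range u).subtype hι 𝔞 y hy
  have hflat := flat_quotient_of_ui ((LinearMap.range u).subtype.restrictScalars A) hui
  have hrange : LinearMap.range ((LinearMap.range u).subtype.restrictScalars A) =
      LinearMap.range (u.restrictScalars A) := by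
    ext m
    constructor
    · rintro ⟨⟨_, n, rfl⟩, rfl⟩
      exact ⟨n, rfl⟩
    · rintro ⟨n, rfl⟩
      exact ⟨⟨u n, n, rfl⟩, rfl⟩
  refine ⟨?_, ?_⟩
  · -- injectivity via Nakayama
    rw [← LinearMap.ker_eq_bot]
    have hfg : (LinearMap.ker u).FG := by
      have h1 : (LinearMap.ker u.rangeRestrict).FG :=
        Module.FinitePresentation.fg_ker u.rangeRestrict u.surjective_rangeRestrict
      rwa [LinearMap.ker_rangeRestrict] at h1
    refine Submodule.eq_bot_of_le_smul_of_le_jacobson_bot (maximalIdeal S) _ hfg ?_
      (IsLocalRing.maximalIdeal_le_jacobson _)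
    intro t ht
    have ht0 : u t = 0 := ht
    have h1 : t ∈ (maximalIdeal A) • (⊤ : Submodule A N) := by
      apply hu
      rw [ht0]
      exact zero_mem _
    obtain ⟨a, ha, n, rfl⟩ := exists_smul_eq_of_mem_smul_top _ h1
    by_cases ha0 : a = 0
    · rw [ha0, zero_smul]
      exact zero_mem _
    · have h2 : u n = 0 := by
        apply htfM a ha0
        rw [← ht0, ← algebraMap_smul S a n, map_smul, algebraMap_smul]
      rw [← algebraMap_smul S a n]
      refine Submodule.smul_mem_smul ?_ h2
      have := ((local_hom_TFAE (algebraMap A S)).out 0 4).1 ‹IsLocalHom (algebraMap A S)›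
      rw [← this] at ha
      exact ha
  · rw [← hrange]
    exact hflat

end core

end Groth.Agent.Lib.Helper55.FL
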