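import Groth.Agent.Lib.Helper55.FL.ModInjFibre
import Groth.Agent.Lib.Helper2.SmulEnd
import Groth.Agent.Lib.Helper40.ExtFP1
import Groth.Agent.Lib.Helper21.QCohKernel
import Groth.Agent.Lib.Helper2.FinLocFreeAff
import Groth.Agent.Lib.Lead.CohAff3
import Groth.Agent.Lib.Helper21.CohNoeth

set_option autoImplicit false
set_option linter.style.haveILetI false
set_option linter.unusedSectionVars false
universe u

open AlgebraicGeometry CategoryTheory Limits TopologicalSpace Opposite

namespace Groth.Agent.Lib.Helper55.WReg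

section Alg

open scoped Pointwise

variable {R : Type*} [CommRing R] {M C : Type*} [AddCommGroup M] [Module R M]
  [AddCommGroup C] [Module R C]

/-- If `π : M → C` is surjective with kernel `r M`, then
`(M / I M) / r (M / I M) ≃ C / I C`. -/
noncomputable def quotSMulTopQuotEquiv (π : M →ₗ[R] C) (hπ : Function.Surjective π) (r : R)
    (hker : ∀ m, π m = 0 ↔ ∃ m', r • m' = m) (I : Ideal R) :
    QuotSMulTop r (M ⧸ (I • ⊤ : Submodule R M)) ≃ₗ[R] C ⧸ (I • ⊤ : Submodule R C) := by
  have hmap : (I • ⊤ : Submodule R M).map π = I • ⊤ := by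
    rw [Submodule.map_smul'', Submodule.map_top, LinearMap.range_eq_top.2 hπ]
  let φ : (M ⧸ (I • ⊤ : Submodule R M)) →ₗ[R] C ⧸ (I • ⊤ : Submodule R C) :=
    Submodule.mapQ _ _ π (by rw [← Submodule.map_le_iff_le_comap, hmap])
  have hφ : Function.Surjective φ := by
    intro z
    obtain ⟨c, rfl⟩ := Submodule.Quotient.mk_surjective _ z
    obtain ⟨m, rfl⟩ := hπ c
    exact ⟨Submodule.Quotient.mk m, rfl⟩
  have hk : LinearMap.ker φ = r • (⊤ : Submodule R (M ⧸ (I • ⊤ : Submodule R M))) := by
    ext z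
    obtain ⟨m, rfl⟩ := Submodule.Quotient.mk_surjective _ z
    rw [LinearMap.mem_ker, Submodule.mem_smul_pointwise_iff_exists]
    constructor
    · intro h
      have h1 : π m ∈ (I • ⊤ : Submodule R C) := (Submodule.Quotient.mk_eq_zero _).1 h
      rw [← hmap] at h1
      obtain ⟨m₁, hm₁, hm₁'⟩ := h1
      have h2 : π (m - m₁) = 0 := by rw [map_sub, hm₁', sub_self]
      obtain ⟨m', hm'⟩ := (hker _).1 h2
      refine ⟨Submodule.Quotient.mk m', Submodule.mem_top, ?_⟩
      rw [← Submodule.Quotient.mk_smul, hm', Submodule.Quotient.mk_sub, sub_eq_self]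
      exact (Submodule.Quotient.mk_eq_zero _).2 hm₁
    · rintro ⟨z', -, hz'⟩
      obtain ⟨m', rfl⟩ := Submodule.Quotient.mk_surjective _ z'
      rw [← hz', map_smul]
      change r • Submodule.Quotient.mk (π m') = 0
      rw [← Submodule.Quotient.mk_smul, ← map_smul]
      have : π (r • m') = 0 := (hker _).2 ⟨m', rfl⟩
      rw [this, Submodule.Quotient.mk_zero]
  exact (Submodule.quotEquivOfEq _ _ hk.symm).trans (φ.quotKerEquivOfSurjective hφ)

end Alg


section Sch

open Groth.Agent.Lib.Lead.QCohAff Groth.Agent.Lib.Helper78.ModStalk Groth.Agent.Lib.Helper55.FL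
  Groth.Agent.Lib.Helper2.QCAlgMod

variable {X Y : Scheme.{u}}

theorem stalkMap_smulEnd (c : Γ(X, ⊤)) (M : X.Modules) (x : X) (m : M.presheaf.stalk x) :
    stalkMap (smulEnd c M) x m = X.presheaf.germ ⊤ x trivial c • m := by
  obtain ⟨U, hxU, m', rfl⟩ := M.presheaf.exists_germ_eq (x := x) m
  rw [stalkMap_germ, smulEnd_app, Groth.Agent.Lib.Helper78.ModStalk.germ_smul]
  congr 1
  exact TopCat.Presheaf.germ_res_apply _ _ _ _ _

variable (f : X ⟶ Y) [LocallyOfFinitePresentation f]

theorem isOpen_flat_weaklyRegular (gs : List Γ(X, ⊤)) :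
    ∀ (F : X.Modules) [F.IsQuasicoherent]
      (_ : SheafOfModules.IsFiniteType (R := X.ringCatSheaf) F)
      (_ : SheafOfModules.IsFinitePresentation (R := X.ringCatSheaf) F),
    IsOpen {x : X | FlatMod.IsFlatOverAt f F x ∧ RingTheory.Sequence.IsWeaklyRegular
      (↑(F.presheaf.stalk x) ⧸ (Ideal.map (f.stalkMap x).hom
          (IsLocalRing.maximalIdeal ↑(Y.presheaf.stalk (f x))) •
          (⊤ : Submodule ↑(X.presheaf.stalk x) ↑(F.presheaf.stalk x))))
      (gs.map fun c => X.presheaf.germ ⊤ x trivial c)} := by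
  induction gs with
  | nil =>
    intro F _ hFt hF
    have hset : {x : X | FlatMod.IsFlatOverAt f F x ∧ RingTheory.Sequence.IsWeaklyRegular
        (↑(F.presheaf.stalk x) ⧸ (Ideal.map (f.stalkMap x).hom
          (IsLocalRing.maximalIdeal ↑(Y.presheaf.stalk (f x))) •
          (⊤ : Submodule ↑(X.presheaf.stalk x) ↑(F.presheaf.stalk x))))
        (([] : List Γ(X, ⊤)).map fun c => X.presheaf.germ ⊤ x trivial c)} =
        {x : X | FlatMod.IsFlatOverAt f F x} := by
      ext x
      simp only [Set.mem_ofPred_eq, List.map_nil, and_iff_left_iff_imp]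
      intro _
      exact RingTheory.Sequence.IsWeaklyRegular.nil _ _
    rw [hset]
    exact isOpen_isFlatOverAt f F hF
  | cons c gs ih =>
    intro F _ hFt hF
    haveI : (cokernel (smulEnd c F)).IsQuasicoherent :=
      Groth.Agent.Lib.Helper21.QCohKernel.isQuasicoherent_cokernel (smulEnd c F)
    have hC : SheafOfModules.IsFinitePresentation (R := X.ringCatSheaf)
        (cokernel (smulEnd c F)) :=
      Groth.Agent.Lib.Helper40.ExtFP.isFinitePresentation_cokernel (smulEnd c F) hFt hF
    haveI hepi : Epi (cokernel.π (smulEnd c F)) := coequalizer.π_epi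
    have hCt : SheafOfModules.IsFiniteType (R := X.ringCatSheaf) (cokernel (smulEnd c F)) :=
      @Groth.Agent.Lib.Helper21.CohNoeth.isFiniteType_of_epi _ _ _ (cokernel.π (smulEnd c F)) hepi
        _ _ hFt
    have h1 := isOpen_isFlatOverAt f F hF
    have h2 := isOpen_inj_flat_coker (smulEnd c F) f hF hF
    have h3 := ih (cokernel (smulEnd c F)) hCt hC
    have hset : {x : X | FlatMod.IsFlatOverAt f F x ∧ RingTheory.Sequence.IsWeaklyRegular
        (↑(F.presheaf.stalk x) ⧸ (Ideal.map (f.stalkMap x).hom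
          (IsLocalRing.maximalIdeal ↑(Y.presheaf.stalk (f x))) •
          (⊤ : Submodule ↑(X.presheaf.stalk x) ↑(F.presheaf.stalk x))))
        ((c :: gs).map fun c => X.presheaf.germ ⊤ x trivial c)} =
        ({x : X | FlatMod.IsFlatOverAt f F x} ∩
          {x : X | Function.Injective (stalkMap (smulEnd c F) x) ∧
            FlatMod.IsFlatOverAt f (cokernel (smulEnd c F)) x}) ∩
        {x : X | FlatMod.IsFlatOverAt f (cokernel (smulEnd c F)) x ∧
          RingTheory.Sequence.IsWeaklyRegular
          (↑((cokernel (smulEnd c F)).presheaf.stalk x) ⧸ (Ideal.map (f.stalkMap x).hom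
            (IsLocalRing.maximalIdeal ↑(Y.presheaf.stalk (f x))) •
            (⊤ : Submodule ↑(X.presheaf.stalk x) ↑((cokernel (smulEnd c F)).presheaf.stalk x))))
          (gs.map fun c => X.presheaf.germ ⊤ x trivial c)} := by
      ext x
      have hker : ∀ m, stalkMap (cokernel.π (smulEnd c F)) x m = 0 ↔
          ∃ m', X.presheaf.germ ⊤ x trivial c • m' = m := by
        intro m
        rw [stalk_exact_cokernel (smulEnd c F) x m]
        constructor
        · rintro ⟨m', hm'⟩
          exact ⟨m', by rw [← hm', stalkMap_smulEnd]⟩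
        · rintro ⟨m', hm'⟩
          exact ⟨m', by rw [← hm', stalkMap_smulEnd]⟩
      have e := quotSMulTopQuotEquiv (stalkMap (cokernel.π (smulEnd c F)) x)
        (stalk_surjective_cokernel (smulEnd c F) x) (X.presheaf.germ ⊤ x trivial c) hker
        (Ideal.map (f.stalkMap x).hom (IsLocalRing.maximalIdeal ↑(Y.presheaf.stalk (f x))))
      have hreg : ∀ (hflat : FlatMod.IsFlatOverAt f F x),
          (IsSMulRegular (↑(F.presheaf.stalk x) ⧸ (Ideal.map (f.stalkMap x).hom
            (IsLocalRing.maximalIdeal ↑(Y.presheaf.stalk (f x))) •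
            (⊤ : Submodule ↑(X.presheaf.stalk x) ↑(F.presheaf.stalk x))))
            (X.presheaf.germ ⊤ x trivial c) ↔
          (Function.Injective (stalkMap (smulEnd c F) x) ∧
            FlatMod.IsFlatOverAt f (cokernel (smulEnd c F)) x)) := by
        intro hflat
        rw [inj_flat_coker_iff_fibre f (smulEnd c F) hF hF x hflat,
          isSMulRegular_quotient_iff_mem_of_smul_mem]
        simp only [stalkMap_smulEnd]
      simp only [Set.mem_ofPred_eq, Set.mem_inter_iff, List.map_cons,
        RingTheory.Sequence.isWeaklyRegular_cons_iff]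
      constructor
      · rintro ⟨hfl, hr, hwr⟩
        have h4 := (hreg hfl).1 hr
        exact ⟨⟨hfl, h4⟩, h4.2, (e.isWeaklyRegular_congr _).1 hwr⟩
      · rintro ⟨⟨hfl, h4⟩, -, hwr⟩
        exact ⟨hfl, (hreg hfl).2 h4, (e.isWeaklyRegular_congr _).2 hwr⟩
    rw [hset]
    exact (h1.inter h2).inter h3

end Sch

end Groth.Agent.Lib.Helper55.WReg
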